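import Mathlib
import Cfsg.Agent.H876.SpGen
import Cfsg.Agent.LieClassical.SympPerfect
import Cfsg.Agent.LieClassical.SympSimple
import Cfsg.Agent.H918.TransvTensor
import Cfsg.Agent.H918.UProperTwo

/-!
# `Sp_2m(q)` is in no geometric class member

`spGL m F`, `m ≥ 2`, `(m, |F|) ≠ (2, 2)`: perfect, absolutely irreducible, every normal subgroup is scalar or
everything, and it is contained in no stabiliser of a proper non-zero subspace, no decomposition stabiliser,
no tensor product subgroup, no normaliser of an extension field, no subfield subgroup, no normaliser of a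
non-scalar solvable group of similarities, no similarity group of a quadratic form polarising to the form.
-/

set_option autoImplicit false

namespace Cfsg.Agent.H931

open Cfsg Cfsg.Agent.ClassicalGeometry.SympBasic Cfsg.Agent.H876 Cfsg.Agent.H918
open scoped Matrix MatrixGroups

variable {F : Type*} [Field F] {m : ℕ}

theorem mem_spGL_iff {g : Matrix.GeneralLinearGroup (Fin m ⊕ Fin m) F} :
    g ∈ spGL m F ↔ ∀ u v, sympForm m F ((g : Matrix _ _ F) *ᵥ u) ((g : Matrix _ _ F) *ᵥ v) =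
      sympForm m F u v := Iff.rfl

theorem spToGL_mem (A : Matrix.symplecticGroup (Fin m) F) : spToGL m F A ∈ spGL m F :=
  fun a b => mem_symplecticGroup_iff.1 A.2 a b

theorem coe_spToGL (A : Matrix.symplecticGroup (Fin m) F) :
    ((spToGL m F A : Matrix.GeneralLinearGroup (Fin m ⊕ Fin m) F) :
      Matrix (Fin m ⊕ Fin m) (Fin m ⊕ Fin m) F) =
      (A : Matrix (Fin m ⊕ Fin m) (Fin m ⊕ Fin m) F) := rfl

theorem exists_spToGL {g : Matrix.GeneralLinearGroup (Fin m ⊕ Fin m) F} (hg : g ∈ spGL m F) :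
    ∃ A, spToGL m F A = g := by
  refine ⟨⟨(g : Matrix (Fin m ⊕ Fin m) (Fin m ⊕ Fin m) F),
    mem_symplecticGroup_iff.2 (mem_spGL_iff.1 hg)⟩, ?_⟩
  apply Units.ext
  rfl

theorem map_spToGL_top : (⊤ : Subgroup (Matrix.symplecticGroup (Fin m) F)).map (spToGL m F) =
    spGL m F := by
  ext g
  constructor
  · rintro ⟨A, -, rfl⟩
    exact spToGL_mem A
  · intro hg
    obtain ⟨A, hA⟩ := exists_spToGL hg
    exact ⟨A, Subgroup.mem_top A, hA⟩

theorem spGL_perfect [Fintype F] (h : 3 ≤ m ∨ (m = 2 ∧ 3 ≤ Fintype.card F) ∨ 4 ≤ Fintype.card F) :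
    ⁅spGL m F, spGL m F⁆ = spGL m F := by
  conv_rhs => rw [← map_spToGL_top, ← Cfsg.Agent.LieClassical.SympPerfect.commutator_eq_top h]
  rw [← map_spToGL_top, ← Subgroup.map_commutator]
  rfl

theorem exc_cases [Fintype F] (hm : 2 ≤ m) (hex : ¬ (m = 2 ∧ Fintype.card F = 2)) :
    3 ≤ m ∨ (m = 2 ∧ 3 ≤ Fintype.card F) ∨ 4 ≤ Fintype.card F := by
  rcases Nat.lt_or_ge m 3 with h | h
  · have h2 : m = 2 := by omega
    have h3 : 1 < Fintype.card F := Fintype.one_lt_card
    right; left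
    refine ⟨h2, ?_⟩
    by_contra hcon
    exact hex ⟨h2, by omega⟩
  · exact Or.inl h

theorem spGL_perfect' [Fintype F] (hm : 2 ≤ m) (hex : ¬ (m = 2 ∧ Fintype.card F = 2)) :
    ⁅spGL m F, spGL m F⁆ = spGL m F :=
  spGL_perfect (exc_cases hm hex)

/-- Normal subgroups of `Sp_2m(F)`: scalar or everything. -/
theorem spGL_normal [Fintype F] (h : 3 ≤ m ∨ (m = 2 ∧ 3 ≤ Fintype.card F) ∨ 4 ≤ Fintype.card F)
    {N : Subgroup (Matrix.GeneralLinearGroup (Fin m ⊕ Fin m) F)} (hN : N ≤ spGL m F)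
    (hnorm : ∀ g ∈ spGL m F, ∀ x ∈ N, g * x * g⁻¹ ∈ N) :
    N ≤ Geo.scalars (Fin m ⊕ Fin m) F ∨ N = spGL m F := by
  have hNn : (N.comap (spToGL m F)).Normal := by
    refine ⟨fun x hx g => ?_⟩
    rw [Subgroup.mem_comap] at hx ⊢
    rw [map_mul, map_mul, map_inv]
    exact hnorm _ (spToGL_mem g) _ hx
  by_cases hc : N.comap (spToGL m F) ≤ Subgroup.center _
  · left
    intro x hx
    obtain ⟨A, rfl⟩ := exists_spToGL (hN hx)
    have hA : A ∈ Subgroup.center (Matrix.symplecticGroup (Fin m) F) := hc hx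
    rw [Geo.mem_scalars_iff]
    -- A commutes with all transvections
    have key : ∀ v : Fin m ⊕ Fin m → F, ∃ a : F,
        (A : Matrix (Fin m ⊕ Fin m) (Fin m ⊕ Fin m) F) *ᵥ v = a • v := by
      intro v
      by_cases hv : v = 0
      · exact ⟨1, by rw [hv, Matrix.mulVec_zero, smul_zero]⟩
      obtain ⟨w, hw⟩ : ∃ w, sympForm m F w v ≠ 0 := by
        by_contra hcon
        push Not at hcon
        exact hv (eq_zero_of_forall_sympForm_left hcon)
      have h1 := (Subgroup.mem_center_iff.1 hA) (transv v (1 : F))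
      have h2 := congrArg (fun B : Matrix.symplecticGroup (Fin m) F =>
        (B : Matrix (Fin m ⊕ Fin m) (Fin m ⊕ Fin m) F) *ᵥ w) h1
      simp only [coe_mul_mulVec, coe_transv, sympTransvection_mulVec, Matrix.mulVec_add,
        Matrix.mulVec_smul, one_mul] at h2
      have h3 := add_left_cancel h2
      refine ⟨(sympForm m F w v)⁻¹ * sympForm m F
        ((A : Matrix (Fin m ⊕ Fin m) (Fin m ⊕ Fin m) F) *ᵥ w) v, ?_⟩
      rw [mul_smul, h3, smul_smul, inv_mul_cancel₀ hw, one_smul]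
    choose a ha using key
    have hk : ∀ v w, v ≠ 0 → w ≠ 0 → a v = a w := by
      have h1 : ∀ v w, sympForm m F v w ≠ 0 → a v * a w = 1 := by
        intro v w hvw
        have h := sympForm_mulVec A.2 v w
        rw [ha v, ha w, sympForm_smul_left, sympForm_smul_right, ← mul_assoc] at h
        exact mul_right_cancel₀ hvw (h.trans (one_mul _).symm)
      intro v w hv hw
      obtain ⟨z, hz1, hz2⟩ := exists_both_ne_zero hv hw
      have e1 := h1 v z hz1
      have e2 := h1 w z hz2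
      have hz : a z ≠ 0 := right_ne_zero_of_mul_eq_one e1
      exact mul_right_cancel₀ hz (e1.trans e2.symm)
    by_cases hm0 : m = 0
    · subst hm0
      exact ⟨1, by ext i; exact i.elim (fun i => i.elim0) (fun i => i.elim0)⟩
    · let i0 : Fin m := ⟨0, by omega⟩
      let v0 : Fin m ⊕ Fin m → F := Pi.single (Sum.inl i0) 1
      have hv0 : v0 ≠ 0 := by
        intro h0
        have := congrFun h0 (Sum.inl i0)
        simp [v0] at this
      have hall : ∀ v, (A : Matrix (Fin m ⊕ Fin m) (Fin m ⊕ Fin m) F) *ᵥ v = a v0 • v := by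
        intro v
        by_cases hv : v = 0
        · rw [hv, Matrix.mulVec_zero, smul_zero]
        · rw [ha v, hk v v0 hv hv0]
      have ha0 : a v0 ≠ 0 := by
        intro h0
        have h1 := hall v0
        rw [h0, zero_smul] at h1
        have h2 := mulVec_ne_zero (spToGL m F A) hv0
        exact h2 h1
      refine ⟨Units.mk0 (a v0) ha0, ?_⟩
      rw [Units.val_mk0, coe_spToGL]
      apply Matrix.ext_of_mulVec_single
      intro i
      rw [hall, Matrix.smul_mulVec, Matrix.one_mulVec]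
  · right
    have h1 := Cfsg.Agent.LieClassical.SympSimple.commutator_le_of_not_le_center
      (F := F) (m := m) (by
        have := Cfsg.Agent.S0765.result (F := F) m
        exact this) (N.comap (spToGL m F)) hc
    rw [Cfsg.Agent.LieClassical.SympPerfect.commutator_eq_top h] at h1
    apply le_antisymm hN
    rw [← map_spToGL_top]
    exact (Subgroup.map_le_iff_le_comap).2 h1

/-! ### rank one elements, irreducibility -/

theorem coe_tGL (v : Fin m ⊕ Fin m → F) (c : F) :
    (tGL v c : Matrix (Fin m ⊕ Fin m) (Fin m ⊕ Fin m) F) = sympTransvection m v c := rfl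

theorem tGL_isRankOne {v : Fin m ⊕ Fin m → F} {c : F} (hv : v ≠ 0) (hc : c ≠ 0) :
    IsRankOneElt (tGL v c) := by
  refine ⟨c • v, fun j => sympForm m F (Pi.single j 1) v, smul_ne_zero hc hv, ?_, ?_⟩
  · intro h0
    apply hv
    apply eq_zero_of_forall_sympForm_left
    intro u
    have hu : u = ∑ j, u j • (Pi.single j (1 : F) : Fin m ⊕ Fin m → F) := by
      funext j
      simp [Finset.sum_apply, Pi.single_apply]
    have h1 : sympForm m F u v = ∑ j, u j * sympForm m F (Pi.single j 1) v := by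
      conv_lhs => rw [hu]
      have : ∀ s : Finset (Fin m ⊕ Fin m), sympForm m F
          (∑ j ∈ s, u j • (Pi.single j (1 : F) : Fin m ⊕ Fin m → F)) v =
          ∑ j ∈ s, u j * sympForm m F (Pi.single j 1) v := by
        intro s
        induction s using Finset.induction_on with
        | empty => simp
        | insert a s ha ih =>
          rw [Finset.sum_insert ha, Finset.sum_insert ha, sympForm_add_left, ih,
            sympForm_smul_left]
      exact this _
    rw [h1]
    apply Finset.sum_eq_zero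
    intro j _
    have := congrFun h0 j
    simp only [Pi.zero_apply] at this
    rw [this, mul_zero]
  · apply Matrix.ext_of_mulVec_single
    intro j
    rw [tGL_mulVec, Matrix.add_mulVec, Matrix.one_mulVec, Matrix.vecMulVec_mulVec,
      op_smul_eq_smul]
    congr 1
    rw [smul_smul]
    congr 1
    rw [mul_comm]
    congr 1
    simp

theorem tGL_eq_one_of_zero {v : Fin m ⊕ Fin m → F} {c : F} (h0 : v = 0 ∨ c = 0) : tGL v c = 1 := by
  apply gl_ext
  intro u
  rw [tGL_mulVec]
  rcases h0 with rfl | rfl <;> simp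

theorem spGL_le_closure_rankOne :
    spGL m F ≤ Subgroup.closure {g | g ∈ spGL m F ∧ IsRankOneElt g} := by
  apply spGL_le
  intro v c
  by_cases h0 : v = 0 ∨ c = 0
  · rw [tGL_eq_one_of_zero h0]
    exact one_mem _
  · push Not at h0
    exact Subgroup.subset_closure ⟨tGL_mem v c, tGL_isRankOne h0.1 h0.2⟩

theorem exists_spGL_mulVec_eq {x y : Fin m ⊕ Fin m → F} (hx : x ≠ 0) (hy : y ≠ 0) :
    ∃ g ∈ spGL m F, (g : Matrix _ _ F) *ᵥ x = y := by
  obtain ⟨A, -, hA⟩ := exists_transvGroup_mulVec_eq hx hy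
  exact ⟨spToGL m F A, spToGL_mem A, hA⟩

theorem spGL_irreducible : Geo.ActsIrreducibly (Geo.matrixSet (spGL m F)) := by
  intro W hW
  by_cases hW0 : W = ⊥
  · exact Or.inl hW0
  right
  obtain ⟨w, hw, hw0⟩ := Submodule.exists_mem_ne_zero_of_ne_bot hW0
  rw [eq_top_iff]
  intro x _
  by_cases hx : x = 0
  · rw [hx]; exact W.zero_mem
  obtain ⟨g, hg, hgx⟩ := exists_spGL_mulVec_eq hw0 hx
  have := hW _ ⟨g, hg, rfl⟩ ⟨w, hw, rfl⟩
  rw [Matrix.toLin'_apply] at this
  rw [← hgx]
  exact this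

theorem spGL_absIrreducible (hm : 1 ≤ m) :
    Geo.ActsAbsolutelyIrreducibly (Geo.matrixSet (spGL m F)) := by
  refine ⟨spGL_irreducible, ?_⟩
  intro M hM
  have hcomm : ∀ g ∈ spGL m F, M * (g : Matrix (Fin m ⊕ Fin m) (Fin m ⊕ Fin m) F) =
      (g : Matrix _ _ F) * M := fun g hg => hM _ ⟨g, hg, rfl⟩
  let i0 : Fin m := ⟨0, by omega⟩
  let v0 : Fin m ⊕ Fin m → F := Pi.single (Sum.inl i0) 1
  have hv0 : v0 ≠ 0 := by
    intro h0
    have := congrFun h0 (Sum.inl i0)
    simp [v0] at this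
  obtain ⟨w, hw⟩ : ∃ w, sympForm m F w v0 ≠ 0 := by
    by_contra hcon
    push Not at hcon
    exact hv0 (eq_zero_of_forall_sympForm_left hcon)
  have h1 : M *ᵥ ((tGL v0 (1 : F) : Matrix _ _ F) *ᵥ w) =
      (tGL v0 (1 : F) : Matrix _ _ F) *ᵥ (M *ᵥ w) := by
    rw [Matrix.mulVec_mulVec, Matrix.mulVec_mulVec, hcomm _ (tGL_mem v0 1)]
  rw [tGL_mulVec, tGL_mulVec, Matrix.mulVec_add, Matrix.mulVec_smul, one_mul, one_mul] at h1
  have h2 := add_left_cancel h1
  set d : F := (sympForm m F w v0)⁻¹ * sympForm m F (M *ᵥ w) v0 with hd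
  have h3 : M *ᵥ v0 = d • v0 := by
    rw [hd, mul_smul, ← h2, smul_smul, inv_mul_cancel₀ hw, one_smul]
  refine ⟨d, ?_⟩
  have hall : ∀ x, M *ᵥ x = d • x := by
    intro x
    by_cases hx : x = 0
    · rw [hx, Matrix.mulVec_zero, smul_zero]
    obtain ⟨g, hg, hgx⟩ := exists_spGL_mulVec_eq hv0 hx
    rw [← hgx, Matrix.mulVec_mulVec, hcomm g hg, ← Matrix.mulVec_mulVec, h3, Matrix.mulVec_smul]
  apply Matrix.ext_of_mulVec_single
  intro i
  rw [hall, Matrix.smul_mulVec, Matrix.one_mulVec]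

theorem exists_rankOne_mem_spGL (hm : 1 ≤ m) : ∃ g ∈ spGL m F, IsRankOneElt g := by
  let i0 : Fin m := ⟨0, by omega⟩
  have hv0 : (Pi.single (Sum.inl i0) 1 : Fin m ⊕ Fin m → F) ≠ 0 := by
    intro h0
    have := congrFun h0 (Sum.inl i0)
    simp at this
  exact ⟨_, tGL_mem _ _, tGL_isRankOne hv0 one_ne_zero⟩

/-! ### The classes -/

theorem spGL_not_le_subspaceStabilizer {W : Submodule F (Fin m ⊕ Fin m → F)}
    (hW : W ≠ ⊥) (hW' : W ≠ ⊤) : ¬ spGL m F ≤ Geo.subspaceStabilizer W :=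
  not_le_subspaceStabilizer spGL_irreducible hW hW'

theorem spGL_not_le_decompositionStabilizer [Fintype F]
    (h : 3 ≤ m ∨ (m = 2 ∧ 3 ≤ Fintype.card F) ∨ 4 ≤ Fintype.card F) {t k : ℕ}
    {D : Fin t → Submodule F (Fin m ⊕ Fin m → F)} (hD : Geo.IsMDecomposition k D) :
    ¬ spGL m F ≤ Geo.decompositionStabilizer D :=
  not_le_decompositionStabilizer (spGL_perfect h) spGL_le_closure_rankOne spGL_irreducible hD

theorem spGL_not_le_subalgebraNormalizer [Fintype F] (hm : 1 ≤ m)
    (h : 3 ≤ m ∨ (m = 2 ∧ 3 ≤ Fintype.card F) ∨ 4 ≤ Fintype.card F) {r : ℕ} (hr : 2 ≤ r)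
    {K : Subalgebra F (Matrix (Fin m ⊕ Fin m) (Fin m ⊕ Fin m) F)} (hK : Geo.IsFieldSubalgebra r K) :
    ¬ spGL m F ≤ Geo.subalgebraNormalizer K :=
  not_le_subalgebraNormalizer (spGL_perfect h) (spGL_absIrreducible hm) hr hK

theorem spGL_not_le_tensorProductSubgroup (hm : 1 ≤ m) {n₁ n₂ : ℕ} (h₁ : 2 ≤ n₁) (h₂ : 2 ≤ n₂)
    (e : Fin m ⊕ Fin m ≃ Fin n₁ × Fin n₂) (P : Matrix.GeneralLinearGroup (Fin m ⊕ Fin m) F) :
    ¬ spGL m F ≤ Geo.tensorProductSubgroup n₁ n₂ e P := by
  obtain ⟨g, hg, hg'⟩ := exists_rankOne_mem_spGL (F := F) hm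
  exact not_le_tensorProductSubgroup hg hg' h₁ h₂ e P

/-- `Sp_2m(q)` is in no subfield group for a proper subfield. -/
theorem spGL_not_le_subfieldSubgroup [Fintype F] (hm : 1 ≤ m)
    (h : 3 ≤ m ∨ (m = 2 ∧ 3 ≤ Fintype.card F) ∨ 4 ≤ Fintype.card F) {F₀ : Subfield F}
    (hF₀ : F₀ ≠ ⊤) (P : Matrix.GeneralLinearGroup (Fin m ⊕ Fin m) F) :
    ¬ spGL m F ≤ Geo.subfieldSubgroup F₀ P := by
  intro hle
  have htr : ∀ g ∈ spGL m F, Matrix.trace (g : Matrix (Fin m ⊕ Fin m) (Fin m ⊕ Fin m) F) ∈ F₀ := by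
    intro g hg
    apply trace_mem_of_mem_map (P := P)
    apply commutator_subfieldSubgroup_le F₀ P
    apply Subgroup.commutator_mono hle hle
    rw [spGL_perfect h]
    exact hg
  let i0 : Fin m := ⟨0, by omega⟩
  set v : Fin m ⊕ Fin m → F := Pi.single (Sum.inl i0) 1 with hv
  set w : Fin m ⊕ Fin m → F := Pi.single (Sum.inr i0) 1 with hw
  have hvw : sympForm m F v w ≠ 0 := by
    rw [hv, sympForm_single_inl_left, hw]
    simp
  -- the rank one parts
  have hform : ∀ (x : Fin m ⊕ Fin m → F) (c : F), ∃ z : Fin m ⊕ Fin m → F,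
      (tGL x c : Matrix (Fin m ⊕ Fin m) (Fin m ⊕ Fin m) F) = 1 + c • Matrix.vecMulVec x z ∧
      ∀ y, z ⬝ᵥ y = sympForm m F y x := by
    intro x c
    have hz : ∀ y, (fun j => sympForm m F (Pi.single j 1) x) ⬝ᵥ y = sympForm m F y x := by
      intro y
      have hu : y = ∑ j, y j • (Pi.single j (1 : F) : Fin m ⊕ Fin m → F) := by
        funext j
        simp [Finset.sum_apply, Pi.single_apply]
      conv_rhs => rw [hu]
      have : ∀ s : Finset (Fin m ⊕ Fin m), sympForm m F
          (∑ j ∈ s, y j • (Pi.single j (1 : F) : Fin m ⊕ Fin m → F)) x =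
          ∑ j ∈ s, y j * sympForm m F (Pi.single j 1) x := by
        intro s
        induction s using Finset.induction_on with
        | empty => simp
        | insert a s ha ih =>
          rw [Finset.sum_insert ha, Finset.sum_insert ha, sympForm_add_left, ih,
            sympForm_smul_left]
      rw [this, dotProduct]
      exact Finset.sum_congr rfl fun j _ => mul_comm _ _
    refine ⟨fun j => sympForm m F (Pi.single j 1) x, ?_, hz⟩
    apply Matrix.ext_of_mulVec_single
    intro j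
    rw [tGL_mulVec, Matrix.add_mulVec, Matrix.one_mulVec, Matrix.smul_mulVec, Matrix.vecMulVec_mulVec,
      op_smul_eq_smul, hz, mul_smul]
  apply hF₀
  rw [eq_top_iff]
  intro a _
  have hsq : sympForm m F v w * sympForm m F w v ≠ 0 := by
    apply mul_ne_zero hvw
    rw [sympForm_swap]
    exact neg_ne_zero.2 hvw
  set c : F := a / (sympForm m F v w * sympForm m F w v) with hc
  obtain ⟨z, hz, hzy⟩ := hform v 1
  obtain ⟨z', hz', hzy'⟩ := hform w c
  have t₁ := htr _ (tGL_mem v 1)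
  have t₂ := htr _ (tGL_mem w c)
  have t₁₂ := htr _ ((spGL m F).mul_mem (tGL_mem v 1) (tGL_mem w c))
  have h1 : Matrix.trace (1 : Matrix (Fin m ⊕ Fin m) (Fin m ⊕ Fin m) F) ∈ F₀ := by
    rw [Matrix.trace_one]
    exact natCast_mem F₀ _
  have e : a = Matrix.trace ((tGL v 1 * tGL w c : Matrix.GeneralLinearGroup (Fin m ⊕ Fin m) F) :
      Matrix (Fin m ⊕ Fin m) (Fin m ⊕ Fin m) F) -
      Matrix.trace (tGL v 1 : Matrix (Fin m ⊕ Fin m) (Fin m ⊕ Fin m) F) -
      Matrix.trace (tGL w c : Matrix (Fin m ⊕ Fin m) (Fin m ⊕ Fin m) F) +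
      Matrix.trace (1 : Matrix (Fin m ⊕ Fin m) (Fin m ⊕ Fin m) F) := by
    rw [Units.val_mul, hz, hz', ← Matrix.trace_sub, ← Matrix.trace_sub, ← Matrix.trace_add]
    have : (1 + (1 : F) • Matrix.vecMulVec v z) * (1 + c • Matrix.vecMulVec w z') -
        (1 + (1 : F) • Matrix.vecMulVec v z) - (1 + c • Matrix.vecMulVec w z') + 1 =
        c • (Matrix.vecMulVec v z * Matrix.vecMulVec w z') := by
      simp only [one_smul, mul_add, add_mul, mul_one, one_mul, Matrix.mul_smul]
      abel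
    rw [this, Matrix.trace_smul, Matrix.vecMulVec_mul_vecMulVec, Matrix.trace_vecMulVec]
    have hwv : sympForm m F w v ≠ 0 := right_ne_zero_of_mul hsq
    simp only [smul_dotProduct, smul_eq_mul, hzy, dotProduct_comm v, hzy', hc]
    field_simp
  rw [e]
  exact F₀.add_mem (F₀.sub_mem (F₀.sub_mem t₁₂ t₁) t₂) h1

/-- Conjugates by similarities preserve `Sp_2m(q)`. -/
theorem conj_mem_spGL {r : Matrix.GeneralLinearGroup (Fin m ⊕ Fin m) F}
    (hr : r ∈ Geo.similarityGroup (sympForm m F)) {g : Matrix.GeneralLinearGroup (Fin m ⊕ Fin m) F}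
    (hg : g ∈ spGL m F) : r * g * r⁻¹ ∈ spGL m F := by
  rw [mem_spGL_iff] at hg ⊢
  obtain ⟨c, hc⟩ := hr
  intro u v
  rw [mul_mulVec, mul_mulVec, mul_mulVec, mul_mulVec, hc, hg, ← hc, mulVec_inv_cancel,
    mulVec_inv_cancel]

/-- `Sp_2m(q)` normalises no non-scalar solvable group of similarities. -/
theorem spGL_not_le_subgroupNormalizer [Fintype F] (hm : 1 ≤ m)
    (h : 3 ≤ m ∨ (m = 2 ∧ 3 ≤ Fintype.card F) ∨ 4 ≤ Fintype.card F)
    {R : Subgroup (Matrix.GeneralLinearGroup (Fin m ⊕ Fin m) F)}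
    (hR : R ≤ Geo.similarityGroup (sympForm m F)) (hsolv : Group.IsSolvable R)
    (hRs : ¬ R ≤ Geo.scalars (Fin m ⊕ Fin m) F) : ¬ spGL m F ≤ Geo.subgroupNormalizer R := by
  have : Nonempty (Fin m ⊕ Fin m) := ⟨Sum.inl ⟨0, by omega⟩⟩
  exact not_le_subgroupNormalizer (spGL_perfect h)
    (fun N hN hnorm => spGL_normal h hN hnorm) (spGL_absIrreducible hm)
    (fun r hr g hg => conj_mem_spGL (hR hr) hg) hsolv hRs

/-- `Sp_2m(q)`, `m ≥ 2`, preserves no quadratic form up to scalars polarising to the form. -/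
theorem spGL_not_le_quadSimilarityGroup (hm : 2 ≤ m) {Q : (Fin m ⊕ Fin m → F) → F}
    (hpol : ∀ u v, QuadraticMap.polar Q u v = sympForm m F u v)
    (hsm : ∀ (c : F) v, Q (c • v) = c ^ 2 * Q v) :
    ¬ spGL m F ≤ Geo.quadSimilarityGroup Q := by
  intro hle
  have hQ0 : Q 0 = 0 := by
    have := hsm 0 0
    simpa using this
  have hadd : ∀ u v, Q (u + v) = Q u + Q v + sympForm m F u v := by
    intro u v
    rw [← hpol, QuadraticMap.polar]
    ring
  let i0 : Fin m := ⟨0, by omega⟩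
  let i1 : Fin m := ⟨1, by omega⟩
  have h01 : i0 ≠ i1 := by simp [i0, i1]
  -- transvection formula
  have key : ∀ (v : Fin m ⊕ Fin m → F) (c : F), ∃ l : F, l ≠ 0 ∧ ∀ x,
      Q x + sympForm m F x v ^ 2 * (c + c ^ 2 * Q v) = l * Q x := by
    intro v c
    obtain ⟨l, hl⟩ := hle (tGL_mem v c)
    refine ⟨l, l.ne_zero, fun x => ?_⟩
    rw [← hl x, tGL_mulVec, hadd, hsm, sympForm_smul_right]
    ring
  -- all nonzero vectors with the same value up to ...
  set e0 : Fin m ⊕ Fin m → F := Pi.single (Sum.inl i0) 1 with he0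
  set f0 : Fin m ⊕ Fin m → F := Pi.single (Sum.inr i0) 1 with hf0
  set e1 : Fin m ⊕ Fin m → F := Pi.single (Sum.inl i1) 1 with he1
  set f1 : Fin m ⊕ Fin m → F := Pi.single (Sum.inr i1) 1 with hf1
  have hne0 : e0 ≠ 0 := by
    intro h0
    have := congrFun h0 (Sum.inl i0)
    simp [he0] at this
  have hne1 : e1 ≠ 0 := by
    intro h0
    have := congrFun h0 (Sum.inl i1)
    simp [he1] at this
  have hf : sympForm m F e0 f0 ≠ 0 := by
    rw [he0, sympForm_single_inl_left, hf0]
    simp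
  have hee : sympForm m F e0 e1 = 0 := by
    rw [he0, sympForm_single_inl_left, he1]
    simp
  have hef : sympForm m F e1 f0 = 0 := by
    rw [he1, sympForm_single_inl_left, hf0]
    simp [h01]
  -- the values of `Q` on nonzero vectors are all zero or all nonzero
  by_cases hex : ∃ v, v ≠ 0 ∧ Q v = 0
  · obtain ⟨v, hv, hQv⟩ := hex
    have hall : ∀ w, Q w = 0 := by
      intro w
      by_cases hw : w = 0
      · rw [hw, hQ0]
      obtain ⟨g, hg, hgw⟩ := exists_spGL_mulVec_eq hv hw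
      obtain ⟨l, hl⟩ := hle hg
      rw [← hgw, hl, hQv, mul_zero]
    have h1 := hadd e0 f0
    rw [hall, hall, hall] at h1
    apply hf
    simpa using h1.symm
  · push Not at hex
    have hall : ∀ w, w ≠ 0 → Q w = -1 := by
      intro w hw
      have hw' := hex w hw
      obtain ⟨l, hl0, hl⟩ := key w 1
      have h1 := hl w
      rw [sympForm_self] at h1
      have hl1 : l = 1 := by
        have h2 : Q w = l * Q w := by
          simpa using h1
        field_simp at h2
        exact h2.symm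
      obtain ⟨y, hy⟩ : ∃ y, sympForm m F y w ≠ 0 := by
        by_contra hcon
        push Not at hcon
        exact hw (eq_zero_of_forall_sympForm_left hcon)
      have h2 := hl y
      rw [hl1, one_mul] at h2
      have h3 : sympForm m F y w ^ 2 * (1 + Q w) = 0 := by
        linear_combination h2
      rcases mul_eq_zero.1 h3 with h5 | h5
      · exact absurd h5 (pow_ne_zero 2 hy)
      · linear_combination h5
    have hsum : e0 + e1 ≠ 0 := by
      intro h0
      have := congrFun h0 (Sum.inl i0)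
      simp [he0, he1, h01] at this
    have h1 := hadd e0 e1
    rw [hall _ hne0, hall _ hne1, hall _ hsum, hee] at h1
    have h2 : (1 : F) = 0 := by linear_combination h1
    exact one_ne_zero h2

end Cfsg.Agent.H931
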