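import Mathlib
import Cfsg.Agent.H931.SpProper
import Cfsg.Agent.H918.UWrap
import Cfsg.Agent.H918.TransvWreath
import Cfsg.Agent.H924.SympForm
import Cfsg.Agent.GpSp.Iso

/-!
# Maximal subgroups of `Sp_2m(q)`: from containment in a class member to equality

`symplectic_maximal_cases`: if `H` is maximal in `Sp_2m(q)` (`m ≥ 2`, `(m, q) ≠ (2, 2)`) and `H` lies in a
member of `InSymplecticClass` or in the residual class, then `H` is one of the listed intersections, with the
arithmetic conditions on the parameters made explicit.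
-/

set_option autoImplicit false

namespace Cfsg.Agent.H931

open Cfsg Cfsg.Agent.ClassicalGeometry.SympBasic Cfsg.Agent.H876 Cfsg.Agent.H918
open scoped Matrix MatrixGroups

variable {F : Type*} [Field F] [Fintype F] {m : ℕ}

theorem card_sum_fin : Fintype.card (Fin m ⊕ Fin m) = 2 * m := by
  rw [Fintype.card_sum, Fintype.card_fin]
  ring

/-- A maximal subgroup of `Sp_2m(q)` does not cover `PSp_2m(q)`. -/
theorem spGL_sup_scalars_ne (h : 3 ≤ m ∨ (m = 2 ∧ 3 ≤ Fintype.card F) ∨ 4 ≤ Fintype.card F)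
    {H : Subgroup (Matrix.GeneralLinearGroup (Fin m ⊕ Fin m) F)}
    (hH : Geo.IsMaximalIn (spGL m F) H) :
    H ⊔ (Geo.scalars (Fin m ⊕ Fin m) F ⊓ spGL m F) ≠ spGL m F := by
  intro heq
  have hle : ⁅spGL m F, spGL m F⁆ ≤ H := by
    conv_lhs => rw [← heq]
    rw [Subgroup.commutator_le]
    have hZ : ∀ a ∈ H ⊔ (Geo.scalars (Fin m ⊕ Fin m) F ⊓ spGL m F),
        ∃ h ∈ H, ∃ z ∈ Geo.scalars (Fin m ⊕ Fin m) F, a = h * z := by
      intro a ha
      have hle' : H ⊔ (Geo.scalars (Fin m ⊕ Fin m) F ⊓ spGL m F) ≤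
          H ⊔ Geo.scalars (Fin m ⊕ Fin m) F :=
        sup_le_sup_left inf_le_left _
      obtain ⟨h, hh, z, hz, rfl⟩ := Subgroup.mem_sup_of_normal_right.1 (hle' ha)
      exact ⟨h, hh, z, hz, rfl⟩
    intro a ha b hb
    obtain ⟨h, hh, z, hz, rfl⟩ := hZ a ha
    obtain ⟨h', hh', z', hz', rfl⟩ := hZ b hb
    have c1 := commute_of_mem_scalars hz
    have c2 := commute_of_mem_scalars hz'
    rw [commutatorElement_def]
    have : h * z * (h' * z') * (h * z)⁻¹ * (h' * z')⁻¹ = h * h' * h⁻¹ * h'⁻¹ := by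
      rw [mul_inv_rev, mul_inv_rev]
      calc h * z * (h' * z') * (z⁻¹ * h⁻¹) * (z'⁻¹ * h'⁻¹)
          = h * (z * (h' * z' * z⁻¹)) * h⁻¹ * z'⁻¹ * h'⁻¹ := by group
        _ = h * ((h' * z' * z⁻¹) * z) * h⁻¹ * z'⁻¹ * h'⁻¹ := by rw [c1]
        _ = h * h' * (z' * h⁻¹) * z'⁻¹ * h'⁻¹ := by group
        _ = h * h' * (h⁻¹ * z') * z'⁻¹ * h'⁻¹ := by rw [c2]
        _ = h * h' * h⁻¹ * h'⁻¹ := by group
    rw [this]
    exact H.mul_mem (H.mul_mem (H.mul_mem hh hh') (H.inv_mem hh)) (H.inv_mem hh')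
  rw [spGL_perfect h] at hle
  exact absurd hH.1 (not_lt_of_ge hle)

/-- The members of a non-degenerate decomposition of an alternating form have even dimension. -/
theorem even_of_isNondegenerateOn {F : Type*} [Field F] {ι : Type} [Fintype ι] [DecidableEq ι]
    {f : (ι → F) → (ι → F) → F} (hf : Geo.IsSymplecticForm f) {W : Submodule F (ι → F)}
    (hW : Geo.IsNondegenerateOn f W) : Even (Module.finrank F W) := by
  let B : LinearMap.BilinForm F W := LinearMap.mk₂ F (fun x y => f x y)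
    (fun x y z => hf.bilinear.add_left _ _ _) (fun c x y => hf.bilinear.smul_left _ _ _)
    (fun x y z => hf.bilinear.add_right _ _ _) (fun c x y => hf.bilinear.smul_right _ _ _)
  obtain ⟨k, hk⟩ := Cfsg.Agent.GpSp.Symp.even_of_nondeg B (fun v => hf.alternating _) (by
    intro u hu
    by_contra h0
    obtain ⟨-, x, hx, hx'⟩ := hW u u.2 (fun h => h0 (Subtype.ext h))
    exact hx' (hu ⟨x, hx⟩))
  rw [hk]
  exact even_two_mul k

/-- A non-degenerate alternating form lives in even dimension. -/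
theorem even_of_isSymplecticForm {F : Type*} [Field F] {κ : Type} [Fintype κ] [DecidableEq κ]
    {f : (κ → F) → (κ → F) → F} (hf : Geo.IsSymplecticForm f) : Even (Fintype.card κ) := by
  have h := even_of_isNondegenerateOn hf (W := ⊤) (by
    intro w _ hw
    obtain ⟨⟨x, hx⟩, ⟨y, hy⟩⟩ := hf.nondegenerate w hw
    exact ⟨⟨x, Submodule.mem_top, hx⟩, ⟨y, Submodule.mem_top, hy⟩⟩)
  rwa [finrank_top, Module.finrank_fintype_fun_eq_card] at h

/-- The list of types of maximal subgroups of `Sp_2m(q)` before the exclusions for small `q`. -/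
theorem symplectic_maximal_cases (hm : 2 ≤ m) (hex : ¬ (m = 2 ∧ Fintype.card F = 2))
    {H : Subgroup (Matrix.GeneralLinearGroup (Fin m ⊕ Fin m) F)}
    (hH : Geo.IsMaximalIn (spGL m F) H)
    (hwr : ∀ (k t : ℕ) (e : Fin m ⊕ Fin m ≃ (Fin t → Fin k))
      (P : Matrix.GeneralLinearGroup (Fin m ⊕ Fin m) F), k = 2 → Odd t → 3 ≤ t → k ^ t = 2 * m →
      ¬ spGL m F ≤ Geo.tensorWreathSubgroup k t e P)
    (h : (∃ M : Subgroup (Matrix.GeneralLinearGroup (Fin m ⊕ Fin m) F),
      Geo.InSymplecticClass m F M ∧ H ≤ M) ∨ Geo.InSymplecticResidualClass H) :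
    (∃ W : Submodule F (Fin m ⊕ Fin m → F), W ≠ ⊥ ∧
      Geo.IsTotallySingularFor (sympForm m F) W ∧ H = Geo.subspaceStabilizer W ⊓ spGL m F) ∨
    (∃ W : Submodule F (Fin m ⊕ Fin m → F), W ≠ ⊥ ∧ Geo.IsNondegenerateOn (sympForm m F) W ∧
      Even (Module.finrank F W) ∧ Module.finrank F W < m ∧
      H = Geo.subspaceStabilizer W ⊓ spGL m F) ∨
    (∃ (t k : ℕ) (D : Fin t → Submodule F (Fin m ⊕ Fin m → F)), t * k = 2 * m ∧ Even k ∧ 2 ≤ t ∧
      Geo.IsNondegenerateMDecomposition (sympForm m F) k D ∧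
      H = Geo.decompositionStabilizer D ⊓ spGL m F) ∨
    (∃ (D : Fin 2 → Submodule F (Fin m ⊕ Fin m → F)), Odd (Fintype.card F) ∧
      Geo.IsMDecomposition m D ∧ (∀ i, Geo.IsTotallySingularFor (sympForm m F) (D i)) ∧
      H = Geo.decompositionStabilizer D ⊓ spGL m F) ∨
    (∃ (F₀ : Subfield F) (r : ℕ) (P : Matrix.GeneralLinearGroup (Fin m ⊕ Fin m) F) (ζ : F),
      r.Prime ∧ Fintype.card F = Nat.card F₀ ^ r ∧ ζ ≠ 0 ∧
      Geo.IsFormRationalStructure (sympForm m F) F₀ ζ P ∧ H = Geo.subfieldSubgroup F₀ P ⊓ spGL m F) ∨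
    (∃ (R : Subgroup (Matrix.GeneralLinearGroup (Fin m ⊕ Fin m) F)) (p k : ℕ),
      Geo.IsSymplecticTypeGroup 2 R ∧ Geo.ActsAbsolutelyIrreducibly (Geo.matrixSet R) ∧
      R ≤ Geo.similarityGroup (sympForm m F) ∧ p.Prime ∧ Odd p ∧ Fintype.card F = p ∧
      Nat.card R = 2 ^ (1 + 2 * k) ∧ Nat.card (Subgroup.center R) = 2 ∧ Geo.IsOfMinusType k R ∧
      2 * m = 2 ^ k ∧ H = Geo.subgroupNormalizer R ⊓ spGL m F) ∨
    (∃ Q : (Fin m ⊕ Fin m → F) → F, ¬ Odd (Fintype.card F) ∧ Geo.IsNondegenerateQuadraticForm Q ∧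
      (∀ u v, QuadraticMap.polar Q u v = sympForm m F u v) ∧
      H = Geo.quadSimilarityGroup Q ⊓ spGL m F) ∨
    (∃ (r : ℕ) (K : Subalgebra F (Matrix (Fin m ⊕ Fin m) (Fin m ⊕ Fin m) F)), r.Prime ∧ r ∣ 2 * m ∧
      Geo.IsFieldSubalgebra r K ∧ Geo.IsSelfAdjointFor (sympForm m F) K ∧
      (∀ k ∈ K, ∀ v, sympForm m F (k *ᵥ v) v = 0) ∧ H = Geo.subalgebraNormalizer K ⊓ spGL m F) ∨
    (∃ K : Subalgebra F (Matrix (Fin m ⊕ Fin m) (Fin m ⊕ Fin m) F), Odd (Fintype.card F) ∧
      Geo.IsFieldSubalgebra 2 K ∧ Geo.IsAdjointClosedFor (sympForm m F) K ∧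
      ¬ Geo.IsSelfAdjointFor (sympForm m F) K ∧ H = Geo.subalgebraNormalizer K ⊓ spGL m F) ∨
    (∃ (n₁ n₂ : ℕ) (e : (Fin m ⊕ Fin m) ≃ Fin n₁ × Fin n₂)
      (P : Matrix.GeneralLinearGroup (Fin m ⊕ Fin m) F)
      (f₁ : (Fin n₁ → F) → (Fin n₁ → F) → F) (f₂ : (Fin n₂ → F) → (Fin n₂ → F) → F),
      Odd (Fintype.card F) ∧ n₁ * n₂ = 2 * m ∧ Even n₁ ∧ 2 ≤ n₁ ∧ 3 ≤ n₂ ∧
      Geo.IsSymplecticForm f₁ ∧ Geo.IsSymmetricForm f₂ ∧
      Geo.IsTensorFormStructure id (sympForm m F) f₁ f₂ e P ∧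
      H = Geo.tensorProductSubgroup n₁ n₂ e P ⊓ spGL m F) ∨
    (∃ (k t : ℕ) (e : (Fin m ⊕ Fin m) ≃ (Fin t → Fin k))
      (P : Matrix.GeneralLinearGroup (Fin m ⊕ Fin m) F) (f₁ : (Fin k → F) → (Fin k → F) → F),
      Odd (Fintype.card F) ∧ k ^ t = 2 * m ∧ Even k ∧ 2 ≤ k ∧ Odd t ∧ 3 ≤ t ∧
      ¬ (Fintype.card F = 3 ∧ k = 2) ∧ Geo.IsSymplecticForm f₁ ∧
      Geo.IsTensorPowerFormStructure id (sympForm m F) f₁ e P ∧
      H = Geo.tensorWreathSubgroup k t e P ⊓ spGL m F) ∨
    Geo.InSymplecticResidualClass H := by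
  have hc := exc_cases hm hex
  have hne : Nonempty (Fin m ⊕ Fin m) := ⟨Sum.inl ⟨0, by omega⟩⟩
  have hcard : Fintype.card (Fin m ⊕ Fin m) = 2 * m := card_sum_fin
  have hns0 : ∃ v : Fin m ⊕ Fin m → F, v ≠ 0 := by
    refine ⟨Pi.single (Sum.inl ⟨0, by omega⟩) 1, ?_⟩
    intro h0
    have := congrFun h0 (Sum.inl ⟨0, by omega⟩)
    simp at this
  -- passing from `M = X ⊓ Sp` to `H = X ⊓ Sp`
  have key : ∀ {X M : Subgroup (Matrix.GeneralLinearGroup (Fin m ⊕ Fin m) F)}, H ≤ M →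
      M = X ⊓ spGL m F → ¬ spGL m F ≤ X → H = X ⊓ spGL m F := by
    intro X M hHM hM hX
    exact eq_inf_of_maximal hH (hHM.trans (hM.le.trans inf_le_left)) hX
  rcases h with ⟨M, hM, hHM⟩ | h
  swap
  · iterate 11 right
    exact h
  rcases hM with hM | hM | hM | hM | hM
  · rcases hM with hM | hM | hM | hM | hM | hM | hM
    · -- totally singular
      obtain ⟨W, hW0, hW, hM⟩ := hM
      left
      refine ⟨W, hW0, hW, key hHM hM (spGL_not_le_subspaceStabilizer hW0 ?_)⟩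
      rintro rfl
      obtain ⟨v, hv⟩ := hns0
      apply hv
      apply eq_zero_of_forall_sympForm_left
      intro u
      exact hW _ Submodule.mem_top _ Submodule.mem_top
    · -- nondegenerate
      obtain ⟨W, hW0, hW, hW2, hM⟩ := hM
      iterate 1 right
      left
      refine ⟨W, hW0, hW, even_of_isNondegenerateOn
        Cfsg.Agent.H924.isSymplecticForm_sympForm hW, hW2,
        key hHM hM (spGL_not_le_subspaceStabilizer hW0 ?_)⟩
      rintro rfl
      rw [finrank_top, Module.finrank_fintype_fun_eq_card, hcard] at hW2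
      omega
    · obtain ⟨t, k, D, hD, hM⟩ := hM
      iterate 2 right
      left
      have h2 := hD.decomp.two_le
      refine ⟨t, k, D, ?_, ?_, h2, hD,
        key hHM hM (spGL_not_le_decompositionStabilizer hc hD.decomp)⟩
      · rw [decomp_card hD.decomp, hcard]
      · have := even_of_isNondegenerateOn Cfsg.Agent.H924.isSymplecticForm_sympForm
          (hD.nondegenerate ⟨0, by omega⟩)
        rwa [hD.decomp.finrank_eq] at this
    · obtain ⟨D, hodd, hD, hs, hM⟩ := hM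
      iterate 3 right
      left
      exact ⟨D, hodd, hD, hs, key hHM hM (spGL_not_le_decompositionStabilizer hc hD)⟩
    · obtain ⟨F₀, r, P, ζ, hr, hcF, hζ, hf, hM⟩ := hM
      iterate 4 right
      left
      exact ⟨F₀, r, P, ζ, hr, hcF, hζ, hf, key hHM hM (spGL_not_le_subfieldSubgroup (by omega) hc
        (by
          rintro rfl
          have h1 : Nat.card (⊤ : Subfield F) = Fintype.card F := by
            rw [Nat.card_congr (Subfield.topEquiv (K := F)).toEquiv, Nat.card_eq_fintype_card]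
          rw [h1] at hcF
          have h2 : 1 < Fintype.card F := Fintype.one_lt_card
          have h3 : Fintype.card F < Fintype.card F ^ r := by
            calc Fintype.card F = Fintype.card F ^ 1 := (pow_one _).symm
              _ < Fintype.card F ^ r := Nat.pow_lt_pow_right h2 hr.one_lt
          omega) P)⟩
    · obtain ⟨R, p, k, hR, habs, hRs, hp, hpo, hcF, hcR, hz, hmin, hM⟩ := hM
      have hsolv : Group.IsSolvable R := by
        have : Fact (Nat.Prime 2) := ⟨Nat.prime_two⟩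
        have := hR.pGroup.isNilpotent
        infer_instance
      have hns : ¬ R ≤ Geo.scalars (Fin m ⊕ Fin m) F :=
        not_le_scalars_of_irreducible (by rw [hcard]; omega) habs.1
      iterate 5 right
      left
      refine ⟨R, p, k, hR, habs, hRs, hp, hpo, hcF, hcR, hz, hmin, ?_,
        key hHM hM (spGL_not_le_subgroupNormalizer (by omega) hc hRs hsolv hns)⟩
      rw [← hcard]
      exact Cfsg.Agent.H921.card_eq_pow_of_center_prime hR habs hz hcR
    · obtain ⟨Q, hodd, hQ, hpol, hM⟩ := hM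
      iterate 6 right
      left
      exact ⟨Q, hodd, hQ, hpol, key hHM hM (spGL_not_le_quadSimilarityGroup hm hpol hQ.smul)⟩
  · obtain ⟨r, K, hr, hK, hKs, hKa, hM⟩ := hM
    iterate 7 right
    left
    refine ⟨r, K, hr, ?_, hK, hKs, hKa, key hHM hM
      (spGL_not_le_subalgebraNormalizer (by omega) hc hr.two_le hK)⟩
    have := Cfsg.Agent.H912.finrank_dvd_of_fieldSub hK
    rwa [hcard] at this
  · obtain ⟨K, hodd, hK, hKa, hKs, hM⟩ := hM
    iterate 8 right
    left
    exact ⟨K, hodd, hK, hKa, hKs, key hHM hM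
      (spGL_not_le_subalgebraNormalizer (by omega) hc le_rfl hK)⟩
  · obtain ⟨n₁, n₂, e, P, f₁, f₂, hodd, h3, hf₁, hf₂, hf, hM⟩ := hM
    have hmul : n₁ * n₂ = 2 * m := by
      have := Fintype.card_congr e
      rw [hcard, Fintype.card_prod, Fintype.card_fin, Fintype.card_fin] at this
      exact this.symm
    have hev : Even n₁ := by
      have := even_of_isSymplecticForm hf₁
      rwa [Fintype.card_fin] at this
    have h2 : 2 ≤ n₁ := by
      rcases hev with ⟨k, hk⟩
      by_contra hcon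
      have : n₁ = 0 := by omega
      rw [this, zero_mul] at hmul
      omega
    iterate 9 right
    left
    exact ⟨n₁, n₂, e, P, f₁, f₂, hodd, hmul, hev, h2, h3, hf₁, hf₂, hf, key hHM hM
      (spGL_not_le_tensorProductSubgroup (by omega) h2 (by omega) e P)⟩
  · obtain ⟨k, t, e, P, f₁, hodd, hto, ht, hqk, hf₁, hf, hM⟩ := hM
    have hkt : k ^ t = 2 * m := by
      have := Fintype.card_congr e
      rw [hcard, Fintype.card_fun, Fintype.card_fin, Fintype.card_fin] at this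
      exact this.symm
    have hev : Even k := by
      have := even_of_isSymplecticForm hf₁
      rwa [Fintype.card_fin] at this
    have h2 : 2 ≤ k := by
      rcases hev with ⟨j, hj⟩
      by_contra hcon
      have : k = 0 := by omega
      rw [this, zero_pow (by omega)] at hkt
      omega
    iterate 10 right
    left
    refine ⟨k, t, e, P, f₁, hodd, hkt, hev, h2, hto, ht, hqk, hf₁, hf, key hHM hM ?_⟩
    rcases Nat.lt_or_ge 2 k with h3 | h3
    · obtain ⟨g, hg, hg'⟩ := exists_rankOne_mem_spGL (F := F) (m := m) (by omega)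
      exact not_le_tensorWreathSubgroup hg hg' (by omega) (by omega) e P
    · exact hwr k t e P (by omega) hto ht hkt

end Cfsg.Agent.H931
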