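import Cfsg.Agent.H931.L2Type

/-!
# Irreducible `SL₂(q)`-modules with `U`-fixed vectors, cross characteristic (helper931)

`R : SL₂(K) → End V` spanning `End V`, `k` algebraically closed, `|K| ≠ 0` in `k`, `v` a `U`-fixed vector with
`R (t a) v = lam a • v`. The vectors `e none = v`, `e (some y) = R (u y) (R (w 1) v)` span `V` and are permuted up to
scalars.

* `finrank_le_one_of_sq` : `lam ^ 2 = 1` ⟹ the space of `U`-fixed vectors is one-dimensional;
* `trace_nonsplit_prin` : dimension `q + 1`: elements without eigenvalue have trace `0`;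
* `steinberg` : dimension `q`: `lam = 1` and the trace of `g` is the number of finite fixed points minus the number of
  finite points mapped to infinity.
-/

set_option autoImplicit false
set_option linter.unusedSectionVars false

namespace Cfsg.Agent.H931.L2T

open Matrix Module Cfsg Cfsg.Geo Cfsg.Agent.H464.Sl2

variable {K : Type*} [Field K] [Fintype K] {k : Type*} [Field k] {V : Type*} [AddCommGroup V] [Module k V]
  [FiniteDimensional k V] (R : SpecialLinearGroup (Fin 2) K →* Module.End k V) {ψ : AddChar K k}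
  (hψ : ψ.IsPrimitive) (hK : (Fintype.card K : k) ≠ 0)

theorem coe_ut (x : K) (a : Kˣ) : (u x * t a).1 = !![(a : K), x * ((a⁻¹ : Kˣ) : K); 0, ((a⁻¹ : Kˣ) : K)] := by
  change (u x).1 * (t a).1 = _
  have e1 : (u x).1 = !![1, x; 0, 1] := rfl
  have e2 : (t a).1 = !![(a : K), 0; 0, ((a⁻¹ : Kˣ) : K)] := rfl
  rw [e1, e2]
  ext i j
  fin_cases i <;> fin_cases j <;> simp [Matrix.mul_apply, Fin.sum_univ_two]

theorem coe_uwu (x y : K) (c : Kˣ) : (u x * w c * u y).1 =
    !![x * c, -((c⁻¹ : Kˣ) : K) + x * c * y; (c : K), c * y] := by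
  change (u x).1 * (w c).1 * (u y).1 = _
  have e1 : ∀ x : K, (u x).1 = !![1, x; 0, 1] := fun _ => rfl
  have e2 : (w c).1 = !![0, -((c⁻¹ : Kˣ) : K); (c : K), 0] := rfl
  rw [e1, e1, e2]
  ext i j
  fin_cases i <;> fin_cases j <;> simp [Matrix.mul_apply, Fin.sum_univ_two]
  ring

/-- The points of the projective line. -/
noncomputable def ep (v : V) : Option K → V
  | none => v
  | some y => R (u y) (R (w 1) v)

/-- A `U`-fixed `T`-eigenvector. -/
structure Prin (v : V) (lam : Kˣ → k) : Prop where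
  ne : v ≠ 0
  fix : ∀ x, R (u x) v = v
  eig : ∀ a, R (t a) v = lam a • v

variable {R}

theorem Prin.one {v : V} {lam : Kˣ → k} (h : Prin R v lam) : lam 1 = 1 := by
  have h1 := h.eig 1
  rw [t_one, map_one, Module.End.one_apply] at h1
  have h2 : (1 - lam 1) • v = 0 := by rw [sub_smul, one_smul, ← h1, sub_self]
  exact (sub_eq_zero.1 ((smul_eq_zero.1 h2).resolve_right h.ne)).symm

theorem Prin.mul {v : V} {lam : Kˣ → k} (h : Prin R v lam) (a b : Kˣ) : lam (a * b) = lam a * lam b := by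
  have h1 := h.eig (a * b)
  rw [t_mul, map_mul, Module.End.mul_apply, h.eig, map_smul, h.eig, smul_smul] at h1
  have h2 : (lam b * lam a - lam (a * b)) • v = 0 := by rw [sub_smul, h1, sub_self]
  have h3 := sub_eq_zero.1 ((smul_eq_zero.1 h2).resolve_right h.ne)
  rw [← h3, mul_comm]

theorem Prin.inv {v : V} {lam : Kˣ → k} (h : Prin R v lam) (a : Kˣ) : lam a⁻¹ * lam a = 1 := by
  rw [← h.mul, inv_mul_cancel, h.one]

theorem Prin.ne_zero {v : V} {lam : Kˣ → k} (h : Prin R v lam) (a : Kˣ) : lam a ≠ 0 := by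
  intro h0
  have := h.inv a
  rw [h0, mul_zero] at this
  exact zero_ne_one this

/-- The action on `v`. -/
theorem Prin.apply_of_zero {v : V} {lam : Kˣ → k} (h : Prin R v lam) {g : SpecialLinearGroup (Fin 2) K}
    (hg : g.1 1 0 = 0) : ∃ a : Kˣ, (a : K) = g.1 0 0 ∧ R g v = lam a • v := by
  rcases bruhat g with ⟨x, a, rfl⟩ | ⟨x, c, y, rfl⟩
  · refine ⟨a, ?_, ?_⟩
    · rw [coe_ut]; rfl
    · rw [map_mul, Module.End.mul_apply, h.eig, map_smul, h.fix]
  · exfalso
    have : (u x * w c * u y).1 1 0 = (c : K) := by rw [coe_uwu]; rfl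
    rw [this] at hg
    exact c.ne_zero hg

theorem Prin.apply_of_ne {v : V} {lam : Kˣ → k} (h : Prin R v lam) {g : SpecialLinearGroup (Fin 2) K}
    (hg : g.1 1 0 ≠ 0) : R g v = lam (Units.mk0 _ hg) • ep R v (some (g.1 0 0 / g.1 1 0)) := by
  rcases bruhat g with ⟨x, a, rfl⟩ | ⟨x, c, y, rfl⟩
  · exfalso
    apply hg
    rw [coe_ut]; rfl
  · have h1 : Units.mk0 _ hg = c := by
      apply Units.ext
      rw [Units.val_mk0, coe_uwu]; rfl
    have h2 : (u x * w c * u y).1 0 0 / (u x * w c * u y).1 1 0 = x := by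
      rw [coe_uwu]
      change x * (c : K) / (c : K) = x
      rw [mul_div_cancel_right₀ _ c.ne_zero]
    rw [h1, h2, map_mul, Module.End.mul_apply, h.fix, map_mul, Module.End.mul_apply, ← w_one_mul_t c, map_mul,
      Module.End.mul_apply, h.eig, map_smul, map_smul]
    rfl

/-- The action of `g` on a finite point. -/
theorem entries (g : SpecialLinearGroup (Fin 2) K) (y : K) :
    (g * (u y * w 1)).1 0 0 = g.1 0 0 * y + g.1 0 1 ∧ (g * (u y * w 1)).1 1 0 = g.1 1 0 * y + g.1 1 1 := by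
  have e : (u y * w 1).1 = !![y, -1; 1, 0] := by
    change (u y).1 * (w 1).1 = _
    have e1 : (u y).1 = !![1, y; 0, 1] := rfl
    have e2 : (w (1 : Kˣ)).1 = !![0, -(((1 : Kˣ)⁻¹ : Kˣ) : K); ((1 : Kˣ) : K), 0] := rfl
    rw [e1, e2]
    ext i j
    fin_cases i <;> fin_cases j <;> simp [Matrix.mul_apply, Fin.sum_univ_two]
  constructor
  · change (g.1 * (u y * w 1).1) 0 0 = _
    rw [e]
    simp [Matrix.mul_apply, Fin.sum_univ_two]
  · change (g.1 * (u y * w 1).1) 1 0 = _
    rw [e]
    simp [Matrix.mul_apply, Fin.sum_univ_two]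

theorem ep_some (v : V) (y : K) : ep R v (some y) = R (u y * w 1) v := by
  rw [map_mul]; rfl

theorem Prin.ep_of_ne {v : V} {lam : Kˣ → k} (h : Prin R v lam) {g : SpecialLinearGroup (Fin 2) K} {y : K}
    (hg : g.1 1 0 * y + g.1 1 1 ≠ 0) :
    R g (ep R v (some y)) = lam (Units.mk0 _ hg) •
      ep R v (some ((g.1 0 0 * y + g.1 0 1) / (g.1 1 0 * y + g.1 1 1))) := by
  obtain ⟨h1, h2⟩ := entries g y
  have h3 := h.apply_of_ne (g := g * (u y * w 1)) (by rw [h2]; exact hg)
  rw [map_mul, Module.End.mul_apply, ← ep_some] at h3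
  rw [h3]
  simp only [h1, h2]

theorem Prin.ep_of_zero {v : V} {lam : Kˣ → k} (h : Prin R v lam) {g : SpecialLinearGroup (Fin 2) K} {y : K}
    (hg : g.1 1 0 * y + g.1 1 1 = 0) : ∃ a : Kˣ, (a : K) = g.1 0 0 * y + g.1 0 1 ∧
      R g (ep R v (some y)) = lam a • v := by
  obtain ⟨h1, h2⟩ := entries g y
  obtain ⟨a, ha, h3⟩ := h.apply_of_zero (g := g * (u y * w 1)) (by rw [h2]; exact hg)
  rw [map_mul, Module.End.mul_apply, ← ep_some] at h3
  exact ⟨a, by rw [ha, h1], h3⟩

/-- The points span. -/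
theorem Prin.span {v : V} {lam : Kˣ → k} (h : Prin R v lam) (hspan : Submodule.span k (Set.range R) = ⊤) :
    Submodule.span k (Set.range (ep R v)) = ⊤ := by
  rw [eq_top_iff]
  intro y _
  obtain ⟨φ, hφ⟩ := exists_dual (k := k) h.ne
  have h1 : ∀ A : Module.End k V, A v ∈ Submodule.span k (Set.range (ep R v)) := by
    intro A
    have hA : A ∈ Submodule.span k (Set.range R) := by rw [hspan]; trivial
    induction hA using Submodule.span_induction with
    | mem x hx =>
      obtain ⟨g, rfl⟩ := hx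
      by_cases hg : g.1 1 0 = 0
      · obtain ⟨a, -, h2⟩ := h.apply_of_zero hg
        rw [h2]
        exact Submodule.smul_mem _ _ (Submodule.subset_span ⟨none, rfl⟩)
      · rw [h.apply_of_ne hg]
        exact Submodule.smul_mem _ _ (Submodule.subset_span ⟨_, rfl⟩)
    | zero => exact Submodule.zero_mem _
    | add x y _ _ hx hy => exact Submodule.add_mem _ hx hy
    | smul a x _ hx => exact Submodule.smul_mem _ _ hx
  have h2 := h1 (φ.smulRight y)
  rwa [LinearMap.smulRight_apply, hφ, one_smul] at h2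

include hψ hK in
/-- Existence of such a vector. -/
theorem exists_prin [IsAlgClosed k] (h0 : E R ψ 0 ≠ 0) : ∃ (v : V) (lam : Kˣ → k), Prin R v lam ∧ E R ψ 0 v = v := by
  obtain ⟨v, hv0, hv, ht⟩ := exists_eigen R hψ hK (fun h => h0 (LinearMap.range_eq_bot.1 h))
  choose lam hlam using ht
  refine ⟨v, lam, ⟨hv0, ?_, hlam⟩, hv⟩
  intro x
  have h3 := congrArg (fun f : Module.End k V => f v) (R_mul_E R ψ 0 x)
  simp only [Module.End.mul_apply, hv, zero_mul, AddChar.map_zero_eq_one, one_smul] at h3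
  exact h3

include hψ hK in
/-- Dimension `q + 1`: elements without eigenvector have trace zero. -/
theorem Prin.trace_nonsplit {v : V} {lam : Kˣ → k} (h : Prin R v lam)
    (hspan : Submodule.span k (Set.range R) = ⊤) (hdim : finrank k V = Fintype.card K + 1)
    {g : SpecialLinearGroup (Fin 2) K} (hg : ∀ x : K, x * x - (g.1 0 0 + g.1 1 1) * x + 1 ≠ 0) :
    LinearMap.trace k V (R g) = 0 := by
  classical
  have hcard : Fintype.card (Option K) = finrank k V := by rw [Fintype.card_option, hdim]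
  let B := basisOfTopLeSpanOfCardEqFinrank (ep R v) (h.span hspan).ge hcard
  have hB : ∀ P, B P = ep R v P := fun P => by
    rw [coe_basisOfTopLeSpanOfCardEqFinrank]
  rw [LinearMap.trace_eq_matrix_trace k B, Matrix.trace]
  refine Finset.sum_eq_zero fun P _ => ?_
  rw [Matrix.diag_apply, LinearMap.toMatrix_apply, hB]
  have hdet : g.1 0 0 * g.1 1 1 - g.1 0 1 * g.1 1 0 = 1 := by
    have := g.2
    rwa [Matrix.det_fin_two] at this
  have hc : g.1 1 0 ≠ 0 := by
    intro hc
    apply hg (g.1 0 0)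
    rw [hc, mul_zero, sub_zero] at hdet
    linear_combination -hdet
  rcases P with _ | y
  · change B.repr (R g v) none = 0
    rw [h.apply_of_ne hc, map_smul, ← hB, Basis.repr_self, Finsupp.smul_single, Finsupp.single_apply]
    simp
  · by_cases hy : g.1 1 0 * y + g.1 1 1 = 0
    · obtain ⟨a, -, h2⟩ := h.ep_of_zero hy
      rw [h2]
      change B.repr (lam a • ep R v none) (some y) = 0
      rw [map_smul, ← hB, Basis.repr_self, Finsupp.smul_single, Finsupp.single_apply]
      simp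
    · rw [h.ep_of_ne hy, map_smul, ← hB, Basis.repr_self, Finsupp.smul_single, Finsupp.single_apply, if_neg]
      intro h3
      rw [Option.some_inj, div_eq_iff hy] at h3
      -- `y` is fixed
      apply hg (g.1 0 0 - g.1 1 0 * y)
      linear_combination -g.1 1 0 * h3 - hdet

theorem t_mul_w (a : Kˣ) : t a * w 1 = w (1 : Kˣ) * t a⁻¹ := by
  apply Subtype.ext
  ext i j
  fin_cases i <;> fin_cases j <;> simp

include hψ hK in
/-- If `lam ^ 2 = 1` then the space of `U`-fixed vectors is one-dimensional. -/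
theorem Prin.finrank_le_one [IsAlgClosed k] {v : V} {lam : Kˣ → k} (h : Prin R v lam) (hv : E R ψ 0 v = v)
    (hspan : Submodule.span k (Set.range R) = ⊤) (hlam : ∀ a, lam a * lam a = 1) :
    finrank k (LinearMap.range (E R ψ 0)) ≤ 1 := by
  have haux := fixed_aux R hψ hK hspan h.ne hv fun a => ⟨_, h.eig a⟩
  have hT : ∀ x ∈ LinearMap.range (E R ψ 0), ∀ a, R (t a) x = lam a • x := by
    intro x hx a
    have hx' := haux hx
    obtain ⟨α, β, rfl⟩ := Submodule.mem_span_pair.1 hx'
    have h1 : R (t a) (E R ψ 0 (R (w 1) v)) = lam a • E R ψ 0 (R (w 1) v) := by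
      rw [← Module.End.mul_apply, t_mul_E, zero_div, Module.End.mul_apply, ← Module.End.mul_apply (R (t a)), ← map_mul,
        t_mul_w, map_mul, Module.End.mul_apply, h.eig, map_smul, map_smul]
      congr 1
      have h2 := h.inv a
      calc lam a⁻¹ = lam a⁻¹ * (lam a * lam a) := by rw [hlam, mul_one]
        _ = (lam a⁻¹ * lam a) * lam a := by ring
        _ = lam a := by rw [h2, one_mul]
    rw [map_add, map_smul, map_smul, h.eig, h1, smul_add, smul_comm α, smul_comm β]
  have hmap : ∀ x ∈ LinearMap.range (E R ψ 0), (E R ψ 0 * R (w 1)) x ∈ LinearMap.range (E R ψ 0) := by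
    intro x _
    rw [Module.End.mul_apply]
    exact LinearMap.mem_range_self _ _
  have hnt : Nontrivial (LinearMap.range (E R ψ 0)) := by
    rw [Submodule.nontrivial_iff_ne_bot, Submodule.ne_bot_iff]
    exact ⟨v, ⟨v, hv⟩, h.ne⟩
  obtain ⟨μ, hμ⟩ := Module.End.exists_eigenvalue ((E R ψ 0 * R (w 1)).restrict hmap)
  obtain ⟨x, hx⟩ := hμ.exists_hasEigenvector
  have hx0 : (x : V) ≠ 0 := fun h => hx.2 (Subtype.ext h)
  have hx1 : E R ψ 0 (R (w 1) (x : V)) = μ • (x : V) := congrArg Subtype.val hx.apply_eq_smul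
  have hx2 : E R ψ 0 (x : V) = x := by
    obtain ⟨y, hy⟩ := x.2
    rw [← hy, ← Module.End.mul_apply, E_mul_self R hψ hK]
  have h1 := fixed_aux R hψ hK hspan hx0 hx2 fun a => ⟨_, hT x x.2 a⟩
  have h2 : Submodule.span k {(x : V), E R ψ 0 (R (w 1) (x : V))} ≤ Submodule.span k {(x : V)} := by
    rw [Submodule.span_le]
    rintro y (rfl | rfl)
    · exact Submodule.mem_span_singleton_self _
    · rw [hx1]
      exact Submodule.smul_mem _ _ (Submodule.mem_span_singleton_self _)
  exact (Submodule.finrank_mono (h1.trans h2)).trans (finrank_span_singleton hx0).le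

section Steinberg

variable {v : V} {lam : Kˣ → k}

theorem Prin.w_zero (h : Prin R v lam) : R (w 1) (ep R v (some 0)) = lam (-1) • v := by
  rw [ep_some, u_zero, one_mul, ← Module.End.mul_apply, ← map_mul, w_mul_w, div_self', h.eig]

theorem w_entries : (w (1 : Kˣ)).1 0 0 = 0 ∧ (w (1 : Kˣ)).1 0 1 = -1 ∧ (w (1 : Kˣ)).1 1 0 = 1 ∧
    (w (1 : Kˣ)).1 1 1 = 0 := by
  have e2 : (w (1 : Kˣ)).1 = !![0, -(((1 : Kˣ)⁻¹ : Kˣ) : K); ((1 : Kˣ) : K), 0] := rfl
  rw [e2]
  simp

theorem Prin.w_ne (h : Prin R v lam) {y : K} (hy : y ≠ 0) :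
    R (w 1) (ep R v (some y)) = lam (Units.mk0 y hy) • ep R v (some (-y⁻¹)) := by
  obtain ⟨e1, e2, e3, e4⟩ := w_entries (K := K)
  have h1 : (w (1 : Kˣ)).1 1 0 * y + (w (1 : Kˣ)).1 1 1 = y := by rw [e3, e4]; ring
  have h2 := h.ep_of_ne (g := w 1) (y := y) (by rw [h1]; exact hy)
  rw [h2]
  have h3 : ((w (1 : Kˣ)).1 0 0 * y + (w (1 : Kˣ)).1 0 1) / ((w (1 : Kˣ)).1 1 0 * y + (w (1 : Kˣ)).1 1 1) = -y⁻¹ := by
    rw [h1, e1, e2]
    field_simp
    ring
  rw [h3]
  congr 2
  exact Units.ext h1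

theorem sum_ep (v : V) (hK : (Fintype.card K : k) ≠ 0) :
    ∑ y : K, ep R v (some y) = (Fintype.card K : k) • E R ψ 0 (R (w 1) v) := by
  rw [E, LinearMap.smul_apply, smul_smul, mul_inv_cancel₀ hK, one_smul, LinearMap.sum_apply]
  refine Finset.sum_congr rfl fun y _ => ?_
  rw [zero_mul, neg_zero, AddChar.map_zero_eq_one, one_smul]
  rfl

include hψ hK in
/-- **The Steinberg module**: dimension `q`. -/
theorem Prin.stein (h : Prin R v lam) (hv : E R ψ 0 v = v) (hspan : Submodule.span k (Set.range R) = ⊤)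
    (hdim : finrank k V = Fintype.card K) (hr : finrank k (LinearMap.range (E R ψ 0)) ≤ 1) :
    (∀ a, lam a = 1) ∧ ∑ y : K, ep R v (some y) = -v := by
  classical
  obtain ⟨j, hj⟩ : ∃ j : k, E R ψ 0 (R (w 1) v) = j • v := by
    rw [finrank_le_one_iff] at hr
    obtain ⟨v₀, hv₀⟩ := hr
    obtain ⟨α, hα⟩ := hv₀ ⟨v, ⟨v, hv⟩⟩
    obtain ⟨β, hβ⟩ := hv₀ ⟨_, ⟨R (w 1) v, rfl⟩⟩
    have hα' : α • (v₀ : V) = v := congrArg Subtype.val hα
    have hβ' : β • (v₀ : V) = E R ψ 0 (R (w 1) v) := congrArg Subtype.val hβ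
    have hα0 : α ≠ 0 := by
      rintro rfl
      rw [zero_smul] at hα'
      exact h.ne hα'.symm
    refine ⟨β * α⁻¹, ?_⟩
    rw [← hβ', ← hα', smul_smul, mul_assoc, inv_mul_cancel₀ hα0, mul_one]
  have hsum : ∑ y : K, ep R v (some y) = ((Fintype.card K : k) * j) • v := by
    rw [sum_ep (ψ := ψ) v hK, hj, smul_smul]
  have hEe : ∀ y : K, E R ψ 0 (ep R v (some y)) = j • v := by
    intro y
    change E R ψ 0 (R (u y) (R (w 1) v)) = _
    rw [← Module.End.mul_apply, E_mul_R, zero_mul, AddChar.map_zero_eq_one, one_smul, hj]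
  -- apply `w`
  have hw : lam (-1) • v + ∑ y ∈ Finset.univ.erase (0 : K), R (w 1) (ep R v (some y)) =
      ((Fintype.card K : k) * j) • R (w 1) v := by
    rw [← map_smul, ← hsum, map_sum, ← Finset.add_sum_erase _ _ (Finset.mem_univ (0 : K)), h.w_zero]
  have hj0 : j ≠ 0 := by
    rintro rfl
    have h1 := congrArg (E R ψ 0) hw
    rw [map_add, map_smul, map_smul, map_sum, hv, hj, zero_smul, smul_zero, Finset.sum_eq_zero, add_zero] at h1
    · exact (smul_ne_zero (h.ne_zero _) h.ne) h1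
    · intro y hy
      rw [h.w_ne (Finset.ne_of_mem_erase hy), map_smul, hEe, zero_smul, smul_zero]
  set c := (Fintype.card K : k) * j with hc
  have hc0 : c ≠ 0 := mul_ne_zero hK hj0
  have hvs : v = c⁻¹ • ∑ y : K, ep R v (some y) := by rw [hsum, smul_smul, inv_mul_cancel₀ hc0, one_smul]
  -- the finite points are a basis
  have hsp : Submodule.span k (Set.range fun y : K => ep R v (some y)) = ⊤ := by
    rw [eq_top_iff, ← h.span hspan, Submodule.span_le]
    rintro _ ⟨P, rfl⟩
    rcases P with _ | y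
    · have h5 : c⁻¹ • ∑ y : K, ep R v (some y) ∈ Submodule.span k (Set.range fun y : K => ep R v (some y)) :=
        Submodule.smul_mem _ _ (Submodule.sum_mem _ fun y _ => Submodule.subset_span ⟨y, rfl⟩)
      rwa [← hvs] at h5
    · exact Submodule.subset_span ⟨y, rfl⟩
  let B := basisOfTopLeSpanOfCardEqFinrank (fun y : K => ep R v (some y)) hsp.ge hdim.symm
  have hB : ∀ y, B y = ep R v (some y) := fun P => by
    rw [coe_basisOfTopLeSpanOfCardEqFinrank]
  have hrep : ∀ y z : K, B.repr (ep R v (some y)) z = if y = z then 1 else 0 := by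
    intro y z
    rw [← hB, Basis.repr_self, Finsupp.single_apply]
  have hrepv : ∀ z : K, B.repr v z = c⁻¹ := by
    intro z
    conv_lhs => rw [hvs]
    rw [map_smul, map_sum, Finsupp.smul_apply, Finsupp.finsetSum_apply, Finset.sum_congr rfl fun y _ => hrep y z,
      Finset.sum_ite_eq' Finset.univ z, if_pos (Finset.mem_univ _), smul_eq_mul, mul_one]
  have key : ∀ z : K, (hz : z ≠ 0) → lam (-1) * c⁻¹ + lam (-(Units.mk0 z hz)⁻¹) = 0 := by
    intro z hz
    have h1 := congrArg (fun x => B.repr x z) hw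
    simp only [map_add, map_smul, map_sum, Finsupp.add_apply, Finsupp.smul_apply, Finsupp.finsetSum_apply, hrepv,
      smul_eq_mul] at h1
    have h2 : R (w 1) v = ep R v (some 0) := by
      change _ = R (u 0) (R (w 1) v)
      rw [u_zero, map_one, Module.End.one_apply]
    rw [h2, hrep, if_neg (Ne.symm hz), mul_zero, Finset.sum_eq_single (-z⁻¹)] at h1
    · have hz' : -z⁻¹ ≠ 0 := neg_ne_zero.2 (inv_ne_zero hz)
      rw [h.w_ne hz', map_smul, Finsupp.smul_apply, hrep, if_pos (by rw [inv_neg, inv_inv, neg_neg]), smul_eq_mul,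
        mul_one] at h1
      have h3 : Units.mk0 (-z⁻¹) hz' = -(Units.mk0 z hz)⁻¹ := by
        apply Units.ext
        simp
      rwa [h3] at h1
    · intro y hy hne
      rw [h.w_ne (Finset.ne_of_mem_erase hy), map_smul, Finsupp.smul_apply, hrep, if_neg, smul_zero]
      intro h3
      apply hne
      rw [← h3, inv_neg, inv_inv, neg_neg]
    · intro hn
      exact absurd (Finset.mem_erase.2 ⟨neg_ne_zero.2 (inv_ne_zero hz), Finset.mem_univ _⟩) hn
  have hm1 : lam (-1) * c⁻¹ = -1 := by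
    have h1 := key (-1) (neg_ne_zero.2 one_ne_zero)
    have h2 : (-(Units.mk0 (-1 : K) (neg_ne_zero.2 one_ne_zero))⁻¹ : Kˣ) = 1 := by
      apply Units.ext
      simp
    rw [h2, h.one] at h1
    linear_combination h1
  have hall : ∀ a, lam a = 1 := by
    intro a
    have h0 : (-((a⁻¹ : Kˣ) : K)) ≠ 0 := neg_ne_zero.2 (Units.ne_zero _)
    have h1 := key _ h0
    have h2 : (-(Units.mk0 (-((a⁻¹ : Kˣ) : K)) h0)⁻¹ : Kˣ) = a := by
      apply Units.ext
      simp
    rw [h2, hm1] at h1
    linear_combination h1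
  refine ⟨hall, ?_⟩
  rw [hall, one_mul] at hm1
  have h3 : c = -1 := by
    rw [← inv_inv c, hm1]
    norm_num
  rw [hsum, h3, neg_smul, one_smul]

/-- The diagonal entries of `g` on the Steinberg module. -/
def steinCoeff [DecidableEq K] (g : SpecialLinearGroup (Fin 2) K) (y : K) : ℤ :=
  if g.1 1 0 * y + g.1 1 1 = 0 then -1 else if g.1 0 0 * y + g.1 0 1 = y * (g.1 1 0 * y + g.1 1 1) then 1 else 0

include hψ hK in
/-- The traces of the Steinberg module are integers. -/
theorem Prin.trace_stein [DecidableEq K] (h : Prin R v lam) (hv : E R ψ 0 v = v)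
    (hspan : Submodule.span k (Set.range R) = ⊤) (hdim : finrank k V = Fintype.card K)
    (hr : finrank k (LinearMap.range (E R ψ 0)) ≤ 1) (g : SpecialLinearGroup (Fin 2) K) :
    LinearMap.trace k V (R g) = ((∑ y : K, steinCoeff g y : ℤ) : k) := by
  obtain ⟨hall, hsum⟩ := h.stein hψ hK hv hspan hdim hr
  have hvs : v = -∑ y : K, ep R v (some y) := by rw [hsum, neg_neg]
  have hsp : Submodule.span k (Set.range fun y : K => ep R v (some y)) = ⊤ := by
    rw [eq_top_iff, ← h.span hspan, Submodule.span_le]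
    rintro _ ⟨P, rfl⟩
    rcases P with _ | y
    · have h5 : -∑ y : K, ep R v (some y) ∈ Submodule.span k (Set.range fun y : K => ep R v (some y)) :=
        Submodule.neg_mem _ (Submodule.sum_mem _ fun y _ => Submodule.subset_span ⟨y, rfl⟩)
      rwa [← hvs] at h5
    · exact Submodule.subset_span ⟨y, rfl⟩
  let B := basisOfTopLeSpanOfCardEqFinrank (fun y : K => ep R v (some y)) hsp.ge hdim.symm
  have hB : ∀ y, B y = ep R v (some y) := fun P => by
    rw [coe_basisOfTopLeSpanOfCardEqFinrank]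
  have hrep : ∀ y z : K, B.repr (ep R v (some y)) z = if y = z then 1 else 0 := by
    intro y z
    rw [← hB, Basis.repr_self, Finsupp.single_apply]
  have hrepv : ∀ z : K, B.repr v z = -1 := by
    intro z
    conv_lhs => rw [hvs]
    rw [map_neg, map_sum, Finsupp.neg_apply, Finsupp.finsetSum_apply, Finset.sum_congr rfl fun y _ => hrep y z,
      Finset.sum_ite_eq' Finset.univ z, if_pos (Finset.mem_univ _)]
  rw [LinearMap.trace_eq_matrix_trace k B, Matrix.trace, Int.cast_sum]
  refine Finset.sum_congr rfl fun y _ => ?_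
  rw [Matrix.diag_apply, LinearMap.toMatrix_apply, hB, steinCoeff]
  by_cases hy : g.1 1 0 * y + g.1 1 1 = 0
  · obtain ⟨a, -, h2⟩ := h.ep_of_zero hy
    rw [h2, hall, one_smul, hrepv, if_pos hy]
    simp
  · rw [h.ep_of_ne hy, hall, one_smul, hrep, if_neg hy]
    by_cases h3 : g.1 0 0 * y + g.1 0 1 = y * (g.1 1 0 * y + g.1 1 1)
    · rw [if_pos h3, if_pos (by rw [h3, mul_div_cancel_right₀ _ hy])]
      simp
    · rw [if_neg h3, if_neg (by rw [div_eq_iff hy]; exact h3)]
      simp

end Steinberg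

end Cfsg.Agent.H931.L2T
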