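import Cfsg.Agent.H931.L2Prin

/-!
# Conjugacy classes of `SL₂(q)` and traces (helper931)

* `conj_companion` : an element of trace `τ`, `τ² ≠ 4`, of `SL₂(K)`, `K` finite, is conjugate to `u τ * w 1`;
* `trace_eq_X` : its trace on `V`; `trace_int_of_pm` : for `τ² = 4` the trace is an integer if all weights `b ≠ 0` occur.
-/

set_option autoImplicit false
set_option linter.unusedSectionVars false

namespace Cfsg.Agent.H931.L2T

open Matrix Module Cfsg Cfsg.Geo Cfsg.Agent.H464.Sl2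

/-- the matrix trace -/
def mt {K : Type*} [Field K] (g : SpecialLinearGroup (Fin 2) K) : K := g.1 0 0 + g.1 1 1

section Conj

variable {K : Type*} [Field K]

theorem coe_uw (τ : K) : (u τ * w 1).1 = !![τ, -1; 1, 0] := by
  change (u τ).1 * (w 1).1 = _
  have e1 : (u τ).1 = !![1, τ; 0, 1] := rfl
  have e2 : (w (1 : Kˣ)).1 = !![0, -(((1 : Kˣ)⁻¹ : Kˣ) : K); ((1 : Kˣ) : K), 0] := rfl
  rw [e1, e2]
  ext i j
  fin_cases i <;> fin_cases j <;> simp [Matrix.mul_apply, Fin.sum_univ_two]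

theorem mt_uw (τ : K) : mt (u τ * w 1) = τ := by
  rw [mt, coe_uw]; simp

theorem mt_t (a : Kˣ) : mt (t a) = (a : K) + ((a⁻¹ : Kˣ) : K) := rfl

theorem mt_conj (h g : SpecialLinearGroup (Fin 2) K) : mt (h * g * h⁻¹) = mt g := by
  have e : ∀ g : SpecialLinearGroup (Fin 2) K, mt g = g.1.trace := fun g => by
    rw [mt, Matrix.trace_fin_two]
  rw [e, e]
  change (h.1 * g.1 * (h⁻¹).1).trace = _
  rw [Matrix.trace_mul_comm, ← Matrix.mul_assoc]
  have h1 : (h⁻¹).1 * h.1 = 1 := by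
    change (h⁻¹ * h).1 = 1
    rw [inv_mul_cancel]
    rfl
  rw [h1, Matrix.one_mul]

/-- The form `det (x, g x)` represents `1`. -/
theorem exists_vec [Finite K] (g : SpecialLinearGroup (Fin 2) K) (ht : mt g ^ 2 - 4 ≠ 0) :
    ∃ x z : K, g.1 1 0 * x ^ 2 + (g.1 1 1 - g.1 0 0) * x * z - g.1 0 1 * z ^ 2 = 1 := by
  have hdet : g.1 0 0 * g.1 1 1 - g.1 0 1 * g.1 1 0 = 1 := by
    have := g.2
    rwa [Matrix.det_fin_two] at this
  have hD : mt g ^ 2 - 4 = (g.1 1 1 - g.1 0 0) ^ 2 + 4 * (g.1 0 1 * g.1 1 0) := by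
    rw [mt]
    linear_combination 4 * hdet
  by_cases hc : g.1 1 0 = 0
  · have h1 : g.1 1 1 - g.1 0 0 ≠ 0 := by
      intro h
      apply ht
      rw [hD, h, hc]
      ring
    refine ⟨(1 + g.1 0 1) / (g.1 1 1 - g.1 0 0), 1, ?_⟩
    rw [hc]
    field_simp
    ring
  · by_cases h2 : (2 : K) = 0
    · have hp2 : CharP K 2 := CharTwo.of_one_ne_zero_of_two_eq_zero one_ne_zero h2
      have : Fact (Nat.Prime 2) := ⟨Nat.prime_two⟩
      obtain ⟨y, hy⟩ := Finite.injective_iff_surjective.1 (frobenius_inj K 2) (g.1 1 0)⁻¹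
      rw [frobenius_def] at hy
      refine ⟨y, 0, ?_⟩
      rw [hy]
      field_simp
      ring
    · obtain ⟨X, z, hXz⟩ := Cfsg.Agent.H906.exists_sq_sub h2 (mt g ^ 2 - 4) (4 * g.1 1 0) ht
      refine ⟨(X - (g.1 1 1 - g.1 0 0) * z) / (2 * g.1 1 0), z, ?_⟩
      rw [hD] at hXz
      have h4 : (4 : K) ≠ 0 := by
        have : (4 : K) = 2 * 2 := by norm_num
        rw [this]
        exact mul_ne_zero h2 h2
      field_simp
      linear_combination hXz

/-- **Elements of trace `τ ≠ ± 2` are conjugate to the companion matrix.** -/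
theorem conj_companion [Finite K] (g : SpecialLinearGroup (Fin 2) K) (ht : mt g ^ 2 - 4 ≠ 0) :
    ∃ h : SpecialLinearGroup (Fin 2) K, g = h * (u (mt g) * w 1) * h⁻¹ := by
  obtain ⟨x, z, hxz⟩ := exists_vec g ht
  have hdet : g.1 0 0 * g.1 1 1 - g.1 0 1 * g.1 1 0 = 1 := by
    have := g.2
    rwa [Matrix.det_fin_two] at this
  obtain ⟨h, hh⟩ : ∃ h : SpecialLinearGroup (Fin 2) K,
      h.1 = !![x, g.1 0 0 * x + g.1 0 1 * z - mt g * x; z, g.1 1 0 * x + g.1 1 1 * z - mt g * z] := by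
    refine ⟨⟨_, ?_⟩, rfl⟩
    rw [Matrix.det_fin_two_of, mt]
    linear_combination hxz
  refine ⟨h, ?_⟩
  rw [eq_mul_inv_iff_mul_eq]
  apply Subtype.ext
  change g.1 * h.1 = h.1 * (u (mt g) * w 1).1
  rw [coe_uw, hh]
  ext i j
  rw [Matrix.mul_apply, Matrix.mul_apply, Fin.sum_univ_two, Fin.sum_univ_two]
  fin_cases i <;> fin_cases j <;> simp [mt]
  · ring
  · linear_combination (-x) * hdet
  · ring
  · linear_combination (-z) * hdet

end Conj

section Trace

variable {K : Type*} [Field K] [Fintype K] {k : Type*} [Field k] {V : Type*} [AddCommGroup V] [Module k V]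
  [FiniteDimensional k V] (R : SpecialLinearGroup (Fin 2) K →* Module.End k V) {ψ : AddChar K k}
  (hψ : ψ.IsPrimitive) (hK : (Fintype.card K : k) ≠ 0)

/-- The trace of `V` as a function of the matrix trace. -/
noncomputable def X (τ : K) : k := LinearMap.trace k V (R (u τ * w 1))

theorem tr_conj' (h g : SpecialLinearGroup (Fin 2) K) :
    LinearMap.trace k V (R (h * g * h⁻¹)) = LinearMap.trace k V (R g) := by
  rw [map_mul, LinearMap.trace_mul_comm, ← map_mul, ← mul_assoc, inv_mul_cancel, one_mul]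

theorem trace_eq_X (g : SpecialLinearGroup (Fin 2) K) (ht : mt g ^ 2 - 4 ≠ 0) :
    LinearMap.trace k V (R g) = X R (mt g) := by
  obtain ⟨h, hh⟩ := conj_companion g ht
  conv_lhs => rw [hh]
  rw [tr_conj', X]

include hψ hK in
/-- Traces of unipotent elements. -/
theorem trace_u_ne (hall : ∀ b : K, b ≠ 0 → finrank k (LinearMap.range (E R ψ b)) = 1) {x : K} (hx : x ≠ 0) :
    LinearMap.trace k V (R (u x)) = (finrank k (LinearMap.range (E R ψ 0)) : k) - 1 := by
  classical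
  rw [trace_u R hψ hK, ← Finset.add_sum_erase _ _ (Finset.mem_univ (0 : K)), zero_mul, AddChar.map_zero_eq_one, one_mul]
  have h1 : ∑ b ∈ Finset.univ.erase (0 : K), ψ (b * x) * (finrank k (LinearMap.range (E R ψ b)) : k) =
      ∑ b ∈ Finset.univ.erase (0 : K), ψ (b * x) := by
    refine Finset.sum_congr rfl fun b hb => ?_
    rw [hall b (Finset.ne_of_mem_erase hb), Nat.cast_one, mul_one]
  have h2 : ∑ b : K, ψ (b * x) = 0 := by
    rw [AddChar.sum_mulShift x hψ, if_neg hx, Nat.cast_zero]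
  rw [← Finset.add_sum_erase _ _ (Finset.mem_univ (0 : K)), zero_mul, AddChar.map_zero_eq_one] at h2
  rw [h1]
  linear_combination h2

include hψ hK in
/-- On the elements of trace `± 2` the trace is an integer. -/
theorem trace_int_of_pm (hall : ∀ b : K, b ≠ 0 → finrank k (LinearMap.range (E R ψ b)) = 1)
    {c : k} (hc1 : c = 1 ∨ c = -1) (hc : R (t (-1)) = c • 1) (g : SpecialLinearGroup (Fin 2) K)
    (ht : mt g ^ 2 - 4 = 0) : ∃ m : ℤ, LinearMap.trace k V (R g) = m := by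
  obtain ⟨h, ε, y, hε, rfl⟩ := exists_conj_unip g ht
  rw [tr_conj']
  have h1 : ε = 1 ∨ ε = -1 := by
    have h2 : (ε : K) ^ 2 = 1 := by
      rw [← Units.val_pow_eq_pow_val, hε, Units.val_one]
    rw [sq] at h2
    rcases mul_self_eq_one_iff.1 h2 with h | h
    · exact Or.inl (Units.ext h)
    · exact Or.inr (Units.ext h)
  have h3 : ∃ m : ℤ, LinearMap.trace k V (R (u y)) = m := by
    by_cases hy : y = 0
    · refine ⟨finrank k V, ?_⟩
      rw [hy, u_zero, map_one, LinearMap.trace_one]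
      simp
    · refine ⟨(finrank k (LinearMap.range (E R ψ 0)) : ℤ) - 1, ?_⟩
      rw [trace_u_ne R hψ hK hall hy]
      push_cast
      ring
  obtain ⟨m, hm⟩ := h3
  rcases h1 with rfl | rfl
  · exact ⟨m, by rw [t_one, one_mul, hm]⟩
  · rw [map_mul, hc, smul_mul_assoc, one_mul, map_smul, hm]
    rcases hc1 with rfl | rfl
    · exact ⟨m, by rw [one_smul]⟩
    · exact ⟨-m, by push_cast; rw [neg_smul, one_smul]⟩

end Trace

end Cfsg.Agent.H931.L2T
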