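import Cfsg.Agent.H931.K1Main
import Cfsg.Agent.H881.U34.Main
import Cfsg.Agent.LieClassical.FieldTransfer

/-!
# `U₃(4)` is not maximal in `Sp₁₂(F)`, `F` of odd order (helper931)

`k1` : `H` maximal in `spGL 6 F`, `P` a residual core of `H`, `P / scalars ≃ PSU₃(4)`, `|F|` odd, is impossible
(`P` is contained in `2.G₂(4)`).
-/

set_option autoImplicit false

namespace Cfsg.Agent.H931.K1Final

open Cfsg Cfsg.Geo Matrix Cfsg.Agent.SporadicA.Co0Basic Cfsg.Agent.H931.K1Red Cfsg.Agent.H931.K1Quat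
  Cfsg.Agent.H931.K1Lift Cfsg.Agent.H931.K1Core Cfsg.Agent.H931.K1Big Cfsg.Agent.H931.K1Grp Cfsg.Agent.H931.K1Aut
  Cfsg.Agent.H931.K1SU Cfsg.Agent.H931.K1F16 Cfsg.Agent.H931.K1Norm Cfsg.Agent.H931.K1Main Cfsg.Agent.H915.LD

theorem card_F16 : Fintype.card F16 = 16 := by rfl

/-- the perfect lift is `SU₃(4)` -/
theorem neg_not_mem : negCo0 ∉ Dd := by
  intro hneg
  have hX : commutator X = ⊤ := by
    apply Subgroup.map_injective X.subtype_injective
    have h1 : (⊤ : Subgroup X).map X.subtype = X := by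
      rw [← MonoidHom.range_eq_map, Subgroup.range_subtype]
    rw [commutator_def, Subgroup.map_commutator, h1, X_perfect]
  have hs : Function.Surjective (K1Aut.equiv.toMonoidHom.comp th) := K1Aut.equiv.surjective.comp th_surjective
  have hc : (K1Aut.equiv.toMonoidHom.comp th).ker ≤ Subgroup.center X := by
    intro x hx
    have h1 : th x = 1 := K1Aut.equiv.injective (by rw [map_one]; exact hx)
    rw [th_eq_one_iff] at h1
    rw [Subgroup.mem_center_iff]
    intro y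
    rcases (prH_eq_iff x.1.1 1).1 (h1.trans (map_one prH).symm) with h | h
    · have : x = 1 := Subtype.ext (Subtype.ext h)
      rw [this, mul_one, one_mul]
    · rw [mul_one] at h
      apply Subtype.ext
      apply Subtype.ext
      show y.1.1 * x.1.1 = x.1.1 * y.1.1
      rw [h, neg_comm]
  have hi := Cfsg.Agent.H95.StemCover.injective_of_trivial (Cfsg.Agent.H881.U34.mult (K := F16) card_F16) hX _ hs hc
  let n : X := ⟨⟨negCo0, neg_mem_Cq⟩, hneg⟩
  have h1 : (K1Aut.equiv.toMonoidHom.comp th) n = 1 := by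
    have : th n = 1 := (th_eq_one_iff n).2 prH_neg
    rw [MonoidHom.comp_apply, this, map_one]
  have h2 : n = 1 := hi (h1.trans (map_one _).symm)
  have h3 : negCo0 = 1 := congrArg (fun x : X => x.1.1) h2
  have h4 : (2 : ℚ) ≠ 0 := by norm_num
  have h5 := rmat_neg h4
  rw [h3, rmat_one h4] at h5
  have : Fintype.card GolayPt = 24 := by decide
  obtain ⟨i⟩ : Nonempty GolayPt := Fintype.card_pos_iff.1 (by rw [this]; norm_num)
  have h6 := congrFun (congrFun h5 i) i
  rw [Matrix.neg_apply, Matrix.one_apply_eq] at h6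
  norm_num at h6

section

variable {F : Type*} [Field F] {ι : Type} [Fintype ι] [DecidableEq ι]

/-- a group of matrices as endomorphisms -/
noncomputable def toEnd (ρ : SU34 →* GL ι F) : SU34 →* Module.End F (ι → F) :=
  ((Matrix.toLinAlgEquiv' : Matrix ι ι F ≃ₐ[F] _) : Matrix ι ι F →* Module.End F (ι → F)).comp
    ((Units.coeHom (Matrix ι ι F)).comp ρ)

theorem toEnd_apply (ρ : SU34 →* GL ι F) (g : SU34) : toEnd ρ g = Matrix.toLin' (ρ g : Matrix ι ι F) := rfl

theorem trace_toEnd (ρ : SU34 →* GL ι F) (g : SU34) :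
    LinearMap.trace F (ι → F) (toEnd ρ g) = (ρ g : Matrix ι ι F).trace := by
  rw [toEnd_apply, Matrix.trace_toLin'_eq]

theorem toEnd_inj {ρ : SU34 →* GL ι F} (h : Function.Injective ρ) (g : SU34) (hg : toEnd ρ g = 1) : g = 1 := by
  apply h
  rw [map_one]
  apply Units.ext
  apply Matrix.toLin'.injective
  rw [← toEnd_apply, hg, Units.val_one, Matrix.toLin'_one]
  rfl

theorem trace_eq_trace (h2 : (2 : F) ≠ 0) {ρ ρ' : SU34 →* GL ι F} (h : Function.Injective ρ)
    (h' : Function.Injective ρ') (hn : Fintype.card ι = 12) (g : SU34) :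
    (ρ g : Matrix ι ι F).trace = (ρ' g : Matrix ι ι F).trace := by
  have hs := Cfsg.Agent.H881.U34.su3 (Cfsg.Agent.H881.U34.sig_fld (K := F16) card_F16)
  have h1 := Cfsg.Agent.H881.U34.trace_eq hs h2 (ρ := toEnd ρ) (toEnd_inj h) (by rw [Module.finrank_pi, hn]) g
  have h3 := Cfsg.Agent.H881.U34.trace_eq hs h2 (ρ := toEnd ρ') (toEnd_inj h') (by rw [Module.finrank_pi, hn]) g
  rw [← trace_toEnd, ← trace_toEnd, h1, h3]

theorem rp_injective (D : Dt F ι) (hneg : negCo0 ∉ Dd) : Function.Injective (rp D hneg) := by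
  rw [injective_iff_map_eq_one]
  intro A hA
  rw [rp_apply] at hA
  have h1 := prH_of_scalar D ((Dd_le.trans St_le) (lam hneg A).2) (by rw [hA]; exact one_mem _)
  have h3 := (th_eq_one_iff (lam hneg A)).2 h1
  rwa [th_lam] at h3

/-- the representation of `SU₃(4)` given by a core -/
theorem exists_rep {P : Subgroup (GL ι F)} (hC : Core P)
    (e : ∃ (K : Type) (_ : Field K) (_ : Fintype K), Fintype.card K = 4 ^ 2 ∧ Nonempty (Soc P ≃* PSU 3 K 4)) :
    ∃ ρ : SU34 →* GL ι F, ρ.range = P ∧ Function.Injective ρ := by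
  obtain ⟨K, _, _, hK, ⟨e⟩⟩ := e
  have hK' : Fintype.card K = 16 := by rw [hK]; norm_num
  obtain ⟨e', -⟩ := Cfsg.Agent.H881.U34.exists_equiv hK' hC e
  let k : F16 ≃+* K := FiniteField.ringEquivOfCardEq (by rw [card_F16, hK'])
  let E : SU34 ≃* P := (K1Aut.equiv.trans (Cfsg.Agent.LieClassical.FieldTransfer.psuCongr 3 4 k)).trans e'.symm
  refine ⟨P.subtype.comp E.toMonoidHom, ?_, ?_⟩
  · ext x
    constructor
    · rintro ⟨A, rfl⟩
      exact (E A).2
    · intro hx
      exact ⟨E.symm ⟨x, hx⟩, congrArg Subtype.val (E.apply_symm_apply ⟨x, hx⟩)⟩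
  · exact P.subtype_injective.comp E.injective

/-- **`U₃(4)` is not maximal in `Sp₁₂`.** -/
theorem k1' [Finite F] (h2 : (2 : F) ≠ 0) {H P : Subgroup (GL I12 F)} (hH : IsMaximalIn (spGL 6 F) H)
    (hR : IsResidualCore H P)
    (e : ∃ (K : Type) (_ : Field K) (_ : Fintype K), Fintype.card K = 4 ^ 2 ∧ Nonempty (Soc P ≃* PSU 3 K 4)) :
    False := by
  have hn : Fintype.card I12 = 12 := by decide
  obtain ⟨ρ, hρ, hinj⟩ := exists_rep (core_of_residual hR) e
  obtain ⟨D⟩ := exists_Dt (F := F) (ι := I12) h2 hn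
  have hadj : Algebra.adjoin F (Set.range fun g => (ρ g : Matrix I12 I12 F)) = ⊤ := by
    rw [← Cfsg.Agent.H920.adjoin_eq_top hR.absIrred]
    congr 1
    ext x
    constructor
    · rintro ⟨g, rfl⟩
      exact ⟨ρ g, by rw [← hρ]; exact ⟨g, rfl⟩, rfl⟩
    · rintro ⟨y, hy, rfl⟩
      rw [← hρ] at hy
      obtain ⟨g, rfl⟩ := hy
      exact ⟨g, rfl⟩
  obtain ⟨J0, hJ⟩ := Cfsg.Agent.H920.exists_conj_of_trace ρ (rp D neg_not_mem) hadj
    (trace_eq_trace h2 hinj (rp_injective D _) hn)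
  exact main hH hR D neg_not_mem ρ hρ hinj J0 hJ

/-- **`U₃(4)` is not maximal in `Sp₁₂`.** The hypothesis `e` is `H912.Bd.IsU 3 4 (Soc P)`. -/
theorem k1 [Finite F] (p : ℕ) [hp : Fact p.Prime] [CharP F p] (hp2 : p ≠ 2) {H P : Subgroup (GL (Fin 6 ⊕ Fin 6) F)}
    (hH : IsMaximalIn (spGL 6 F) H) (hR : IsResidualCore H P)
    (e : ∃ (K : Type) (_ : Field K) (_ : Fintype K), Fintype.card K = 4 ^ 2 ∧ Nonempty (Soc P ≃* PSU 3 K 4)) :
    False := by
  refine k1' ?_ hH hR e
  intro h0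
  have h1 : ((2 : ℕ) : F) = 0 := by exact_mod_cast h0
  rw [CharP.cast_eq_zero_iff F p, Nat.prime_dvd_prime_iff_eq hp.out Nat.prime_two] at h1
  exact hp2 h1

end

end Cfsg.Agent.H931.K1Final
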