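import Cfsg.Agent.H530.Flag
import Cfsg.Agent.ClassicalGeometry.PSUAutBasic
import Cfsg.Agent.LieClassical.HermPerfect

/-!
# Coprime class sizes in `PSU_n(q)`: transitivity of `C(y)` on isotropic points (tasks 213, 214; for S4158)

* `form_of_comm` : `z ∈ SU` centralizing the Siegel group of the isotropic vector `e` is `w ↦ a w + b h(w,e) e`.
* `trans` : if `x`, `y ∈ PSU` have coprime class sizes, `p ∤ |x^G|` and `Y` is a lift of `y` then elements of `SU`
  commuting with `Y` up to scalars are transitive on the isotropic points.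
* `noCop_of_exists` : `NoCop (PSU n F q)` if every `Y` has an isotropic `v ≠ 0` with `h(v, Y v) = 0`.
-/

set_option autoImplicit false
set_option linter.unusedSectionVars false

namespace Cfsg.Agent.H931.CopPsu

open Matrix Subgroup Cfsg Cfsg.Agent.H530.Cop Cfsg.Agent.H530.LinTools
open Cfsg.Agent.LieClassical.HermBasic Cfsg.Agent.LieClassical.HermSiegel Cfsg.Agent.LieClassical.HermSimple
open Cfsg.Agent.ClassicalGeometry.PSUAutBasic Cfsg.Agent.LieClassical.SUBasic

variable {F : Type} [Field F] [Fintype F] {n q : ℕ}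

/-- expansion with respect to a hyperbolic pair -/
theorem eq_of_perp (hF : Fintype.card F = q ^ 2) {e f : Fin n → F} (hfe : hermForm n F q f e = 1)
    {x : Fin n → F}
    (h : ∀ y, hermForm n F q y e = 0 → hermForm n F q x y = 0) : x = hermForm n F q x f • e := by
  rw [← sub_eq_zero]
  apply herm_nondeg hF
  intro v
  have h1 := h (v - hermForm n F q v e • f) (by
    rw [herm_sub_left, herm_smul_left, hfe, mul_one, sub_self])
  rw [herm_sub_right hF, herm_smul_right] at h1
  have h2 : hermForm n F q e v = hermForm n F q v e ^ q := herm_swap hF v e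
  rw [herm_sub_left, herm_smul_left, h2]
  linear_combination h1

/-- the centralizer of the Siegel group -/
theorem form_of_comm (hF : Fintype.card F = q ^ 2) {e : Fin n → F} (he0 : e ≠ 0)
    (he : hermForm n F q e e = 0) {z : SU n F q} (hz : ∀ u ∈ siegG hF e he, u * z = z * u) :
    ∃ a b : F, ∀ w, act z w = a • w + (b * hermForm n F q w e) • e := by
  obtain ⟨i, hi⟩ := Function.ne_iff.1 he0
  have hi' : e i ≠ 0 := hi
  have hcan : ∀ s t : F, s • e = t • e → s = t := by
    intro s t h
    have := congrFun h i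
    rw [Pi.smul_apply, Pi.smul_apply, smul_eq_mul, smul_eq_mul] at this
    exact mul_right_cancel₀ hi' this
  obtain ⟨f, hf, hef⟩ := exists_partner hF he0 he
  have hfe : hermForm n F q f e = 1 := by rw [herm_swap hF e f, hef, one_pow]
  obtain ⟨κ, hκ0, hκ⟩ := exists_trace_zero_ne hF
  -- transvections
  have h1 : ∀ w, hermForm n F q (act z w) e • e = hermForm n F q w e • act z e := by
    intro w
    have h := hz (siegel hF e 0 κ (isSiegel_zero he hκ)) (mem_siegG.2 ⟨0, κ, isSiegel_zero he hκ, rfl⟩)
    have h2 := congrArg (fun g => act g w) h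
    simp only [act_mul] at h2
    rw [act_siegel, act_siegel, act_add, act_add, act_smul, act_smul] at h2
    simp only [smul_zero, add_zero, act_zero, herm_zero_right hF, sub_zero] at h2
    have h3 := add_left_cancel h2
    rw [mul_smul, mul_smul] at h3
    exact smul_right_injective _ hκ0 h3
  set a := hermForm n F q (act z f) e with ha
  have hze : act z e = a • e := by
    have := h1 f
    rw [hfe, one_smul] at this
    exact this.symm
  have h2 : ∀ w, hermForm n F q (act z w) e = a * hermForm n F q w e := by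
    intro w
    have := h1 w
    rw [hze, smul_smul] at this
    rw [hcan _ _ this, mul_comm]
  -- Siegel transformations
  have h3 : ∀ y, hermForm n F q y e = 0 → ∀ w, hermForm n F q w e • (act z y - a • y) =
      (a * hermForm n F q w y - hermForm n F q (act z w) y) • e := by
    intro y hy w
    obtain ⟨μ, hμ⟩ := exists_trace_eq hF (c := -hermForm n F q y y) (by rw [neg_pow_q hF, herm_self_pow hF])
    have hS : IsSiegel q e y μ := ⟨he, hy, by rw [hμ, neg_add_cancel]⟩
    have h := hz (siegel hF e y μ hS) (mem_siegG.2 ⟨y, μ, hS, rfl⟩)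
    have h4 := congrArg (fun g => act g w) h
    simp only [act_mul] at h4
    rw [act_siegel, act_siegel, act_add, act_add, act_smul, act_smul, hze, h2 w] at h4
    rw [add_assoc, add_assoc] at h4
    have h5 := add_left_cancel h4
    have h6 : hermForm n F q w e • (act z y - a • y) - (a * hermForm n F q w y - hermForm n F q (act z w) y) • e =
        (hermForm n F q w e • act z y + (μ * hermForm n F q w e - hermForm n F q w y) • a • e) -
        ((a * hermForm n F q w e) • y + (μ * (a * hermForm n F q w e) - hermForm n F q (act z w) y) • e) := by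
      module
    rw [← sub_eq_zero, h6, ← h5, sub_self]
  obtain ⟨lam, hlam⟩ := exists_not_fixed hF
  have h4 : ∀ y, hermForm n F q y e = 0 → act z y = a • y := by
    intro y hy
    have e1 := h3 y hy f
    have e2 := h3 (lam • y) (by rw [herm_smul_left, hy, mul_zero]) f
    rw [hfe, one_smul] at e1 e2
    rw [act_smul, herm_smul_right, herm_smul_right] at e2
    have e3 : act z y = a • y + (a * hermForm n F q f y - hermForm n F q (act z f) y) • e := by
      rw [← e1]; abel
    set m := a * hermForm n F q f y - hermForm n F q (act z f) y with hm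
    rw [e3] at e2
    have e4 : (lam * m) • e = (lam ^ q * m) • e := by
      calc (lam * m) • e = lam • (a • y + m • e) - a • lam • y := by module
        _ = (a * (lam ^ q * hermForm n F q f y) - lam ^ q * hermForm n F q (act z f) y) • e := e2
        _ = _ := by rw [hm]; module
    have e5 := hcan _ _ e4
    have e6 : (lam ^ q - lam) * m = 0 := by linear_combination -e5
    have e7 : m = 0 := (mul_eq_zero.1 e6).resolve_left (sub_ne_zero.2 hlam)
    rw [e3, e7, zero_smul, add_zero]
  have h5 : ∀ y, hermForm n F q y e = 0 → ∀ w, hermForm n F q (act z w) y = a * hermForm n F q w y := by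
    intro y hy w
    have e1 := h3 y hy w
    rw [h4 y hy, sub_self, smul_zero] at e1
    have e2 : (a * hermForm n F q w y - hermForm n F q (act z w) y) = 0 := by
      apply hcan
      rw [← e1, zero_smul]
    linear_combination -e2
  have h6 : act z f - a • f = hermForm n F q (act z f - a • f) f • e := by
    apply eq_of_perp hF hfe
    intro y hy
    rw [herm_sub_left, herm_smul_left, h5 y hy, sub_self]
  refine ⟨a, hermForm n F q (act z f - a • f) f, fun w => ?_⟩
  have h7 := h4 (w - hermForm n F q w e • f) (by rw [herm_sub_left, herm_smul_left, hfe, mul_one, sub_self])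
  rw [act_sub, act_smul] at h7
  have h8 : act z f = a • f + hermForm n F q (act z f - a • f) f • e := by rw [← h6]; abel
  have h9 : act z w = a • (w - hermForm n F q w e • f) + hermForm n F q w e • act z f := by rw [← h7]; abel
  rw [h9]
  nth_rewrite 1 [h8]
  module

/-- a common orthogonal vector -/
theorem exists_perp (hn : 3 ≤ n) (u v : Fin n → F) :
    ∃ w : Fin n → F, w ≠ 0 ∧ hermForm n F q w u = 0 ∧ hermForm n F q w v = 0 := by
  obtain ⟨w, hw, h1, h2⟩ := exists_ne_of_card (ι := Fin n) (by rwa [Fintype.card_fin]) (fun i => u i ^ q)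
    (fun i => v i ^ q)
  exact ⟨w, hw, h1, h2⟩

/-- **transitivity on isotropic points** -/
theorem trans (hF : Fintype.card F = q ^ 2) (hn : 3 ≤ n) {p : ℕ} [Fact p.Prime] [CharP F p] {x y : PSU n F q}
    (hx1 : x ≠ 1) (hc : (ci x).Coprime (ci y)) (hpx : ¬ p ∣ ci x) {Y : SU n F q} (hY : pr n F q Y = y)
    {v v' : Fin n → F} (hv0 : v ≠ 0) (hv : hermForm n F q v v = 0) (hv0' : v' ≠ 0)
    (hv' : hermForm n F q v' v' = 0) :
    ∃ (C : SU n F q) (s r : F), s ≠ 0 ∧ r ^ n = 1 ∧ r ^ (q + 1) = 1 ∧ act C v = s • v' ∧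
      ∀ w, act C (act Y w) = r • act Y (act C w) := by
  have hpp : p.Prime := Fact.out
  let O := {o : Fin n → F // o ≠ 0 ∧ hermForm n F q o o = 0}
  let V : O → Subgroup (PSU n F q) := fun o => (siegG hF o.1 o.2.2).map (pr n F q)
  have hV : ∀ o, IsPGroup p (V o) := fun o => (isPGroup_siegG hF p o.2.2).map _
  have hZ : ∀ z ∈ center (SU n F q), ∀ k : ℕ, z ^ p ^ k = 1 → z = 1 :=
    fun z hz k hk => eq_one_of_center_of_pow hF hn hz hk
  have form : ∀ (o : O) (z : SU n F q), (∀ u ∈ V o, u * (pr n F q z) = pr n F q z * u) →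
      pr n F q z ≠ 1 → ∃ a b : F, b ≠ 0 ∧ ∀ w, act z w = a • w + (b * hermForm n F q w o.1) • o.1 := by
    intro o z hz hz1
    obtain ⟨a, b, hab⟩ := form_of_comm hF (z := z) o.2.1 o.2.2 (by
      intro u hu
      obtain ⟨w, μ, h, rfl⟩ := mem_siegG.1 hu
      obtain ⟨k, hk⟩ := siegel_pow_prime_pow hF p h
      refine comm_of_comm hZ hk ?_
      exact hz _ (mem_map_of_mem _ hu))
    refine ⟨a, b, ?_, hab⟩
    rintro rfl
    apply hz1
    rw [pr_eq_one_iff]
    exact mem_center_of_act (c := a) fun v => by rw [hab, zero_mul, zero_smul, add_zero]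
  obtain ⟨z, c, hcy, ⟨g, hzg⟩, hz, hz'⟩ := exists_pair hpp hc hpx V hV ⟨v, hv0, hv⟩ ⟨v', hv0', hv'⟩
  obtain ⟨Z, rfl⟩ := pr_surjective z
  obtain ⟨C, rfl⟩ := pr_surjective c
  have hz1 : pr n F q Z ≠ 1 := by
    rw [hzg]
    intro h
    apply hx1
    have : x = g⁻¹ * (g * x * g⁻¹) * g := by group
    rw [this, h]; group
  have hz1' : pr n F q (C * Z * C⁻¹) ≠ 1 := by
    intro h
    apply hz1
    rw [map_mul, map_mul, map_inv, mul_inv_eq_one] at h
    exact mul_eq_left.1 h
  obtain ⟨a, b, hb, hab⟩ := form _ Z hz hz1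
  obtain ⟨a', b', hb', hab'⟩ := form _ (C * Z * C⁻¹) (by
    intro u hu
    rw [map_mul, map_mul, map_inv]
    exact hz' u hu) hz1'
  change ∀ w, act Z w = a • w + (b * hermForm n F q w v) • v at hab
  change ∀ w, act (C * Z * C⁻¹) w = a' • w + (b' * hermForm n F q w v') • v' at hab'
  have e1 : ∀ w, a • act C w + (b * hermForm n F q w v) • act C v =
      a' • act C w + (b' * hermForm n F q (act C w) v') • v' := by
    intro w
    rw [← hab', ← act_mul, inv_mul_cancel_right, act_mul, hab, act_add, act_smul, act_smul]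
  have haa : a = a' := by
    obtain ⟨w, hw0, hw1, hw2⟩ := exists_perp (q := q) hn v (act C⁻¹ v')
    have h1 := e1 w
    rw [herm_act_left C w v', hw1, hw2, mul_zero, mul_zero, zero_smul, zero_smul, add_zero, add_zero] at h1
    by_contra hne
    have h2 : (a - a') • act C w = 0 := by rw [sub_smul, h1, sub_self]
    rw [smul_eq_zero, sub_eq_zero] at h2
    exact hw0 ((act_eq_zero C).1 (h2.resolve_left hne))
  have e2 : ∀ w, (b * hermForm n F q w v) • act C v = (b' * hermForm n F q (act C w) v') • v' := by
    intro w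
    have := e1 w
    rw [haa] at this
    exact add_left_cancel this
  obtain ⟨f, hf, hvf⟩ := exists_partner hF hv0 hv
  have hfv : hermForm n F q f v = 1 := by rw [herm_swap hF v f, hvf, one_pow]
  obtain ⟨s, hs⟩ : ∃ s : F, act C v = s • v' := by
    have h1 := congrArg (fun t => b⁻¹ • t) (e2 f)
    simp only [hfv, mul_one, smul_smul] at h1
    rw [inv_mul_cancel₀ hb, one_smul] at h1
    exact ⟨_, h1⟩
  have hs0 : s ≠ 0 := by
    rintro rfl
    rw [zero_smul, act_eq_zero] at hs
    exact hv0 hs
  subst hY
  obtain ⟨ζ, hζ, hζ'⟩ := exists_zeta (K := SU n F q) (a := C) (b := Y) hcy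
  obtain ⟨r, hrn, hrq, rfl⟩ := (mem_center_SU_iff hF hn ζ).1 hζ
  refine ⟨C, s, r, hs0, hrn, hrq, hs, fun w => ?_⟩
  rw [← act_mul, hζ', act_mul, act_suScalar, act_mul]

/-- the value `h(v, Y v)` vanishes for all isotropic `v ≠ 0` or for none -/
theorem herm_eq_zero_of_trans {Y C : SU n F q} {s r : F} (hs : s ≠ 0)
    (hr : r ^ (q + 1) = 1) {v v' : Fin n → F} (h1 : act C v = s • v')
    (h2 : ∀ w, act C (act Y w) = r • act Y (act C w)) (h0 : hermForm n F q v (act Y v) = 0) :
    hermForm n F q v' (act Y v') = 0 := by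
  have hr0 : r ≠ 0 := by
    rintro rfl
    rw [zero_pow (by omega)] at hr
    exact zero_ne_one hr
  have h3 : hermForm n F q (act C v) (act C (act Y v)) = 0 := by rw [herm_act, h0]
  rw [h2, h1, act_smul, herm_smul_left, herm_smul_right, herm_smul_right] at h3
  have hsq : s ^ q ≠ 0 := pow_ne_zero _ hs
  have hrq : r ^ q ≠ 0 := pow_ne_zero _ hr0
  rcases mul_eq_zero.1 h3 with h | h
  · exact absurd h hs
  rcases mul_eq_zero.1 h with h | h
  · exact absurd h hrq
  rcases mul_eq_zero.1 h with h | h
  · exact absurd h hsq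
  · exact h

/-- **No two classes of coprime sizes**, if every `Y` has an isotropic `v ≠ 0` with `h(v, Y v) = 0`. -/
theorem noCop_of_exists (hF : Fintype.card F = q ^ 2) (hn : 3 ≤ n) (h32 : ¬ (n = 3 ∧ q = 2))
    (H : ∀ Y : SU n F q, ∃ v : Fin n → F, v ≠ 0 ∧ hermForm n F q v v = 0 ∧ hermForm n F q v (act Y v) = 0) :
    NoCop (PSU n F q) := by
  obtain ⟨p, hp⟩ := CharP.exists F
  have hpp : Fact p.Prime := ⟨CharP.char_is_prime F p⟩
  have hfin : Finite (PSU n F q) := Quotient.finite _
  have hsimple : IsSimpleGroup (PSU n F q) :=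
    isSimpleGroup_of_perfect hF hn (LieClassical.HermPerfect.commutator_SU_eq_top hF hn h32)
  have hna : ¬ IsMulCommutative (PSU n F q) := by
    intro hcomm
    have h1 : commutator (SU n F q) ≤ center (SU n F q) := by
      rw [commutator_def, Subgroup.commutator_le]
      intro g _ h _
      rw [← pr_eq_one_iff, commutatorElement_def, map_mul, map_mul, map_mul, map_inv, map_inv]
      have := hcomm.is_comm.comm (pr n F q g) (pr n F q h)
      rw [this]
      group
    rw [LieClassical.HermPerfect.commutator_SU_eq_top hF hn h32, top_le_iff] at h1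
    exact center_ne_top hF hn h1
  refine noCop_of_char hna hpp.out ⊥ IsPGroup.of_bot ?_
  intro x y hx hy _ hc hpx _
  have hx1 : x ≠ 1 := fun h => by rw [h, orderOf_one] at hx; exact Nat.not_prime_one hx
  have hy1 : y ≠ 1 := fun h => by rw [h, orderOf_one] at hy; exact Nat.not_prime_one hy
  obtain ⟨Y, hY⟩ := pr_surjective y
  obtain ⟨v, hv0, hv, hvY⟩ := H Y
  have hall : ∀ u : Fin n → F, hermForm n F q u u = 0 → hermForm n F q u (act Y u) = 0 := by
    intro u hu
    by_cases hu0 : u = 0
    · rw [hu0, herm_zero_left]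
    obtain ⟨C, s, r, hs, -, hr, h1, h2⟩ := trans hF hn hx1 hc hpx hY hv0 hv hu0 hu
    exact herm_eq_zero_of_trans hs hr h1 h2 hvY
  obtain ⟨d, hd⟩ := scalar_of_fix_iso hF hn (fix_of_orth hF hall)
  apply hy1
  rw [← hY, pr_eq_one_iff]
  exact mem_center_of_act hd

end Cfsg.Agent.H931.CopPsu
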