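import Cfsg.Agent.H931.K1SU
import Cfsg.Agent.S0283
import Cfsg.Agent.TwoFusion.U34Sylow
import Cfsg.Agent.ClassicalGeometry.HermParabolic

/-!
# Automorphisms of `SU₃(4)` (helper931)
-/

set_option autoImplicit false

namespace Cfsg.Agent.H931.K1Aut

open Cfsg Matrix Cfsg.Agent.H931.K1F16 Cfsg.Agent.H931.K1SU Cfsg.Agent.SporRec.GF4
open Cfsg.Agent.ClassicalGeometry.PSUAutCount Cfsg.Agent.LieClassical.HermSiegel
open Cfsg.Agent.ClassicalGeometry.PSUAutBasic (pr pr_surjective pr_eq_one_iff)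

/-- the group -/
abbrev SU34 := SU 3 F16 4

theorem center_bot : Subgroup.center SU34 = ⊥ := Cfsg.Agent.TwoFusion.U34Sylow.center_eq_bot (F := F16) F16.card

theorem perfect : commutator SU34 = ⊤ :=
  LieClassical.HermPerfect.commutator_SU_eq_top (F := F16) (q := 4) (by rfl) (n := 3) (by norm_num) (by norm_num)

theorem pr_injective : Function.Injective (pr 3 F16 4) := by
  rw [injective_iff_map_eq_one]
  intro g hg
  have h := pr_eq_one_iff.1 hg
  rw [center_bot] at h
  exact h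

/-- `PSU₃(4) ≃* SU₃(4)` -/
noncomputable def equiv : SU34 ≃* PSU 3 F16 4 := MulEquiv.ofBijective (pr 3 F16 4) ⟨pr_injective, pr_surjective⟩

theorem simple : IsSimpleGroup SU34 := by
  have : IsSimpleGroup (PSU 3 F16 4) := Cfsg.Agent.S0283.result (by rfl) 3 le_rfl (by decide)
  exact equiv.isSimpleGroup

/-- the generator -/
def gt : F16 := ⟨F4.z, F4.o⟩

theorem pow_gt : ∀ x : F16, x = 0 ∨ ∃ k < 15, x = gt ^ k := by decide +kernel

theorem root_gt : ∀ x : F16, x * x * x * x + x + 1 = 0 → x = gt ∨ x = F16.fr gt ∨ x = F16.fr (F16.fr gt) ∨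
    x = F16.fr (F16.fr (F16.fr gt)) := by decide +kernel

theorem gt_root : gt * gt * gt * gt + gt + 1 = 0 := by decide +kernel

/-- the automorphisms of the field are powers of the Frobenius automorphism -/
theorem aut_field (ρ : F16 ≃+* F16) : ∃ i : ℕ, ρ = F16.fr ^ i := by
  have h1 : ρ gt * ρ gt * ρ gt * ρ gt + ρ gt + 1 = 0 := by
    rw [← map_mul, ← map_mul, ← map_mul, ← map_add, ← map_one ρ, ← map_add, gt_root, map_zero]
  have key : ∀ σ : F16 ≃+* F16, ρ gt = σ gt → ρ = σ := by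
    intro σ h
    ext x : 1
    rcases pow_gt x with rfl | ⟨k, _, rfl⟩
    · rw [map_zero, map_zero]
    · rw [map_pow, map_pow, h]
  rcases root_gt _ h1 with h | h | h | h
  · exact ⟨0, key _ (by rw [h]; rfl)⟩
  · exact ⟨1, key _ (by rw [h, pow_one])⟩
  · exact ⟨2, key _ (by rw [h]; rfl)⟩
  · exact ⟨3, key _ (by rw [h]; rfl)⟩

theorem act_frS_pow (i : ℕ) (g : SU34) (x : Fin 3 → F16) :
    act ((frS ^ i : MulAut SU34) g) (fun j => (F16.fr ^ i) (x j)) = fun j => (F16.fr ^ i) (act g x j) := by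
  induction i generalizing g x with
  | zero => rfl
  | succ i ih =>
    have h1 : (frS ^ (i + 1) : MulAut SU34) g = (frS ^ i : MulAut SU34) (frS g) := by
      rw [pow_succ]; rfl
    have h2 : ∀ y : F16, (F16.fr ^ (i + 1)) y = (F16.fr ^ i) (F16.fr y) := by
      intro y; rw [pow_succ]; rfl
    rw [h1]
    simp only [h2]
    rw [show (fun j => (F16.fr ^ i) (F16.fr (x j))) = fun j => (F16.fr ^ i) (fv x j) from rfl, ih (frS g) (fv x),
      act_frS]
    rfl

/-- the automorphisms of `SU₃(4)` -/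
theorem aut_su (α : MulAut SU34) : ∃ (C : SU34) (i : ℕ), ∀ g, α g = C * ((frS ^ i : MulAut SU34) g) * C⁻¹ := by
  -- transfer to `PSU`
  let α' : MulAut (PSU 3 F16 4) := (equiv.symm.trans α).trans equiv
  obtain ⟨A, ρ, hα⟩ := Cfsg.Agent.ClassicalGeometry.PSUAutMain.exists_toAut (F := F16) (q := 4) (by rfl) le_rfl (by decide) α'
  obtain ⟨i, rfl⟩ := aut_field ρ
  have h1 : ∀ g, α g = semiConj A (F16.fr ^ i) g := by
    intro g
    apply pr_injective
    have h2 : α' (pr 3 F16 4 g) = pr 3 F16 4 (α g) := by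
      show equiv (α (equiv.symm (equiv g))) = _
      rw [MulEquiv.symm_apply_apply]; rfl
    rw [← h2, hα]
    rfl
  -- scale
  set d := (gm A).det with hd
  have hd5 : d ^ 5 = 1 := by
    have h := congrArg Units.val (Cfsg.Agent.ClassicalGeometry.HermParabolic.det_GU_pow (F := F16) (q := 4) (by rfl) A)
    exact h
  set c := d ^ 3 with hc
  -- `c = (d²)⁻¹`
  have hc5 : c * c ^ 4 = 1 := by
    have : c * c ^ 4 = (d ^ 5) ^ 3 := by rw [hc]; ring
    rw [this, hd5, one_pow]
  have hdet : (c • gm A).det = 1 := by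
    rw [Matrix.det_smul, Fintype.card_fin, ← hd]
    have : c ^ 3 * d = (d ^ 5) ^ 2 := by rw [hc]; ring
    rw [this, hd5, one_pow]
  let C : SU34 := ⟨⟨c • gm A, hdet⟩, (LieClassical.SUBasic.mem_SU_iff _).2 (by
    intro u v
    show hermForm 3 F16 4 ((c • gm A) *ᵥ u) ((c • gm A) *ᵥ v) = _
    rw [Matrix.smul_mulVec, Matrix.smul_mulVec, LieClassical.HermBasic.herm_smul_left,
      LieClassical.HermBasic.herm_smul_right, herm_gm, ← mul_assoc, hc5, one_mul])⟩
  have hC : ∀ x, act C x = c • (gm A *ᵥ x) := fun x => Matrix.smul_mulVec _ _ _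
  refine ⟨C, i, fun g => ?_⟩
  rw [h1 g, eq_mul_inv_iff_mul_eq]
  apply ext_act
  intro x
  rw [act_mul, act_mul]
  have hx : x = fun j => (F16.fr ^ i) ((fun k => (F16.fr ^ i).symm (x k)) j) := by
    funext j
    exact ((F16.fr ^ i).apply_symm_apply (x j)).symm
  rw [hx]
  generalize (fun k => (F16.fr ^ i).symm (x k)) = y
  rw [hC, act_smul, act_semiConj, act_frS_pow, hC]

end Cfsg.Agent.H931.K1Aut
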