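import Cfsg.Agent.H931.K1Core
import Cfsg.Agent.S0397

/-!
# The overgroup: `Co₀` and the quaternions (helper931)
-/

set_option autoImplicit false
set_option maxRecDepth 20000

namespace Cfsg.Agent.H931.K1Big

open Cfsg Cfsg.Geo Matrix Cfsg.Agent.SporadicA.Co0Basic Cfsg.Agent.H931.K1Red Cfsg.Agent.H931.K1Quat
  Cfsg.Agent.H931.K1Lift

variable {F : Type*} [Field F]

/-- the basis of the quaternions -/
noncomputable def bv (F : Type*) [Field F] : Fin 4 → Matrix GolayPt GolayPt F :=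
  ![1, K1Red.Im F, K1Red.Jm F, K1Red.Im F * K1Red.Jm F]

/-- the quaternions -/
noncomputable def Qa (F : Type*) [Field F] : Submodule F (Matrix GolayPt GolayPt F) :=
  Submodule.span F (Set.range (bv F))

theorem bv_mem (i : Fin 4) : bv F i ∈ Qa F := Submodule.subset_span ⟨i, rfl⟩

theorem one_mem_Qa : (1 : Matrix GolayPt GolayPt F) ∈ Qa F := bv_mem 0
theorem I_mem_Qa : K1Red.Im F ∈ Qa F := bv_mem 1
theorem J_mem_Qa : K1Red.Jm F ∈ Qa F := bv_mem 2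
theorem IJ_mem_Qa : K1Red.Im F * K1Red.Jm F ∈ Qa F := bv_mem 3

theorem mul_I_mem (h2 : (2 : F) ≠ 0) {x : Matrix GolayPt GolayPt F} (hx : x ∈ Qa F) : x * K1Red.Im F ∈ Qa F := by
  have hQ := quat h2
  refine Submodule.span_induction (p := fun x _ => x * K1Red.Im F ∈ Qa F) ?_ ?_ ?_ ?_ hx
  · rintro _ ⟨i, rfl⟩
    fin_cases i
    · show 1 * K1Red.Im F ∈ Qa F
      rw [one_mul]; exact I_mem_Qa
    · show K1Red.Im F * K1Red.Im F ∈ Qa F
      rw [hQ.II]; exact Submodule.neg_mem _ one_mem_Qa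
    · show K1Red.Jm F * K1Red.Im F ∈ Qa F
      rw [hQ.JI]; exact Submodule.neg_mem _ IJ_mem_Qa
    · show K1Red.Im F * K1Red.Jm F * K1Red.Im F ∈ Qa F
      rw [mul_assoc, hQ.JI, mul_neg, ← mul_assoc, hQ.II, neg_one_mul, neg_neg]; exact J_mem_Qa
  · rw [zero_mul]; exact Submodule.zero_mem _
  · intro x y _ _ hx hy
    rw [add_mul]; exact Submodule.add_mem _ hx hy
  · intro c x _ hx
    rw [smul_mul_assoc]; exact Submodule.smul_mem _ _ hx

theorem mul_J_mem (h2 : (2 : F) ≠ 0) {x : Matrix GolayPt GolayPt F} (hx : x ∈ Qa F) : x * K1Red.Jm F ∈ Qa F := by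
  have hQ := quat h2
  refine Submodule.span_induction (p := fun x _ => x * K1Red.Jm F ∈ Qa F) ?_ ?_ ?_ ?_ hx
  · rintro _ ⟨i, rfl⟩
    fin_cases i
    · show 1 * K1Red.Jm F ∈ Qa F
      rw [one_mul]; exact J_mem_Qa
    · exact IJ_mem_Qa
    · show K1Red.Jm F * K1Red.Jm F ∈ Qa F
      rw [hQ.JJ]; exact Submodule.neg_mem _ one_mem_Qa
    · show K1Red.Im F * K1Red.Jm F * K1Red.Jm F ∈ Qa F
      rw [mul_assoc, hQ.JJ, mul_neg, mul_one]; exact Submodule.neg_mem _ I_mem_Qa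
  · rw [zero_mul]; exact Submodule.zero_mem _
  · intro x y _ _ hx hy
    rw [add_mul]; exact Submodule.add_mem _ hx hy
  · intro c x _ hx
    rw [smul_mul_assoc]; exact Submodule.smul_mem _ _ hx

theorem mul_mem_Qa (h2 : (2 : F) ≠ 0) {x y : Matrix GolayPt GolayPt F} (hx : x ∈ Qa F) (hy : y ∈ Qa F) :
    x * y ∈ Qa F := by
  refine Submodule.span_induction (p := fun y _ => x * y ∈ Qa F) ?_ ?_ ?_ ?_ hy
  · rintro _ ⟨i, rfl⟩
    fin_cases i
    · show x * 1 ∈ Qa F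
      rw [mul_one]; exact hx
    · exact mul_I_mem h2 hx
    · exact mul_J_mem h2 hx
    · show x * (K1Red.Im F * K1Red.Jm F) ∈ Qa F
      rw [← mul_assoc]; exact mul_J_mem h2 (mul_I_mem h2 hx)
  · rw [mul_zero]; exact Submodule.zero_mem _
  · intro y z _ _ hy hz
    rw [mul_add]; exact Submodule.add_mem _ hy hz
  · intro c y _ hy
    rw [mul_smul_comm]; exact Submodule.smul_mem _ _ hy

theorem comm_Qa {m : GL GolayPt F} (hm : m ∈ Z (K1Red.Im F) (K1Red.Jm F)) {x : Matrix GolayPt GolayPt F}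
    (hx : x ∈ Qa F) : (m : Matrix GolayPt GolayPt F) * x = x * m := by
  refine Submodule.span_induction (p := fun x _ => (m : Matrix GolayPt GolayPt F) * x = x * m) ?_ ?_ ?_ ?_ hx
  · rintro _ ⟨i, rfl⟩
    fin_cases i
    · show (m : Matrix GolayPt GolayPt F) * 1 = 1 * m
      rw [mul_one, one_mul]
    · exact hm.1
    · exact hm.2
    · show (m : Matrix GolayPt GolayPt F) * (K1Red.Im F * K1Red.Jm F) = K1Red.Im F * K1Red.Jm F * m
      rw [← mul_assoc, hm.1, mul_assoc, hm.2, ← mul_assoc]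
  · rw [mul_zero, zero_mul]
  · intro y z _ _ hy hz
    rw [mul_add, add_mul, hy, hz]
  · intro c y _ hy
    rw [mul_smul_comm, smul_mul_assoc, hy]

/-- the units of the quaternions -/
noncomputable def Qg (h2 : (2 : F) ≠ 0) : Subgroup (GL GolayPt F) where
  carrier := {q | (q : Matrix GolayPt GolayPt F) ∈ Qa F ∧ ((q⁻¹ : GL GolayPt F) : Matrix GolayPt GolayPt F) ∈ Qa F}
  one_mem' := ⟨by rw [Units.val_one]; exact one_mem_Qa, by rw [inv_one, Units.val_one]; exact one_mem_Qa⟩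
  mul_mem' := by
    rintro x y ⟨hx1, hx2⟩ ⟨hy1, hy2⟩
    exact ⟨by rw [Units.val_mul]; exact mul_mem_Qa h2 hx1 hy1,
      by rw [_root_.mul_inv_rev, Units.val_mul]; exact mul_mem_Qa h2 hy2 hx2⟩
  inv_mem' := by
    rintro x ⟨hx1, hx2⟩
    exact ⟨hx2, by rw [inv_inv]; exact hx1⟩

theorem comm_Qg (h2 : (2 : F) ≠ 0) {m q : GL GolayPt F} (hm : m ∈ Z (K1Red.Im F) (K1Red.Jm F)) (hq : q ∈ Qg h2) :
    m * q = q * m := Units.ext (comm_Qa hm hq.1)

/-- the overgroup -/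
noncomputable def MM (h2 : (2 : F) ≠ 0) : Subgroup (Z (K1Red.Im F) (K1Red.Jm F)) where
  carrier := {m | ∃ n : Co0, ∃ q ∈ Qg h2, (m : GL GolayPt F) = rho h2 n * q}
  one_mem' := ⟨1, 1, one_mem _, by rw [map_one, mul_one]; rfl⟩
  mul_mem' := by
    rintro m m' ⟨n, q, hq, h⟩ ⟨n', q', hq', h'⟩
    refine ⟨n * n', q' * q, mul_mem hq' hq, ?_⟩
    rw [Subgroup.coe_mul, map_mul]
    calc (m : GL GolayPt F) * m' = rho h2 n * (q * (m' : GL GolayPt F)) := by rw [h, mul_assoc]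
      _ = rho h2 n * ((m' : GL GolayPt F) * q) := by rw [comm_Qg h2 m'.2 hq]
      _ = rho h2 n * rho h2 n' * (q' * q) := by rw [h']; simp only [mul_assoc]
  inv_mem' := by
    rintro m ⟨n, q, hq, h⟩
    refine ⟨n⁻¹, q⁻¹, inv_mem hq, ?_⟩
    have h1 : rho h2 n = (m : GL GolayPt F) * q⁻¹ := by rw [h, mul_inv_cancel_right]
    rw [map_inv, h1, _root_.mul_inv_rev, inv_inv, Subgroup.coe_inv, ← comm_Qg h2 (inv_mem m.2) hq,
      mul_inv_cancel_right]

theorem card_Qa_le [Finite F] : Nat.card (Qa F) ≤ Nat.card F ^ 4 := by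
  have h1 : Nat.card (Fin 4 → F) = Nat.card F ^ 4 := by rw [Nat.card_fun, Nat.card_fin]
  rw [← h1]
  let g : (Fin 4 → F) → Qa F := fun c => ⟨∑ i, c i • bv F i, Submodule.sum_mem _ fun i _ =>
    Submodule.smul_mem _ _ (bv_mem i)⟩
  refine Nat.card_le_card_of_surjective g ?_
  rintro ⟨x, hx⟩
  obtain ⟨c, hc⟩ := (Submodule.mem_span_range_iff_exists_fun F).1 hx
  exact ⟨c, Subtype.ext hc⟩

theorem card_MM_le [Finite F] (h2 : (2 : F) ≠ 0) : Nat.card (MM h2) ≤ 8315553613086720000 * Nat.card F ^ 4 := by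
  have hfin : Finite Co0 := by
    apply Nat.finite_of_card_ne_zero
    rw [Cfsg.Agent.S0397.result]
    norm_num
  have hfQ : Finite (Qa F) := inferInstance
  have h1 : ∀ m : MM h2, ∃ p : Co0 × Qa F, ((m.1 : GL GolayPt F) : Matrix GolayPt GolayPt F) = rmat F p.1 * p.2 := by
    rintro ⟨m, n, q, hq, h⟩
    exact ⟨⟨n, ⟨_, hq.1⟩⟩, by
      show ((m : GL GolayPt F) : Matrix GolayPt GolayPt F) = _
      rw [h, Units.val_mul]; rfl⟩
  choose p hp using h1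
  have hinj : Function.Injective p := by
    intro m m' h
    apply Subtype.ext
    apply Subtype.ext
    apply Units.ext
    rw [hp, hp, h]
  have h3 := Nat.card_le_card_of_injective p hinj
  rw [Nat.card_prod, Cfsg.Agent.S0397.result] at h3
  exact h3.trans (Nat.mul_le_mul_left _ card_Qa_le)

theorem rZ_mem (h2 : (2 : F) ≠ 0) (x : Cq) : rZ h2 x ∈ MM h2 := ⟨x.1, 1, one_mem _, by rw [mul_one]; rfl⟩

theorem u0_mem (h2 : (2 : F) ≠ 0) : u0 h2 ∈ Qg h2 := by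
  have h : K1Red.Jm F - K1Red.Im F * K1Red.Jm F ∈ Qa F := Submodule.sub_mem _ J_mem_Qa IJ_mem_Qa
  exact ⟨h, Submodule.smul_mem _ _ h⟩

theorem n0_mem_MM (h2 : (2 : F) ≠ 0) : (⟨n0 h2, n0_mem h2⟩ : Z (K1Red.Im F) (K1Red.Jm F)) ∈ MM h2 :=
  ⟨K1Co.e 6, u0 h2, u0_mem h2, rfl⟩

/-- the scalars -/
def sc (c : Fˣ) : GL GolayPt F := Units.map (Matrix.scalar GolayPt : F →+* Matrix GolayPt GolayPt F).toMonoidHom c

theorem sc_val (c : Fˣ) : (sc c : Matrix GolayPt GolayPt F) = (c : F) • 1 := by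
  rw [Matrix.smul_one_eq_diagonal]; rfl

theorem sc_inv_val (c : Fˣ) : (((sc c)⁻¹ : GL GolayPt F) : Matrix GolayPt GolayPt F) = ((c⁻¹ : Fˣ) : F) • 1 := by
  have : (sc c)⁻¹ = sc c⁻¹ := (map_inv _ _).symm
  rw [this, sc_val]

theorem sc_mem_Z (c : Fˣ) : sc c ∈ Z (K1Red.Im F) (K1Red.Jm F) := by
  constructor <;> rw [sc_val, smul_mul_assoc, one_mul, mul_smul_comm, mul_one]

theorem sc_mem_MM (h2 : (2 : F) ≠ 0) (c : Fˣ) : (⟨sc c, sc_mem_Z c⟩ : Z (K1Red.Im F) (K1Red.Jm F)) ∈ MM h2 :=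
  ⟨1, sc c, ⟨by rw [sc_val]; exact Submodule.smul_mem _ _ one_mem_Qa,
    by rw [sc_inv_val]; exact Submodule.smul_mem _ _ one_mem_Qa⟩, by rw [map_one, one_mul]⟩

section rep

variable {ι : Type} [Fintype ι] [DecidableEq ι]

/-- the overgroup in dimension twelve -/
noncomputable def MW (D : Dt F ι) : Subgroup (GL ι F) := (MM D.h2).map (rW D.hTR D.hRT)

theorem card_MW_le [Finite F] (D : Dt F ι) : Nat.card (MW D) ≤ 8315553613086720000 * Nat.card F ^ 4 := by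
  refine le_trans ?_ (card_MM_le D.h2)
  have hf : Finite (MM D.h2) := inferInstance
  exact Nat.card_le_card_of_surjective _ ((rW D.hTR D.hRT).subgroupMap_surjective (MM D.h2))

theorem rr_mem (D : Dt F ι) (x : Cq) : rr D x ∈ MW D := ⟨rZ D.h2 x, rZ_mem D.h2 x, rfl⟩

/-- the outer element in dimension twelve -/
noncomputable def Nn (D : Dt F ι) : GL ι F := rW D.hTR D.hRT ⟨n0 D.h2, n0_mem D.h2⟩

theorem Nn_mem (D : Dt F ι) : Nn D ∈ MW D := ⟨_, n0_mem_MM D.h2, rfl⟩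

theorem scalar_mem (D : Dt F ι) {s : GL ι F} (hs : s ∈ scalars ι F) : s ∈ MW D := by
  obtain ⟨c, hc⟩ := (mem_scalars_iff _).1 hs
  refine ⟨⟨sc c, sc_mem_Z c⟩, sc_mem_MM D.h2 c, ?_⟩
  apply Units.ext
  rw [rW_val, hc]
  show D.R * (sc c : Matrix GolayPt GolayPt F) * D.T = _
  rw [sc_val, Matrix.mul_smul, Matrix.mul_one, Matrix.smul_mul, D.hRT]

/-! ### The outer automorphism -/

theorem e6_Dd {x : Co0} (hx : x ∈ Dd) : K1Co.e 6 * x * (K1Co.e 6)⁻¹ ∈ Dd := by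
  have h : Dd ≤ Dd.comap (MulAut.conj (K1Co.e 6)).toMonoidHom := by
    conv_lhs => unfold Dd
    rw [Subgroup.commutator_le]
    intro a ha b hb
    show MulAut.conj (K1Co.e 6) _ ∈ Dd
    rw [commutatorElement_def, map_mul, map_mul, map_mul, map_inv, map_inv]
    exact Subgroup.commutator_mem_commutator (K1Norm.e6_St ha) (K1Norm.e6_St hb)
  exact h hx

theorem Nn_conj (D : Dt F ι) (x : Cq) (y : Cq) (hy : y.1 = K1Co.e 6 * x.1 * (K1Co.e 6)⁻¹) :
    Nn D * rr D x * (Nn D)⁻¹ = rr D y := by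
  unfold Nn rr
  rw [MonoidHom.comp_apply, MonoidHom.comp_apply, ← map_inv, ← map_mul, ← map_mul]
  congr 1
  apply Subtype.ext
  show n0 D.h2 * rho D.h2 x.1 * (n0 D.h2)⁻¹ = rho D.h2 y.1
  have hx : rho D.h2 x.1 ∈ Z (K1Red.Im F) (K1Red.Jm F) := rho_mem D.h2 x.2
  rw [hy, map_mul, map_mul, map_inv]
  unfold n0
  rw [_root_.mul_inv_rev, mul_assoc (rho D.h2 (K1Co.e 6)), ← u0_comm D.h2 hx]
  group

end rep

end Cfsg.Agent.H931.K1Big
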