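import Cfsg.Agent.StdG24.CoSide
import Cfsg.Agent.StdG24.Ord6

/-!
# `2.G₂(4)` in `Co₀` (helper931)

Six elements `e 0, …, e 5` of `Co₀` which satisfy the relators `R6` of `G₂(4)` up to sign, commute with
`I = e 8`, `J = e 9` (`I² = J² = -1`, `I J = - J I`), and an element `e 6` with inverse `e 7` which induces an
outer automorphism of `⟨e 0, …, e 5⟩` and maps `I` to `-I`, `J` to `-I J`.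
-/

set_option autoImplicit false
set_option Elab.async false

namespace Cfsg.Agent.H931.K1Co

open Cfsg Cfsg.Agent.SporadicA Cfsg.Agent.SporadicStructure.Co0Matrix Cfsg.Agent.CoOneType.CoEval
  Cfsg.Agent.CoOneType Cfsg.Agent.SporRec

/-- Rows of `c0` (times 8). -/
def c0R : List (List ℤ) :=
  [[2,2,2,0,0,2,0,2,2,0,2,2,-2,-2,2,0,2,0,-2,-2,2,0,0,2],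
  [2,2,2,0,0,-2,0,-2,-2,0,2,2,2,-2,2,0,-2,0,2,-2,-2,0,0,-2],
  [2,2,2,0,0,2,0,2,-2,0,-2,2,2,2,-2,0,2,0,2,2,2,0,0,-2],
  [0,0,0,6,2,0,2,0,0,2,0,0,0,0,0,2,0,-2,0,0,0,-2,-2,0],
  [0,0,0,2,-2,0,-2,0,0,-2,0,0,0,0,0,6,0,2,0,0,0,2,2,0],
  [2,-2,2,0,0,2,0,-2,-2,0,2,-2,-2,2,2,0,-2,0,-2,2,2,0,0,-2],
  [0,0,0,2,-2,0,6,0,0,-2,0,0,0,0,0,-2,0,2,0,0,0,2,2,0],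
  [2,-2,2,0,0,-2,0,2,-2,0,-2,-2,-2,-2,-2,0,2,0,-2,-2,-2,0,0,-2],
  [2,-2,-2,0,0,-2,0,-2,2,0,-2,2,-2,2,2,0,2,0,2,-2,2,0,0,-2],
  [0,0,0,2,-2,0,-2,0,0,6,0,0,0,0,0,-2,0,2,0,0,0,2,2,0],
  [2,2,-2,0,0,2,0,-2,-2,0,2,-2,-2,2,-2,0,2,0,2,-2,-2,0,0,2],
  [2,2,2,0,0,-2,0,-2,2,0,-2,2,-2,2,-2,0,-2,0,-2,2,-2,0,0,2],
  [-2,2,2,0,0,-2,0,-2,-2,0,-2,-2,2,2,2,0,2,0,-2,-2,2,0,0,2],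
  [-2,-2,2,0,0,2,0,-2,2,0,2,2,2,2,-2,0,2,0,-2,-2,-2,0,0,-2],
  [2,2,-2,0,0,2,0,-2,2,0,-2,-2,2,-2,2,0,2,0,-2,2,-2,0,0,-2],
  [0,0,0,2,6,0,-2,0,0,-2,0,0,0,0,0,-2,0,2,0,0,0,2,2,0],
  [2,-2,2,0,0,-2,0,2,2,0,2,-2,2,2,2,0,2,0,2,2,-2,0,0,2],
  [0,0,0,-2,2,0,2,0,0,2,0,0,0,0,0,2,0,6,0,0,0,-2,-2,0],
  [-2,2,2,0,0,-2,0,-2,2,0,2,-2,-2,-2,-2,0,2,0,2,2,2,0,0,-2],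
  [-2,-2,2,0,0,2,0,-2,-2,0,-2,2,-2,-2,2,0,2,0,2,2,-2,0,0,2],
  [2,-2,2,0,0,2,0,-2,2,0,-2,-2,2,-2,-2,0,-2,0,2,-2,2,0,0,2],
  [0,0,0,-2,2,0,2,0,0,2,0,0,0,0,0,2,0,-2,0,0,0,6,-2,0],
  [0,0,0,-2,2,0,2,0,0,2,0,0,0,0,0,2,0,-2,0,0,0,-2,6,0],
  [2,-2,-2,0,0,-2,0,-2,-2,0,2,2,2,-2,-2,0,2,0,-2,2,2,0,0,2]]

/-- Columns of `c0` (times 8). -/
def c0C : List (List ℤ) := c0R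

theorem ok_c0 : Ok c0R c0C := CoFast.ok_of_okZ (by decide +kernel)

/-- Rows of `c1` (times 8). -/
def c1R : List (List ℤ) :=
  [[0,0,0,0,0,-2,2,0,-2,2,0,2,0,-2,-2,2,-2,2,-2,-2,-2,-2,2,-2],
  [0,0,0,0,0,2,2,0,-2,-2,0,2,0,2,-2,2,2,2,2,2,-2,-2,-2,2],
  [0,0,0,0,0,-2,-2,0,2,2,0,2,0,2,2,2,2,2,-2,-2,2,-2,-2,2],
  [0,0,0,0,0,2,2,0,2,2,0,-2,0,2,2,2,-2,2,-2,2,-2,2,-2,-2],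
  [0,0,0,0,0,-2,2,0,-2,2,0,-2,0,2,-2,-2,2,-2,-2,-2,-2,2,-2,2],
  [-2,2,-2,2,-2,-4,0,2,0,0,2,0,-2,0,0,0,0,0,0,4,0,0,0,0],
  [2,2,-2,2,2,0,-4,-2,0,0,2,0,2,0,0,0,0,0,0,0,-4,0,0,0],
  [0,0,0,0,0,2,-2,0,-2,2,0,2,0,2,-2,-2,-2,-2,-2,2,2,-2,-2,-2],
  [-2,-2,2,2,-2,0,0,-2,-4,0,2,0,2,0,4,0,0,0,0,0,0,0,0,0],
  [2,-2,2,2,2,0,0,2,0,-4,2,0,-2,0,0,0,0,0,-4,0,0,0,0,0],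
  [0,0,0,0,0,2,2,0,2,2,0,2,0,-2,2,-2,2,-2,-2,2,-2,-2,2,2],
  [2,2,2,-2,-2,0,0,2,0,0,2,-4,2,0,0,0,0,0,0,0,0,-4,0,0],
  [0,0,0,0,0,-2,2,0,2,-2,0,2,0,2,2,-2,-2,-2,2,-2,-2,-2,-2,-2],
  [-2,2,2,2,2,0,0,2,0,0,-2,0,2,-4,0,0,0,0,0,0,0,0,-4,0],
  [-2,-2,2,2,-2,0,0,-2,4,0,2,0,2,0,-4,0,0,0,0,0,0,0,0,0],
  [2,2,2,2,-2,0,0,-2,0,0,-2,0,-2,0,0,-4,0,4,0,0,0,0,0,0],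
  [-2,2,2,-2,2,0,0,-2,0,0,2,0,-2,0,0,0,-4,0,0,0,0,0,0,4],
  [2,2,2,2,-2,0,0,-2,0,0,-2,0,-2,0,0,4,0,-4,0,0,0,0,0,0],
  [-2,2,-2,-2,-2,0,0,-2,0,-4,-2,0,2,0,0,0,0,0,-4,0,0,0,0,0],
  [-2,2,-2,2,-2,4,0,2,0,0,2,0,-2,0,0,0,0,0,0,-4,0,0,0,0],
  [-2,-2,2,-2,-2,0,-4,2,0,0,-2,0,-2,0,0,0,0,0,0,0,-4,0,0,0],
  [-2,-2,-2,2,2,0,0,-2,0,0,-2,-4,-2,0,0,0,0,0,0,0,0,-4,0,0],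
  [2,-2,-2,-2,-2,0,0,-2,0,0,2,0,-2,-4,0,0,0,0,0,0,0,0,-4,0],
  [-2,2,2,-2,2,0,0,-2,0,0,2,0,-2,0,0,0,4,0,0,0,0,0,0,-4]]

/-- Columns of `c1` (times 8). -/
def c1C : List (List ℤ) := c1R

theorem ok_c1 : Ok c1R c1C := CoFast.ok_of_okZ (by decide +kernel)

/-- Rows of `c2` (times 8). -/
def c2R : List (List ℤ) :=
  [[-2,2,2,0,0,0,2,2,2,-2,2,0,-2,-2,0,0,2,-2,2,-2,2,0,2,0],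
  [2,-2,2,0,0,0,-2,-2,-2,-2,2,0,2,-2,0,0,-2,-2,2,-2,2,0,-2,0],
  [2,2,-2,0,0,0,-2,2,-2,2,-2,0,2,-2,0,0,2,-2,2,2,2,0,2,0],
  [0,0,0,2,2,-2,0,0,0,0,0,2,0,0,-2,2,0,0,0,0,0,-6,0,2],
  [0,0,0,2,-6,-2,0,0,0,0,0,2,0,0,-2,2,0,0,0,0,0,2,0,2],
  [0,0,0,-2,-2,-6,0,0,0,0,0,-2,0,0,2,-2,0,0,0,0,0,-2,0,-2],
  [2,-2,-2,0,0,0,-2,2,2,-2,-2,0,-2,-2,0,0,-2,2,-2,-2,2,0,2,0],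
  [2,-2,2,0,0,0,2,-2,-2,-2,-2,0,-2,-2,0,0,2,-2,-2,2,-2,0,2,0],
  [2,-2,-2,0,0,0,2,-2,-2,2,2,0,-2,2,0,0,2,2,2,-2,2,0,2,0],
  [-2,-2,2,0,0,0,-2,-2,2,-2,-2,0,2,2,0,0,2,2,2,2,2,0,2,0],
  [2,2,-2,0,0,0,-2,-2,2,-2,-2,0,-2,2,0,0,2,-2,2,-2,-2,0,-2,0],
  [0,0,0,2,2,-2,0,0,0,0,0,-6,0,0,-2,2,0,0,0,0,0,2,0,2],
  [-2,2,2,0,0,0,-2,-2,-2,2,-2,0,-2,2,0,0,-2,-2,-2,-2,2,0,2,0],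
  [-2,-2,-2,0,0,0,-2,-2,2,2,2,0,2,-2,0,0,2,-2,-2,-2,-2,0,2,0],
  [0,0,0,-2,-2,2,0,0,0,0,0,-2,0,0,-6,-2,0,0,0,0,0,-2,0,-2],
  [0,0,0,2,2,-2,0,0,0,0,0,2,0,0,-2,-6,0,0,0,0,0,2,0,2],
  [2,-2,2,0,0,0,-2,2,2,2,2,0,-2,2,0,0,-2,-2,2,2,-2,0,2,0],
  [-2,-2,-2,0,0,0,2,-2,2,2,-2,0,-2,-2,0,0,-2,-2,2,2,2,0,-2,0],
  [2,2,2,0,0,0,-2,-2,2,2,2,0,-2,-2,0,0,2,2,-2,2,2,0,-2,0],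
  [-2,-2,2,0,0,0,-2,2,-2,2,-2,0,-2,-2,0,0,2,2,2,-2,-2,0,-2,0],
  [2,2,2,0,0,0,2,-2,2,2,-2,0,2,-2,0,0,-2,2,2,-2,-2,0,2,0],
  [0,0,0,-6,2,-2,0,0,0,0,0,2,0,0,-2,2,0,0,0,0,0,2,0,2],
  [2,-2,2,0,0,0,2,2,2,2,-2,0,2,2,0,0,2,-2,-2,-2,2,0,-2,0],
  [0,0,0,2,2,-2,0,0,0,0,0,2,0,0,-2,2,0,0,0,0,0,2,0,-6]]

/-- Columns of `c2` (times 8). -/
def c2C : List (List ℤ) := c2R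

theorem ok_c2 : Ok c2R c2C := CoFast.ok_of_okZ (by decide +kernel)

/-- Rows of `c3` (times 8). -/
def c3R : List (List ℤ) :=
  [[0,2,-2,-2,2,2,-2,2,0,0,-2,0,0,2,-2,-2,-2,0,-2,-2,2,0,0,-2],
  [-2,0,4,0,0,0,0,0,-2,2,0,2,-2,0,0,0,0,2,-4,0,0,2,-2,0],
  [2,-4,0,0,0,0,0,0,2,2,0,-2,2,0,0,0,0,2,0,0,0,2,-2,-4],
  [2,0,0,0,0,4,0,0,-2,2,0,-2,-2,-4,0,0,0,-2,0,0,0,2,2,0],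
  [-2,0,0,0,0,0,0,4,2,2,4,2,2,0,0,0,0,-2,0,0,0,2,2,0],
  [-2,0,0,-4,0,0,0,0,2,2,0,-2,-2,0,0,4,0,2,0,0,0,-2,2,0],
  [2,0,0,0,0,0,0,4,-2,-2,4,-2,-2,0,0,0,0,2,0,0,0,-2,-2,0],
  [-2,0,0,0,-4,0,-4,0,2,-2,0,-2,-2,0,0,0,0,-2,0,0,0,2,-2,0],
  [0,2,-2,2,-2,-2,2,-2,0,0,2,0,0,-2,-2,2,-2,0,-2,-2,2,0,0,-2],
  [0,-2,-2,-2,-2,-2,2,2,0,0,-2,0,0,-2,2,-2,-2,0,-2,2,2,0,0,2],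
  [2,0,0,0,-4,0,-4,0,-2,2,0,2,2,0,0,0,0,2,0,0,0,-2,2,0],
  [0,-2,2,2,-2,2,2,2,0,0,-2,0,0,2,-2,2,-2,0,2,-2,2,0,0,2],
  [0,2,-2,2,-2,2,2,2,0,0,-2,0,0,2,2,2,2,0,-2,2,-2,0,0,-2],
  [-2,0,0,4,0,0,0,0,2,2,0,-2,-2,0,0,-4,0,2,0,0,0,-2,2,0],
  [2,0,0,0,0,0,0,0,2,-2,0,2,-2,0,0,0,-4,2,0,0,-4,2,2,0],
  [2,0,0,0,0,-4,0,0,-2,2,0,-2,-2,4,0,0,0,-2,0,0,0,2,2,0],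
  [2,0,0,0,0,0,0,0,2,2,0,2,-2,0,4,0,0,-2,0,-4,0,-2,-2,0],
  [0,-2,-2,2,2,-2,-2,2,0,0,-2,0,0,-2,-2,2,2,0,-2,-2,-2,0,0,2],
  [2,4,0,0,0,0,0,0,2,2,0,-2,2,0,0,0,0,2,0,0,0,2,-2,4],
  [2,0,0,0,0,0,0,0,2,-2,0,2,-2,0,0,0,4,2,0,0,4,2,2,0],
  [-2,0,0,0,0,0,0,0,-2,-2,0,-2,2,0,4,0,0,2,0,-4,0,2,2,0],
  [0,-2,-2,-2,-2,2,2,-2,0,0,2,0,0,2,-2,-2,2,0,-2,-2,-2,0,0,2],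
  [0,2,2,-2,-2,-2,2,2,0,0,-2,0,0,-2,-2,-2,2,0,2,-2,-2,0,0,-2],
  [2,0,4,0,0,0,0,0,2,-2,0,-2,2,0,0,0,0,-2,-4,0,0,-2,2,0]]

/-- Columns of `c3` (times 8). -/
def c3C : List (List ℤ) :=
  [[0,-2,2,2,-2,-2,2,-2,0,0,2,0,0,-2,2,2,2,0,2,2,-2,0,0,2],
  [2,0,-4,0,0,0,0,0,2,-2,0,-2,2,0,0,0,0,-2,4,0,0,-2,2,0],
  [-2,4,0,0,0,0,0,0,-2,-2,0,2,-2,0,0,0,0,-2,0,0,0,-2,2,4],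
  [-2,0,0,0,0,-4,0,0,2,-2,0,2,2,4,0,0,0,2,0,0,0,-2,-2,0],
  [2,0,0,0,0,0,0,-4,-2,-2,-4,-2,-2,0,0,0,0,2,0,0,0,-2,-2,0],
  [2,0,0,4,0,0,0,0,-2,-2,0,2,2,0,0,-4,0,-2,0,0,0,2,-2,0],
  [-2,0,0,0,0,0,0,-4,2,2,-4,2,2,0,0,0,0,-2,0,0,0,2,2,0],
  [2,0,0,0,4,0,4,0,-2,2,0,2,2,0,0,0,0,2,0,0,0,-2,2,0],
  [0,-2,2,-2,2,2,-2,2,0,0,-2,0,0,2,2,-2,2,0,2,2,-2,0,0,2],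
  [0,2,2,2,2,2,-2,-2,0,0,2,0,0,2,-2,2,2,0,2,-2,-2,0,0,-2],
  [-2,0,0,0,4,0,4,0,2,-2,0,-2,-2,0,0,0,0,-2,0,0,0,2,-2,0],
  [0,2,-2,-2,2,-2,-2,-2,0,0,2,0,0,-2,2,-2,2,0,-2,2,-2,0,0,-2],
  [0,-2,2,-2,2,-2,-2,-2,0,0,2,0,0,-2,-2,-2,-2,0,2,-2,2,0,0,2],
  [2,0,0,-4,0,0,0,0,-2,-2,0,2,2,0,0,4,0,-2,0,0,0,2,-2,0],
  [-2,0,0,0,0,0,0,0,-2,2,0,-2,2,0,0,0,4,-2,0,0,4,-2,-2,0],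
  [-2,0,0,0,0,4,0,0,2,-2,0,2,2,-4,0,0,0,2,0,0,0,-2,-2,0],
  [-2,0,0,0,0,0,0,0,-2,-2,0,-2,2,0,-4,0,0,2,0,4,0,2,2,0],
  [0,2,2,-2,-2,2,2,-2,0,0,2,0,0,2,2,-2,-2,0,2,2,2,0,0,-2],
  [-2,-4,0,0,0,0,0,0,-2,-2,0,2,-2,0,0,0,0,-2,0,0,0,-2,2,-4],
  [-2,0,0,0,0,0,0,0,-2,2,0,-2,2,0,0,0,-4,-2,0,0,-4,-2,-2,0],
  [2,0,0,0,0,0,0,0,2,2,0,2,-2,0,-4,0,0,-2,0,4,0,-2,-2,0],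
  [0,2,2,2,2,-2,-2,2,0,0,-2,0,0,-2,2,2,-2,0,2,2,2,0,0,-2],
  [0,-2,-2,2,2,2,-2,-2,0,0,2,0,0,2,2,2,-2,0,-2,2,2,0,0,2],
  [-2,0,-4,0,0,0,0,0,-2,2,0,2,-2,0,0,0,0,2,4,0,0,2,-2,0]]

theorem ok_c3 : Ok c3R c3C := CoFast.ok_of_okZ (by decide +kernel)

/-- Rows of `c4` (times 8). -/
def c4R : List (List ℤ) :=
  [[0,2,-2,-4,0,2,-2,2,0,0,0,0,2,-2,0,0,-2,0,0,2,2,0,2,-2],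
  [-2,0,4,-2,2,0,0,0,-2,2,-2,2,0,0,-2,-2,0,-2,-2,0,0,-2,0,0],
  [2,-4,0,-2,-2,0,0,0,-2,2,-2,-2,0,0,-2,2,0,2,-2,0,0,2,0,0],
  [4,2,2,0,0,2,2,2,0,0,0,0,-2,-2,0,0,2,0,0,2,-2,0,2,2],
  [0,-2,2,0,0,-2,2,2,0,0,4,0,2,-2,0,0,-2,0,0,-2,-2,0,2,-2],
  [-2,0,0,-2,2,0,0,0,-2,2,2,-2,0,0,2,2,0,2,2,0,0,-2,0,4],
  [2,0,0,-2,-2,0,0,0,-2,-2,2,2,0,0,2,-2,0,2,-2,0,0,-2,-4,0],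
  [-2,0,0,-2,-2,0,0,0,2,2,2,-2,-4,0,2,-2,0,-2,-2,0,0,2,0,0],
  [0,2,2,0,0,2,2,-2,0,0,0,0,-2,-2,0,4,-2,0,0,-2,2,0,-2,-2],
  [0,-2,-2,0,0,-2,2,-2,0,0,0,4,-2,-2,0,0,-2,0,0,2,2,0,2,2],
  [0,2,2,0,-4,-2,-2,-2,0,0,0,0,2,-2,0,0,2,0,0,-2,2,0,2,2],
  [0,-2,2,0,0,2,-2,2,0,-4,0,0,-2,2,0,0,-2,0,0,-2,2,0,2,2],
  [-2,0,0,2,-2,0,0,4,2,2,-2,2,0,0,2,2,0,2,-2,0,0,-2,0,0],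
  [2,0,0,2,2,0,0,0,2,2,2,-2,0,0,-2,-2,0,2,-2,0,4,-2,0,0],
  [0,2,2,0,0,-2,-2,-2,0,0,0,0,-2,2,0,0,-2,4,0,2,-2,0,2,-2],
  [0,2,-2,0,0,-2,2,2,-4,0,0,0,-2,2,0,0,2,0,0,-2,2,0,2,-2],
  [2,0,0,-2,2,0,0,0,2,2,-2,2,0,0,2,-2,0,2,2,-4,0,2,0,0],
  [0,2,-2,0,0,-2,-2,2,0,0,0,0,-2,-2,-4,0,-2,0,0,-2,-2,0,-2,2],
  [0,2,2,0,0,-2,2,2,0,0,0,0,2,2,0,0,-2,0,0,2,2,4,-2,2],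
  [-2,0,0,-2,2,0,0,0,2,-2,2,2,0,0,-2,2,4,2,-2,0,0,2,0,0],
  [-2,0,0,2,2,0,0,0,-2,-2,-2,-2,0,-4,2,-2,0,2,-2,0,0,2,0,0],
  [0,2,-2,0,0,2,2,-2,0,0,0,0,2,2,0,0,-2,0,-4,-2,-2,0,2,2],
  [-2,0,0,-2,-2,0,4,0,2,-2,-2,-2,0,0,-2,-2,0,2,2,0,0,-2,0,0],
  [2,0,0,-2,2,-4,0,0,2,-2,-2,-2,0,0,2,2,0,-2,-2,0,0,-2,0,0]]

/-- Columns of `c4` (times 8). -/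
def c4C : List (List ℤ) :=
  [[0,-2,2,4,0,-2,2,-2,0,0,0,0,-2,2,0,0,2,0,0,-2,-2,0,-2,2],
  [2,0,-4,2,-2,0,0,0,2,-2,2,-2,0,0,2,2,0,2,2,0,0,2,0,0],
  [-2,4,0,2,2,0,0,0,2,-2,2,2,0,0,2,-2,0,-2,2,0,0,-2,0,0],
  [-4,-2,-2,0,0,-2,-2,-2,0,0,0,0,2,2,0,0,-2,0,0,-2,2,0,-2,-2],
  [0,2,-2,0,0,2,-2,-2,0,0,-4,0,-2,2,0,0,2,0,0,2,2,0,-2,2],
  [2,0,0,2,-2,0,0,0,2,-2,-2,2,0,0,-2,-2,0,-2,-2,0,0,2,0,-4],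
  [-2,0,0,2,2,0,0,0,2,2,-2,-2,0,0,-2,2,0,-2,2,0,0,2,4,0],
  [2,0,0,2,2,0,0,0,-2,-2,-2,2,4,0,-2,2,0,2,2,0,0,-2,0,0],
  [0,-2,-2,0,0,-2,-2,2,0,0,0,0,2,2,0,-4,2,0,0,2,-2,0,2,2],
  [0,2,2,0,0,2,-2,2,0,0,0,-4,2,2,0,0,2,0,0,-2,-2,0,-2,-2],
  [0,-2,-2,0,4,2,2,2,0,0,0,0,-2,2,0,0,-2,0,0,2,-2,0,-2,-2],
  [0,2,-2,0,0,-2,2,-2,0,4,0,0,2,-2,0,0,2,0,0,2,-2,0,-2,-2],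
  [2,0,0,-2,2,0,0,-4,-2,-2,2,-2,0,0,-2,-2,0,-2,2,0,0,2,0,0],
  [-2,0,0,-2,-2,0,0,0,-2,-2,-2,2,0,0,2,2,0,-2,2,0,-4,2,0,0],
  [0,-2,-2,0,0,2,2,2,0,0,0,0,2,-2,0,0,2,-4,0,-2,2,0,-2,2],
  [0,-2,2,0,0,2,-2,-2,4,0,0,0,2,-2,0,0,-2,0,0,2,-2,0,-2,2],
  [-2,0,0,2,-2,0,0,0,-2,-2,2,-2,0,0,-2,2,0,-2,-2,4,0,-2,0,0],
  [0,-2,2,0,0,2,2,-2,0,0,0,0,2,2,4,0,2,0,0,2,2,0,2,-2],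
  [0,-2,-2,0,0,2,-2,-2,0,0,0,0,-2,-2,0,0,2,0,0,-2,-2,-4,2,-2],
  [2,0,0,2,-2,0,0,0,-2,2,-2,-2,0,0,2,-2,-4,-2,2,0,0,-2,0,0],
  [2,0,0,-2,-2,0,0,0,2,2,2,2,0,4,-2,2,0,-2,2,0,0,-2,0,0],
  [0,-2,2,0,0,-2,-2,2,0,0,0,0,-2,-2,0,0,2,0,4,2,2,0,-2,-2],
  [2,0,0,2,2,0,-4,0,-2,2,2,2,0,0,2,2,0,-2,-2,0,0,2,0,0],
  [-2,0,0,2,-2,4,0,0,-2,2,2,2,0,0,-2,-2,0,2,2,0,0,2,0,0]]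

theorem ok_c4 : Ok c4R c4C := CoFast.ok_of_okZ (by decide +kernel)

/-- Rows of `c5` (times 8). -/
def c5R : List (List ℤ) :=
  [[-4,0,0,0,0,0,2,0,2,-2,0,0,0,-2,0,0,0,2,0,-2,4,-2,0,2],
  [0,-4,0,0,0,0,2,0,-2,-2,0,0,0,-2,0,0,-4,-2,0,-2,0,2,0,-2],
  [0,0,-4,0,0,4,2,0,-2,-2,0,0,0,2,0,0,0,2,0,2,0,-2,0,-2],
  [0,0,0,-4,0,0,2,0,2,2,0,0,0,2,0,0,0,-2,0,-2,0,-2,4,-2],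
  [0,0,0,0,-4,0,-2,0,2,-2,0,0,0,2,0,4,0,2,0,-2,0,2,0,-2],
  [0,0,4,0,0,-4,2,0,-2,-2,0,0,0,2,0,0,0,2,0,2,0,-2,0,-2],
  [2,2,2,2,-2,2,0,-2,0,0,2,2,-2,0,-2,-2,-2,0,2,0,2,0,2,0],
  [0,0,0,0,0,0,-2,-4,-2,2,0,-4,0,-2,0,0,0,2,0,-2,0,-2,0,-2],
  [2,-2,-2,2,2,-2,0,-2,0,0,-2,2,-2,0,2,2,2,0,2,0,2,0,2,0],
  [-2,-2,-2,2,-2,-2,0,2,0,0,2,-2,-2,0,-2,-2,2,0,2,0,-2,0,2,0],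
  [0,0,0,0,0,0,2,0,-2,2,-4,0,0,2,-4,0,0,2,0,-2,0,2,0,2],
  [0,0,0,0,0,0,2,-4,2,-2,0,-4,0,2,0,0,0,-2,0,2,0,2,0,2],
  [0,0,0,0,0,0,-2,0,-2,-2,0,0,-4,2,0,0,0,-2,-4,-2,0,-2,0,2],
  [-2,-2,2,2,2,2,0,-2,0,0,2,2,2,0,-2,2,2,0,-2,0,-2,0,2,0],
  [0,0,0,0,0,0,-2,0,2,-2,-4,0,0,-2,-4,0,0,-2,0,2,0,-2,0,-2],
  [0,0,0,0,4,0,-2,0,2,-2,0,0,0,2,0,-4,0,2,0,-2,0,2,0,-2],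
  [0,-4,0,0,0,0,-2,0,2,2,0,0,0,2,0,0,-4,2,0,2,0,-2,0,2],
  [2,-2,2,-2,2,2,0,2,0,0,2,-2,-2,0,-2,2,2,0,2,0,2,0,-2,0],
  [0,0,0,0,0,0,2,0,2,2,0,0,-4,-2,0,0,0,2,-4,2,0,2,0,-2],
  [-2,-2,2,-2,-2,2,0,-2,0,0,-2,2,-2,0,2,-2,2,0,2,0,-2,0,-2,0],
  [4,0,0,0,0,0,2,0,2,-2,0,0,0,-2,0,0,0,2,0,-2,-4,-2,0,2],
  [-2,2,-2,-2,2,-2,0,-2,0,0,2,2,-2,0,-2,2,-2,0,2,0,-2,0,-2,0],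
  [0,0,0,4,0,0,2,0,2,2,0,0,0,2,0,0,0,-2,0,-2,0,-2,-4,-2],
  [2,-2,-2,-2,-2,-2,0,-2,0,0,2,2,2,0,-2,-2,2,0,-2,0,2,0,-2,0]]

/-- Columns of `c5` (times 8). -/
def c5C : List (List ℤ) := c5R

theorem ok_c5 : Ok c5R c5C := CoFast.ok_of_okZ (by decide +kernel)

/-- Rows of `n` (times 8). -/
def nR : List (List ℤ) :=
  [[-2,0,0,-2,0,2,0,2,0,-2,0,-2,-2,2,0,0,-2,-4,0,2,2,0,0,-2],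
  [0,2,-2,0,2,0,2,0,-2,-4,2,0,0,0,-2,-2,0,2,2,0,0,-2,2,0],
  [0,2,2,0,2,4,-2,0,-2,0,-2,0,0,0,-2,2,0,2,-2,0,0,-2,-2,0],
  [0,-2,2,0,2,0,2,0,-2,0,2,0,0,0,-2,-2,0,-2,-2,0,0,2,-2,4],
  [-2,0,0,-2,0,-2,0,-2,0,-2,0,2,2,2,0,0,2,0,0,-2,2,0,-4,-2],
  [2,0,0,-2,0,2,0,-2,0,2,4,-2,2,2,0,0,2,0,0,2,-2,0,0,-2],
  [0,2,-2,0,2,0,-2,0,-2,0,-2,0,4,0,2,-2,0,-2,-2,0,0,2,2,0],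
  [-2,0,0,2,0,2,0,-2,0,-2,0,2,-2,2,4,0,2,0,0,2,-2,0,0,2],
  [2,0,0,2,4,-2,0,-2,0,2,0,2,-2,2,0,0,-2,0,0,2,2,0,0,-2],
  [-2,0,0,2,0,-2,0,2,0,2,0,-2,2,2,0,0,2,0,0,2,2,-4,0,2],
  [-2,0,0,2,0,2,4,2,0,2,0,2,2,2,0,0,-2,0,0,-2,-2,0,0,-2],
  [0,2,-2,4,-2,0,-2,0,-2,0,2,0,0,0,-2,2,0,-2,2,0,0,2,-2,0],
  [0,-2,-2,0,2,0,2,0,-2,0,-2,-4,0,0,2,2,0,2,2,0,0,2,-2,0],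
  [-2,4,0,-2,0,-2,0,-2,0,2,0,-2,-2,2,0,0,-2,0,0,-2,-2,0,0,2],
  [2,0,0,2,0,-2,0,2,0,-2,0,-2,-2,2,0,0,2,0,-4,-2,-2,0,0,-2],
  [2,0,-4,-2,0,2,0,2,0,2,0,2,-2,2,0,0,2,0,0,-2,2,0,0,2],
  [2,0,0,-2,0,-2,0,2,0,-2,0,2,2,2,0,4,-2,0,0,2,-2,0,0,2],
  [-2,0,0,-2,0,-2,0,2,-4,2,0,2,-2,-2,0,0,2,0,0,2,-2,0,0,-2],
  [0,-2,-2,0,-2,0,2,-4,-2,0,-2,0,0,0,-2,2,0,-2,-2,0,0,-2,2,0],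
  [0,2,-2,0,2,0,2,0,2,0,2,0,0,-4,2,2,0,-2,-2,0,0,-2,-2,0],
  [0,2,2,0,-2,0,2,0,-2,0,2,0,0,0,2,2,0,2,-2,0,4,2,2,0],
  [0,-2,2,0,2,0,-2,0,-2,0,2,0,0,0,2,2,0,-2,2,-4,0,-2,2,0],
  [0,-2,-2,0,-2,0,-2,0,-2,0,2,0,0,0,2,-2,-4,2,-2,0,0,-2,-2,0],
  [4,2,2,0,-2,0,2,0,-2,0,-2,0,0,0,2,-2,0,-2,2,0,0,-2,-2,0]]

/-- Columns of `n` (times 8). -/
def nC : List (List ℤ) :=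
  [[-2,0,0,0,-2,2,0,-2,2,-2,-2,0,0,-2,2,2,2,-2,0,0,0,0,0,4],
  [0,2,2,-2,0,0,2,0,0,0,0,2,-2,4,0,0,0,0,-2,2,2,-2,-2,2],
  [0,-2,2,2,0,0,-2,0,0,0,0,-2,-2,0,0,-4,0,0,-2,-2,2,2,-2,2],
  [-2,0,0,0,-2,-2,0,2,2,2,2,4,0,-2,2,-2,-2,-2,0,0,0,0,0,0],
  [0,2,2,2,0,0,2,0,4,0,0,-2,2,0,0,0,0,0,-2,2,-2,2,-2,-2],
  [2,0,4,0,-2,2,0,2,-2,-2,2,0,0,-2,-2,2,-2,-2,0,0,0,0,0,0],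
  [0,2,-2,2,0,0,-2,0,0,0,4,-2,2,0,0,0,0,0,2,2,2,-2,-2,2],
  [2,0,0,0,-2,-2,0,-2,-2,2,2,0,0,-2,2,2,2,2,-4,0,0,0,0,0],
  [0,-2,-2,-2,0,0,-2,0,0,0,0,-2,-2,0,0,0,0,-4,-2,2,-2,-2,-2,-2],
  [-2,-4,0,0,-2,2,0,-2,2,2,2,0,0,2,-2,2,-2,2,0,0,0,0,0,0],
  [0,2,-2,2,0,4,-2,0,0,0,0,2,-2,0,0,0,0,0,-2,2,2,2,2,-2],
  [-2,0,0,0,2,-2,0,2,2,-2,2,0,-4,-2,-2,2,2,2,0,0,0,0,0,0],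
  [-2,0,0,0,2,2,4,-2,-2,2,2,0,0,-2,-2,-2,2,-2,0,0,0,0,0,0],
  [2,0,0,0,2,2,0,2,2,2,2,0,0,2,2,2,2,-2,0,-4,0,0,0,0],
  [0,-2,-2,-2,0,0,2,4,0,0,0,-2,2,0,0,0,0,0,-2,2,2,2,2,2],
  [0,-2,2,-2,0,0,-2,0,0,0,0,2,2,0,0,0,4,0,2,2,2,2,-2,-2],
  [-2,0,0,0,2,2,0,2,-2,2,-2,0,0,-2,2,2,-2,2,0,0,0,0,-4,0],
  [-4,2,2,-2,0,0,-2,0,0,0,0,-2,2,0,0,0,0,0,-2,-2,2,-2,2,-2],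
  [0,2,-2,-2,0,0,-2,0,0,0,0,2,2,0,-4,0,0,0,-2,-2,-2,2,-2,2],
  [2,0,0,0,-2,2,0,2,2,2,-2,0,0,-2,-2,-2,2,2,0,0,0,-4,0,0],
  [2,0,0,0,2,-2,0,-2,2,2,-2,0,0,-2,-2,2,-2,-2,0,0,4,0,0,0],
  [0,-2,-2,2,0,0,2,0,0,-4,0,2,2,0,0,0,0,0,-2,-2,2,-2,-2,-2],
  [0,2,-2,-2,-4,0,2,0,0,0,0,-2,-2,0,0,0,0,0,2,-2,2,2,-2,-2],
  [-2,0,0,4,-2,-2,0,2,-2,2,-2,0,0,2,-2,2,2,-2,0,0,0,0,0,0]]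

theorem ok_n : Ok nR nC := CoFast.ok_of_okZ (by decide +kernel)

/-- The matrices. -/
def M : ℕ → List (List ℤ)
  | 0 => c0R
  | 1 => c1R
  | 2 => c2R
  | 3 => c3R
  | 4 => c4R
  | 5 => c5R
  | 6 => nR
  | 7 => nC
  | 8 => LettersB.wR
  | _ => StdG24.CoSide.jR

/-- The letters in `Co0`. -/
def e : ℕ → Co0
  | 0 => mk ok_c0
  | 1 => mk ok_c1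
  | 2 => mk ok_c2
  | 3 => mk ok_c3
  | 4 => mk ok_c4
  | 5 => mk ok_c5
  | 6 => mk ok_n
  | 7 => (mk ok_n)⁻¹
  | 8 => mk LettersB.ok_w
  | _ => mk StdG24.CoSide.ok_j

theorem hM : ∀ i, Rep (e i) (M i)
  | 0 => rep_mk ok_c0
  | 1 => rep_mk ok_c1
  | 2 => rep_mk ok_c2
  | 3 => rep_mk ok_c3
  | 4 => rep_mk ok_c4
  | 5 => rep_mk ok_c5
  | 6 => rep_mk ok_n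
  | 7 => rep_inv ok_n
  | 8 => rep_mk LettersB.ok_w
  | _ + 9 => rep_mk StdG24.CoSide.ok_j

/-- The relators of `G₂(4)` hold in `Co₁`. -/
theorem chk_R6 : (G24Rel.R6.all fun w => relB M (w.map Fin.val)) = true := by decide +kernel

/-- The letters commute with `I` and `J`. -/
theorem chk_I : ((List.range 6).all fun i => oneB M [i, 8, i, i, i, 8, 8, 8]) = true := by decide +kernel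
theorem chk_J : ((List.range 6).all fun i => oneB M [i, 9, i, i, i, 9, 9, 9]) = true := by decide +kernel
/-- The fourth powers of the letters are `1`. -/
theorem chk_four : ((List.range 6).all fun i => oneB M [i, i, i, i]) = true := by decide +kernel
theorem chk_II : negB M [8, 8] = true := by decide +kernel
theorem chk_JJ : negB M [9, 9] = true := by decide +kernel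
theorem chk_JI : negB M [9, 8, 9, 9, 9, 8, 8, 8] = true := by decide +kernel
/-- `n I n⁻¹ = - I`, `n J n⁻¹ = - I J`. -/
theorem chk_nI : oneB M [6, 8, 7, 8] = true := by decide +kernel
theorem chk_nJ : oneB M [6, 9, 7, 8, 9] = true := by decide +kernel

/-- The images of the letters under the outer automorphism, as words in the letters. -/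
def aw : Fin 6 → List (Fin 6)
  | 0 => [5, 1, 0, 1, 5, 4, 2, 3, 1, 2, 3, 4, 0, 1, 0, 1, 2, 3, 2, 1, 0, 1, 0, 4, 3, 2, 1, 3, 2, 4, 1, 0, 1, 5, 0, 1, 0, 1, 0, 5, 1, 0, 1, 4, 2, 3, 1, 2, 3, 4, 0, 1, 0, 1, 2, 3, 2, 1, 0, 1, 0, 4, 3, 2, 1, 3, 2, 4, 5, 1, 0, 1, 5]
  | 1 => [5, 1, 0, 1, 5, 4, 2, 3, 1, 2, 3, 4, 0, 1, 0, 1, 2, 3, 2, 1, 0, 1, 0, 4, 3, 2, 1, 3, 2, 4, 1, 4, 2, 3, 1, 2, 3, 4, 0, 1, 0, 1, 2, 3, 2, 1, 0, 1, 0, 4, 3, 2, 1, 3, 2, 4, 5, 1, 0, 1, 5]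
  | 2 => [5, 1, 0, 1, 5, 4, 2, 3, 1, 2, 3, 4, 0, 1, 0, 1, 2, 3, 2, 1, 0, 1, 0, 4, 3, 2, 1, 3, 2, 4, 2, 3, 1, 2, 1, 0, 1, 5, 0, 1, 2, 3, 2, 3, 2, 1, 0, 5, 1, 0, 1, 2, 1, 3, 2, 5, 2, 3, 1, 2, 1, 0, 1, 5, 0, 1, 2, 3, 2, 3, 2, 1, 0, 5, 1, 0, 1, 2, 1, 3, 2, 4, 2, 3, 1, 2, 3, 4, 0, 1, 0, 1, 2, 3, 2, 1, 0, 1, 0, 4, 3, 2, 1, 3, 2, 4, 5, 1, 0, 1, 5]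
  | 3 => [5, 1, 0, 1, 5, 4, 2, 3, 1, 2, 3, 4, 0, 1, 0, 1, 2, 3, 2, 1, 0, 1, 0, 4, 3, 2, 1, 3, 2, 4, 3, 4, 2, 3, 1, 2, 3, 4, 0, 1, 0, 1, 2, 3, 2, 1, 0, 1, 0, 4, 3, 2, 1, 3, 2, 4, 5, 1, 0, 1, 5]
  | 4 => [5, 1, 0, 1, 5, 4, 2, 3, 1, 2, 3, 4, 0, 1, 0, 1, 2, 3, 2, 1, 0, 1, 0, 4, 3, 2, 1, 3, 2, 4, 4, 4, 2, 3, 1, 2, 3, 4, 0, 1, 0, 1, 2, 3, 2, 1, 0, 1, 0, 4, 3, 2, 1, 3, 2, 4, 5, 1, 0, 1, 5]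
  | 5 => [5, 1, 0, 1, 5, 4, 2, 3, 1, 2, 3, 4, 0, 1, 0, 1, 2, 3, 2, 1, 0, 1, 0, 4, 3, 2, 1, 3, 2, 4, 5, 4, 2, 3, 1, 2, 3, 4, 0, 1, 0, 1, 2, 3, 2, 1, 0, 1, 0, 4, 3, 2, 1, 3, 2, 4, 5, 1, 0, 1, 5]

theorem chk_n : ∀ i : Fin 6, sameB M [6, i.val, 7] ((aw i).map Fin.val) = true := by decide +kernel

end Cfsg.Agent.H931.K1Co
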