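import Cfsg.Agent.H931.K1Norm

/-!
# The core of degree twelve isomorphic to `SU₃(4)` in the model (helper931)
-/

set_option autoImplicit false
set_option maxRecDepth 20000

namespace Cfsg.Agent.H931.K1Core

open Cfsg Cfsg.Geo Cfsg.Agent.SporRec Cfsg.Agent.SporRec.GF4 Cfsg.Agent.StdG24.Mod6 Cfsg.Agent.StdG24.Ord6
  Cfsg.Agent.SporadicA.Co0Basic Cfsg.Agent.CoOneType.CoEval Cfsg.Agent.H931.K1F16 Cfsg.Agent.H931.K1SU
  Cfsg.Agent.H931.K1Psi Cfsg.Agent.H931.K1Red Cfsg.Agent.H931.K1Grp Cfsg.Agent.H931.K1Aut Cfsg.Agent.H931.K1Quat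
  Cfsg.Agent.H931.K1Lift Cfsg.Agent.H931.K1Norm Cfsg.Agent.H915.LD
open scoped commutatorElement

theorem exists_equiv {X A B : Type*} [Group X] [Group A] [Group B] (a : X →* A) (b : X →* B)
    (ha : Function.Surjective a) (hb : Function.Surjective b) (h : ∀ x, a x = 1 ↔ b x = 1) :
    ∃ e : A ≃* B, ∀ x, e (a x) = b x := by
  have hk : a.ker = b.ker := by
    ext x
    rw [MonoidHom.mem_ker, MonoidHom.mem_ker]
    exact h x
  refine ⟨(QuotientGroup.quotientKerEquivOfSurjective a ha).symm.trans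
    ((QuotientGroup.quotientMulEquivOfEq hk).trans (QuotientGroup.quotientKerEquivOfSurjective b hb)), fun x => ?_⟩
  have h1 : (QuotientGroup.quotientKerEquivOfSurjective a ha).symm (a x) = (x : X ⧸ a.ker) := by
    rw [MulEquiv.symm_apply_eq]; rfl
  rw [MulEquiv.trans_apply, h1]
  rfl

/-- the lift inside the centraliser -/
noncomputable def X : Subgroup Cq := Dd.subgroupOf Cq

theorem X_perfect : ⁅X, X⁆ = X := by
  apply Subgroup.map_injective Cq.subtype_injective
  rw [Subgroup.map_commutator]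
  have h : X.map Cq.subtype = Dd := Subgroup.map_subgroupOf_eq_of_le Dd_le_Cq
  rw [h, Dd_perfect]

/-- projection -/
noncomputable def th : X →* SU34 := (MonoidHom.ofInjective ph_injective).symm.toMonoidHom.comp
   ((prH.comp (Cq.subtype.comp X.subtype)).codRestrict ph.range (fun x => Dd_le x.2))

theorem ph_th (x : X) : ph (th x) = prH x.1.1 := by
  have h := (MonoidHom.ofInjective ph_injective).apply_symm_apply
    (((prH.comp (Cq.subtype.comp X.subtype)).codRestrict ph.range (fun x => Dd_le x.2)) x)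
  exact congrArg Subtype.val h

theorem th_surjective : Function.Surjective th := by
  intro A
  obtain ⟨g, hg, he⟩ := exists_lift A
  refine ⟨⟨⟨g, Dd_le_Cq hg⟩, hg⟩, ph_injective ?_⟩
  rw [ph_th]
  exact he

theorem th_eq_one_iff (x : X) : th x = 1 ↔ prH x.1.1 = 1 := by
  rw [← ph_th, ← map_one ph, ph_injective.eq_iff]

section rep

variable {F : Type*} [Field F] {ι : Type} [Fintype ι] [DecidableEq ι]

/-- the group of matrices -/
noncomputable def Pp (D : Dt F ι) : Subgroup (GL ι F) := X.map (rr D)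

theorem Pp_perfect (D : Dt F ι) : ⁅Pp D, Pp D⁆ = Pp D := by
  unfold Pp
  rw [← Subgroup.map_commutator, X_perfect]

/-- the map to the quotient -/
noncomputable def q1 (D : Dt F ι) : X →* Soc (Pp D) := (QuotientGroup.mk' _).comp ((rr D).subgroupMap X)

theorem q1_surjective (D : Dt F ι) : Function.Surjective (q1 D) :=
  (QuotientGroup.mk'_surjective _).comp ((rr D).subgroupMap_surjective X)

theorem rr_scalar_of_prH (D : Dt F ι) {x : Cq} (hx : prH x.1 = 1) : rr D x ∈ scalars ι F := by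
  rcases (prH_eq_iff x.1 1).1 (hx.trans (map_one prH).symm) with h | h
  · have : x = 1 := Subtype.ext h
    rw [this, map_one]
    exact one_mem _
  · rw [mul_one] at h
    have : x = ⟨negCo0, neg_mem_Cq⟩ := Subtype.ext h
    rw [this]
    exact (mem_scalars_iff _).2 ⟨-1, by rw [rr_neg]; rfl⟩

theorem q1_eq_one_iff (D : Dt F ι) (x : X) : q1 D x = 1 ↔ th x = 1 := by
  rw [th_eq_one_iff]
  have h1 : q1 D x = 1 ↔ rr D x.1 ∈ scalars ι F := by
    show (QuotientGroup.mk _ : Soc (Pp D)) = 1 ↔ _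
    rw [QuotientGroup.eq_one_iff]
    exact Subgroup.mem_subgroupOf
  rw [h1]
  constructor
  · intro h
    exact prH_of_scalar D ((Dd_le.trans St_le) x.2) h
  · exact rr_scalar_of_prH D

/-- the simple group -/
theorem exists_soc (D : Dt F ι) : ∃ e : Soc (Pp D) ≃* SU34, ∀ x : X, e (q1 D x) = th x :=
  exists_equiv (q1 D) th (q1_surjective D) th_surjective (q1_eq_one_iff D)

theorem SU34_nonabelian : ¬ IsMulCommutative SU34 := by
  intro h
  have h1 : commutator SU34 = ⊥ := by
    rw [commutator_def, Subgroup.commutator_eq_bot_iff_le_centralizer]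
    intro x _ y _
    exact (h.is_comm.comm _ _)
  rw [perfect] at h1
  have := simple
  exact top_ne_bot h1

theorem core (D : Dt F ι) (ha : ActsAbsolutelyIrreducibly (matrixSet (Pp D)))
    (hs : ∀ F₀ : Subfield F, F₀ = ⊤) : Core (Pp D) := by
  obtain ⟨e, -⟩ := exists_soc D
  refine ⟨Pp_perfect D, ?_, ?_, ha, fun F₀ h => absurd (hs F₀) h⟩
  · have := simple
    exact e.isSimpleGroup
  · intro h
    apply SU34_nonabelian
    constructor
    constructor
    intro a b
    apply e.symm.injective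
    rw [map_mul, map_mul]
    exact h.is_comm.comm _ _

/-! ### The splitting -/

theorem neg_not_mem (D : Dt F ι) (hb : (scalars ι F).subgroupOf (Pp D) = ⊥) : negCo0 ∉ Dd := by
  intro h
  have h1 : rr D ⟨negCo0, neg_mem_Cq⟩ ∈ Pp D := ⟨⟨negCo0, neg_mem_Cq⟩, h, rfl⟩
  have h2 : (⟨rr D ⟨negCo0, neg_mem_Cq⟩, h1⟩ : Pp D) ∈ (scalars ι F).subgroupOf (Pp D) :=
    rr_scalar_of_prH D prH_neg
  rw [hb, Subgroup.mem_bot] at h2
  have h3 := congrArg (fun g : Pp D => ((g : GL ι F) : Matrix ι ι F)) h2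
  simp only [rr_neg] at h3
  have h4 : ((1 : Pp D) : GL ι F) = 1 := rfl
  rw [h4, Units.val_one] at h3
  -- `-1 = 1`
  have h5 : D.R * ((-1 : F) • (1 : Matrix GolayPt GolayPt F)) * D.T = (1 : F) • 1 := by
    rw [Matrix.mul_smul, Matrix.mul_one, Matrix.smul_mul, D.hRT, h3, one_smul]
  have h6 := eq_smul_of_r D.h2 (quat D.h2) D.hab D.hTR D.hRT (m := (-1 : F) • 1) (by simp) (by simp) h5
  have : Fintype.card GolayPt = 24 := by decide
  obtain ⟨i⟩ : Nonempty GolayPt := Fintype.card_pos_iff.1 (by rw [this]; norm_num)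
  have h7 := congrFun (congrFun h6 i) i
  rw [Matrix.smul_apply, Matrix.smul_apply, Matrix.one_apply_eq, smul_eq_mul, smul_eq_mul, mul_one, mul_one] at h7
  exact D.h2 (by linear_combination -h7)

theorem th_injective (hneg : negCo0 ∉ Dd) : Function.Injective th := by
  rw [injective_iff_map_eq_one]
  intro x hx
  rw [th_eq_one_iff] at hx
  rcases (prH_eq_iff x.1.1 1).1 (hx.trans (map_one prH).symm) with h | h
  · exact Subtype.ext (Subtype.ext h)
  · rw [mul_one] at h
    exact absurd (h ▸ x.2) hneg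

end rep

end Cfsg.Agent.H931.K1Core
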