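import Cfsg.Agent.StdG24.Mod6

/-!
# The field with sixteen elements over `F4` and the linear bijection `F16³ → F4⁶` (helper931)
-/

set_option autoImplicit false

namespace Cfsg.Agent.H931.K1F16

open Cfsg.Agent.SporRec.GF4 Cfsg.Agent.StdG24.Mod6

/-- `F4[t] / (t² + t + w)` -/
@[ext] structure F16 where
  /-- the first coordinate -/
  a : F4
  /-- the second coordinate -/
  b : F4
deriving DecidableEq

namespace F16

instance : Fintype F16 :=
  Fintype.ofEquiv (F4 × F4) ⟨fun p => ⟨p.1, p.2⟩, fun x => (x.a, x.b), fun _ => rfl, fun _ => rfl⟩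

/-- multiplication -/
def mul' (x y : F16) : F16 := ⟨x.a * y.a + F4.w * (x.b * y.b), x.a * y.b + x.b * y.a + x.b * y.b⟩

instance : Zero F16 := ⟨⟨0, 0⟩⟩
instance : One F16 := ⟨⟨1, 0⟩⟩
instance : Add F16 := ⟨fun x y => ⟨x.a + y.a, x.b + y.b⟩⟩
instance : Neg F16 := ⟨fun x => ⟨-x.a, -x.b⟩⟩
instance : Mul F16 := ⟨mul'⟩

instance instCommRing : CommRing F16 where
  nsmul := nsmulRec
  zsmul := zsmulRec
  add_assoc x y z := by
    apply F16.ext
    · exact add_assoc x.a y.a z.a
    · exact add_assoc x.b y.b z.b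
  zero_add x := by
    apply F16.ext
    · exact zero_add x.a
    · exact zero_add x.b
  add_zero x := by
    apply F16.ext
    · exact add_zero x.a
    · exact add_zero x.b
  neg_add_cancel x := by
    apply F16.ext
    · exact neg_add_cancel x.a
    · exact neg_add_cancel x.b
  add_comm x y := by
    apply F16.ext
    · exact add_comm x.a y.a
    · exact add_comm x.b y.b
  left_distrib x y z := by
    apply F16.ext
    · show x.a * (y.a + z.a) + F4.w * (x.b * (y.b + z.b)) =
        (x.a * y.a + F4.w * (x.b * y.b)) + (x.a * z.a + F4.w * (x.b * z.b))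
      ring
    · show x.a * (y.b + z.b) + x.b * (y.a + z.a) + x.b * (y.b + z.b) =
        (x.a * y.b + x.b * y.a + x.b * y.b) + (x.a * z.b + x.b * z.a + x.b * z.b)
      ring
  right_distrib x y z := by
    apply F16.ext
    · show (x.a + y.a) * z.a + F4.w * ((x.b + y.b) * z.b) =
        (x.a * z.a + F4.w * (x.b * z.b)) + (y.a * z.a + F4.w * (y.b * z.b))
      ring
    · show (x.a + y.a) * z.b + (x.b + y.b) * z.a + (x.b + y.b) * z.b =
        (x.a * z.b + x.b * z.a + x.b * z.b) + (y.a * z.b + y.b * z.a + y.b * z.b)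
      ring
  zero_mul x := by
    apply F16.ext
    · show (0 : F4) * x.a + F4.w * (0 * x.b) = 0
      ring
    · show (0 : F4) * x.b + 0 * x.a + 0 * x.b = 0
      ring
  mul_zero x := by
    apply F16.ext
    · show x.a * (0 : F4) + F4.w * (x.b * 0) = 0
      ring
    · show x.a * (0 : F4) + x.b * 0 + x.b * 0 = 0
      ring
  mul_assoc x y z := by
    apply F16.ext
    · show (x.a * y.a + F4.w * (x.b * y.b)) * z.a + F4.w * ((x.a * y.b + x.b * y.a + x.b * y.b) * z.b) =
        x.a * (y.a * z.a + F4.w * (y.b * z.b)) + F4.w * (x.b * (y.a * z.b + y.b * z.a + y.b * z.b))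
      ring
    · show (x.a * y.a + F4.w * (x.b * y.b)) * z.b + (x.a * y.b + x.b * y.a + x.b * y.b) * z.a +
        (x.a * y.b + x.b * y.a + x.b * y.b) * z.b =
        x.a * (y.a * z.b + y.b * z.a + y.b * z.b) + x.b * (y.a * z.a + F4.w * (y.b * z.b)) +
          x.b * (y.a * z.b + y.b * z.a + y.b * z.b)
      ring
  one_mul x := by
    apply F16.ext
    · show (1 : F4) * x.a + F4.w * (0 * x.b) = x.a
      ring
    · show (1 : F4) * x.b + 0 * x.a + 0 * x.b = x.b
      ring
  mul_one x := by
    apply F16.ext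
    · show x.a * (1 : F4) + F4.w * (x.b * 0) = x.a
      ring
    · show x.a * (0 : F4) + x.b * 1 + x.b * 0 = x.b
      ring
  mul_comm x y := by
    apply F16.ext
    · show x.a * y.a + F4.w * (x.b * y.b) = y.a * x.a + F4.w * (y.b * x.b)
      ring
    · show x.a * y.b + x.b * y.a + x.b * y.b = y.a * x.b + y.b * x.a + y.b * x.b
      ring

theorem add_a (x y : F16) : (x + y).a = x.a + y.a := rfl
theorem add_b (x y : F16) : (x + y).b = x.b + y.b := rfl
theorem mul_a (x y : F16) : (x * y).a = x.a * y.a + F4.w * (x.b * y.b) := rfl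
theorem mul_b (x y : F16) : (x * y).b = x.a * y.b + x.b * y.a + x.b * y.b := rfl

/-- inverses -/
def inv' (x : F16) : F16 :=
  let n := (x.a * x.a + x.a * x.b + F4.w * (x.b * x.b))⁻¹
  ⟨n * (x.a + x.b), n * x.b⟩

instance instField : Field F16 where
  inv := inv'
  exists_pair_ne := ⟨0, 1, by decide⟩
  mul_inv_cancel := by decide +kernel
  inv_zero := by decide
  nnqsmul := _
  nnqsmul_def := fun _ _ => rfl
  qsmul := _
  qsmul_def := fun _ _ => rfl

theorem card : Fintype.card F16 = 16 := rfl

instance instAlgebra : Algebra F4 F16 := RingHom.toAlgebra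
  { toFun := fun a => ⟨a, 0⟩
    map_one' := rfl
    map_zero' := rfl
    map_add' := fun _ _ => rfl
    map_mul' := by decide }

theorem smul_a (c : F4) (x : F16) : (c • x).a = c * x.a := by
  show ((⟨c, 0⟩ : F16) * x).a = _
  rw [mul_a]; simp

theorem smul_b (c : F4) (x : F16) : (c • x).b = c * x.b := by
  show ((⟨c, 0⟩ : F16) * x).b = _
  rw [mul_b]; simp

/-- the Frobenius automorphism `x ↦ x²` -/
def fr : F16 ≃+* F16 where
  toFun x := x * x
  invFun x := (x * x) * (x * x) * ((x * x) * (x * x))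
  left_inv := by decide +kernel
  right_inv := by decide +kernel
  map_mul' := by decide +kernel
  map_add' := by decide +kernel

theorem fr_apply (x : F16) : fr x = x * x := rfl

end F16

/-! ### The bijection -/

open F4 (z o w v)

/-- the matrix of the basis -/
def S0 : Mat := ![![z, z, z, v, o, z], ![z, z, o, w, o, v], ![o, o, z, z, z, z], ![z, o, z, z, z, z], ![z, z, o, v, o, v], ![z, z, z, o, z, o]]

/-- its inverse -/
def S1 : Mat := ![![z, z, o, o, z, z], ![z, z, z, o, z, z], ![o, v, z, z, w, v], ![z, o, z, z, o, z], ![o, v, z, z, v, z], ![z, o, z, z, o, o]]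

theorem S01 : S0 * S1 = 1 := by decide +kernel
theorem S10 : S1 * S0 = 1 := by decide +kernel

/-- coordinates over `F4` -/
def flat (u : Fin 3 → F16) : Vec := ![(u 0).a, (u 0).b, (u 1).a, (u 1).b, (u 2).a, (u 2).b]

/-- the inverse of `flat` -/
def unflat (x : Vec) : Fin 3 → F16 := ![⟨x 0, x 1⟩, ⟨x 2, x 3⟩, ⟨x 4, x 5⟩]

/-- `F16³ → F4⁶` -/
def S : (Fin 3 → F16) ≃ₗ[F4] Vec where
  toFun u := S0.mulVec (flat u)
  invFun x := unflat (S1.mulVec x)
  map_add' u u' := by
    rw [← Matrix.mulVec_add]
    congr 1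
    funext i
    fin_cases i <;> rfl
  map_smul' c u := by
    rw [RingHom.id_apply, ← Matrix.mulVec_smul]
    congr 1
    funext i
    fin_cases i
    · exact F16.smul_a c _
    · exact F16.smul_b c _
    · exact F16.smul_a c _
    · exact F16.smul_b c _
    · exact F16.smul_a c _
    · exact F16.smul_b c _
  left_inv u := by
    show unflat (S1.mulVec (S0.mulVec (flat u))) = u
    rw [Matrix.mulVec_mulVec, S10, Matrix.one_mulVec]
    funext i
    fin_cases i <;> rfl
  right_inv x := by
    show S0.mulVec (flat (unflat (S1.mulVec x))) = x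
    have h : flat (unflat (S1.mulVec x)) = S1.mulVec x := by
      funext i
      fin_cases i <;> rfl
    rw [h, Matrix.mulVec_mulVec, S01, Matrix.one_mulVec]

theorem S_apply (u : Fin 3 → F16) : S u = S0.mulVec (flat u) := rfl
theorem S_symm_apply (x : Vec) : S.symm x = unflat (S1.mulVec x) := rfl

end Cfsg.Agent.H931.K1F16
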