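import Cfsg.Agent.H931.K1Co
import Cfsg.Agent.StdG24.Iso6

/-!
# The homomorphism from the six-dimensional `G₂(4)` to `Co₁` (helper931)
-/

set_option autoImplicit false

namespace Cfsg.Agent.H931.K1Psi

open Cfsg Cfsg.Agent.SporRec Cfsg.Agent.SporRec.GF4 Cfsg.Agent.StdG24 Cfsg.Agent.StdG24.Mod6
  Cfsg.Agent.StdG24.Ord6 Cfsg.Agent.CoOneType.CoEval Cfsg.Agent.SporadicStructure.Co0Matrix
open Cfsg.Agent.SporRec.G24Match (wx)

/-- Six elements satisfying the relators: a homomorphism from the six-dimensional `G₂(4)`. -/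
theorem exists_hom {G : Type*} [Group G] (x : Fin 6 → G) (hx : ∀ w ∈ G24Rel.R6, (w.map x).prod = 1) :
    ∃ ψ : L →* G, ∀ i, ψ ⟨B i, B_mem i⟩ = x i := by
  classical
  obtain ⟨hfin, hcard⟩ := G24Upper.card_closure_le (fun i => (B i, x i)) (fun w hw => by
    rw [Cfsg.Agent.S1679.prod_pair, B_rel w hw, hx w hw]; rfl)
  set D := Subgroup.closure (Set.range fun i => (B i, x i)) with hD
  have e1 : D.map (MonoidHom.fst _ G) = L := by
    rw [hD, MonoidHom.map_closure, ← Set.range_comp]; exact closure_B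
  let f1 : D →* L := ((MonoidHom.fst _ G).comp D.subtype).codRestrict L
    (fun d => by rw [← e1]; exact ⟨d, d.2, rfl⟩)
  have s1 : Function.Surjective f1 := by
    rintro ⟨g, hg⟩
    rw [← e1] at hg
    obtain ⟨d, hd, rfl⟩ := hg
    exact ⟨⟨d, hd⟩, rfl⟩
  have b1 : Function.Bijective f1 := by
    refine (Nat.bijective_iff_surjective_and_card f1).2 ⟨s1, le_antisymm ?_ ?_⟩
    · exact hcard.trans card_L.ge
    · exact Nat.card_le_card_of_surjective f1 s1
  refine ⟨((MonoidHom.snd _ G).comp D.subtype).comp (MulEquiv.ofBijective f1 b1).symm.toMonoidHom, fun i => ?_⟩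
  set d : D := ⟨(B i, x i), Subgroup.subset_closure ⟨i, rfl⟩⟩ with hd
  have h1 : (MulEquiv.ofBijective f1 b1) d = ⟨B i, B_mem i⟩ := rfl
  have h2 : (MulEquiv.ofBijective f1 b1).symm ⟨B i, B_mem i⟩ = d := by
    rw [← h1, MulEquiv.symm_apply_apply]
  show ((((MulEquiv.ofBijective f1 b1).symm ⟨B i, B_mem i⟩ : D) : GL6 × G)).2 = x i
  rw [h2]

/-- two homomorphisms from `L` agreeing on the letters -/
theorem hom_ext {G : Type*} [Group G] {α β : L →* G} (h : ∀ i, α ⟨B i, B_mem i⟩ = β ⟨B i, B_mem i⟩) : α = β := by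
  have h1 : ∀ g : GL6, ∀ hg : g ∈ Subgroup.closure (Set.range B), ∀ hg' : g ∈ L, α ⟨g, hg'⟩ = β ⟨g, hg'⟩ := by
    intro g hg
    induction hg using Subgroup.closure_induction with
    | mem g hg =>
      obtain ⟨i, rfl⟩ := hg
      intro hg'
      exact h i
    | one => intro hg'; exact (map_one α).trans (map_one β).symm
    | mul a b ha hb iha ihb =>
      intro hg'
      rw [closure_B] at ha hb
      have e1 : (⟨a * b, hg'⟩ : L) = ⟨a, ha⟩ * ⟨b, hb⟩ := rfl
      rw [e1, map_mul, map_mul, iha, ihb]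
    | inv a ha iha =>
      intro hg'
      rw [closure_B] at ha
      have e1 : (⟨a⁻¹, hg'⟩ : L) = ⟨a, ha⟩⁻¹ := rfl
      rw [e1, map_inv, map_inv, iha]
  ext ⟨g, hg⟩
  exact h1 g (by rw [closure_B]; exact hg) hg

/-- the value of a word in the letters -/
theorem map_prod_B {G : Type*} [Group G] (α : L →* G) (w : List (Fin 6)) (hw : (w.map B).prod ∈ L) :
    α ⟨(w.map B).prod, hw⟩ = (w.map fun i => α ⟨B i, B_mem i⟩).prod := by
  induction w with
  | nil => exact map_one α
  | cons i w ih =>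
    have h1 : (w.map B).prod ∈ L := by
      refine Subgroup.list_prod_mem _ ?_
      intro x hx
      obtain ⟨j, -, rfl⟩ := List.mem_map.1 hx
      exact B_mem j
    have e1 : (⟨((i :: w).map B).prod, hw⟩ : L) = ⟨B i, B_mem i⟩ * ⟨(w.map B).prod, h1⟩ := rfl
    rw [e1, map_mul, ih h1, List.map_cons, List.prod_cons]

/-! ### The Frobenius map of `GL₆(4)` -/

/-- the Frobenius map of the field with four elements -/
def fr : F4 →+* F4 where
  toFun x := x * x
  map_one' := rfl
  map_mul' := by decide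
  map_zero' := rfl
  map_add' := by decide

theorem fr_fr (x : F4) : fr (fr x) = x := by revert x; decide

/-- the entrywise Frobenius map -/
def sg : GL6 →* GL6 := Matrix.GeneralLinearGroup.map fr

/-- the action of the Frobenius map on the parameters -/
def sw : Fin 3 → Fin 3
  | 0 => 0
  | 1 => 2
  | 2 => 1

theorem sg_gx : ∀ (r : Fin 12) (t : Fin 3), (matOf (xc r t)).map fr = matOf (xc r (sw t)) := by
  decide +kernel

theorem sg_gx' (r : Fin 12) (t : Fin 3) : sg (gx r t) = gx r (sw t) := Units.ext (sg_gx r t)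

theorem sg_ev (w : Wd) : sg (ev w) = ev (w.map fun p => (p.1, sw p.2)) := by
  unfold ev
  rw [map_list_prod, List.map_map, List.map_map]
  congr 1
  apply List.map_congr_left
  intro p _
  exact sg_gx' _ _

theorem sg_mem {g : GL6} (hg : g ∈ L) : sg g ∈ L := by
  obtain ⟨w, rfl⟩ := exists_ev hg
  rw [sg_ev]
  exact ev_mem _

/-! ### The element `g0` -/

/-- the element `g0` -/
def g0w : Wd := [(11, 2), (7, 2)]

/-- the automorphism `g ↦ g0 σ(g) g0⁻¹` -/
def tau : L →* L where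
  toFun g := ⟨ev g0w * sg g * (ev g0w)⁻¹, L.mul_mem (L.mul_mem (ev_mem _) (sg_mem g.2)) (L.inv_mem (ev_mem _))⟩
  map_one' := by
    apply Subtype.ext
    show ev g0w * sg 1 * (ev g0w)⁻¹ = 1
    rw [map_one, mul_one, mul_inv_cancel]
  map_mul' := by
    intro a b
    apply Subtype.ext
    show ev g0w * sg (a * b) * (ev g0w)⁻¹ = ev g0w * sg a * (ev g0w)⁻¹ * (ev g0w * sg b * (ev g0w)⁻¹)
    rw [map_mul]; group

theorem tau_coe (g : L) : (tau g : GL6) = ev g0w * sg g * (ev g0w)⁻¹ := rfl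

theorem aw_chk : ∀ i : Fin 6, cw (g0w ++ (bw i).map (fun p => (p.1, sw p.2)) ++ g0w.reverse) =
    cw ((K1Co.aw i).flatMap bw) := by decide +kernel

theorem tau_B (i : Fin 6) : (tau ⟨B i, B_mem i⟩ : GL6) = ((K1Co.aw i).map B).prod := by
  rw [tau_coe, prod_B]
  show ev g0w * sg (ev (bw i)) * (ev g0w)⁻¹ = _
  rw [sg_ev, ← ev_reverse, ← ev_append, ← ev_append]
  exact ev_eq_of (aw_chk i)

/-! ### The homomorphism -/

/-- the letters in `Co₁` -/
noncomputable def cl (i : Fin 6) : Spor.Co1 := pr (K1Co.e i.val)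

theorem cl_rel : ∀ w ∈ G24Rel.R6, (w.map cl).prod = 1 := by
  intro w hw
  have h := eq_one_of_relB K1Co.hM (List.all_eq_true.1 K1Co.chk_R6 w hw)
  rw [List.map_map] at h
  exact h

/-- the homomorphism `G₂(4) → Co₁` -/
noncomputable def psi : L →* Spor.Co1 := (exists_hom cl cl_rel).choose

theorem psi_B (i : Fin 6) : psi ⟨B i, B_mem i⟩ = cl i := (exists_hom cl cl_rel).choose_spec i

/-- the element of `Co₁` inducing `tau` -/
noncomputable def nn : Spor.Co1 := pr (K1Co.e 6)

theorem nn_inv : pr (K1Co.e 7) = nn⁻¹ := map_inv (QuotientGroup.mk' (Subgroup.center Co0)) _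

theorem nn_cl (i : Fin 6) : nn * cl i * nn⁻¹ = ((K1Co.aw i).map cl).prod := by
  have h := eq_of_sameB K1Co.hM (K1Co.chk_n i)
  rw [List.map_map] at h
  rw [← nn_inv]
  have h1 : (([6, i.val, 7] : List ℕ).map fun i => pr (K1Co.e i)).prod = nn * cl i * pr (K1Co.e 7) := by
    simp [nn, cl, mul_assoc]
  rw [← h1, h]
  rfl

theorem psi_tau (g : L) : nn * psi g * nn⁻¹ = psi (tau g) := by
  have h : (MulAut.conj nn).toMonoidHom.comp psi = psi.comp tau := by
    apply hom_ext
    intro i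
    show nn * psi ⟨B i, B_mem i⟩ * nn⁻¹ = psi (tau ⟨B i, B_mem i⟩)
    rw [psi_B, nn_cl]
    have h2 : ((K1Co.aw i).map B).prod ∈ L := by rw [← tau_B]; exact (tau _).2
    have h1 : tau ⟨B i, B_mem i⟩ = ⟨((K1Co.aw i).map B).prod, h2⟩ := Subtype.ext (tau_B i)
    rw [h1, map_prod_B]
    congr 1
    apply List.map_congr_left
    intro j _
    exact (psi_B j).symm
  exact DFunLike.congr_fun h g

end Cfsg.Agent.H931.K1Psi
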