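import Cfsg.Agent.H931.K1F16
import Cfsg.Agent.H931.K1Psi
import Cfsg.Agent.H876.UBasic
import Cfsg.Agent.ClassicalGeometry.PSUAutMain

/-!
# `SU₃(4)` in the six-dimensional `G₂(4)` (helper931)
-/

set_option autoImplicit false
set_option maxRecDepth 20000

namespace Cfsg.Agent.H931.K1SU

open Cfsg Matrix Cfsg.Agent.SporRec Cfsg.Agent.SporRec.GF4 Cfsg.Agent.StdG24.Mod6
  Cfsg.Agent.StdG24.Ord6 Cfsg.Agent.H931.K1F16 Cfsg.Agent.H876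
open F4 (z o w v)
open Cfsg.Agent.SporRec.G24Code (app)

/-- the linear map of a matrix over `F16` on `F4⁶` -/
noncomputable def rlin (A : Matrix (Fin 3) (Fin 3) F16) : Vec →ₗ[F4] Vec :=
  S.toLinearMap ∘ₗ (A.mulVecLin.restrictScalars F4) ∘ₗ S.symm.toLinearMap

theorem rlin_apply (A : Matrix (Fin 3) (Fin 3) F16) (x : Vec) : rlin A x = S (A.mulVec (S.symm x)) := rfl

/-- restriction of scalars -/
noncomputable def rmat : Matrix (Fin 3) (Fin 3) F16 →* Mat where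
  toFun A := LinearMap.toMatrix' (rlin A)
  map_one' := by
    have h : rlin 1 = LinearMap.id := by
      apply LinearMap.ext
      intro x
      rw [rlin_apply, Matrix.one_mulVec, LinearEquiv.apply_symm_apply]
      rfl
    rw [h, LinearMap.toMatrix'_id]
  map_mul' A B := by
    rw [← LinearMap.toMatrix'_comp]
    congr 1
    apply LinearMap.ext
    intro x
    rw [LinearMap.comp_apply, rlin_apply, rlin_apply, rlin_apply, LinearEquiv.symm_apply_apply,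
      Matrix.mulVec_mulVec]

theorem rmat_mulVec (A : Matrix (Fin 3) (Fin 3) F16) (x : Vec) : (rmat A).mulVec x = S (A.mulVec (S.symm x)) := by
  show (LinearMap.toMatrix' (rlin A)).mulVec x = _
  rw [LinearMap.toMatrix'_mulVec]
  rfl

/-- restriction of scalars -/
noncomputable def res : GL (Fin 3) F16 →* GL6 := Units.map rmat

theorem act_res (A : GL (Fin 3) F16) (x : Vec) :
    act (res A) x = S ((A : Matrix (Fin 3) (Fin 3) F16).mulVec (S.symm x)) := rmat_mulVec _ _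

theorem res_injective : Function.Injective res := by
  intro A B h
  apply Units.ext
  apply Matrix.ext
  intro i j
  have h1 : ∀ y : Fin 3 → F16, (A : Matrix (Fin 3) (Fin 3) F16).mulVec y = (B : Matrix (Fin 3) (Fin 3) F16).mulVec y := by
    intro y
    have h2 := congrArg (fun g => act g (S y)) h
    simp only [act_res, LinearEquiv.symm_apply_apply] at h2
    exact S.injective h2
  have h3 := congrFun (h1 (Pi.single j 1)) i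
  simpa using h3

/-- the subgroup of `GL₃(16)` of elements in `G₂(4)` -/
noncomputable def M : Subgroup (GL (Fin 3) F16) := L.comap res

/-- the transvection with centre `u` on `F4⁶`, on the basis vectors -/
def tchk (u : Fin 3 → F16) (c : F16) (wd : Wd) : Bool :=
  (List.range 6).all fun p =>
    decide (S (S.symm (dec (4 ^ p)) + (c * hermForm 3 F16 4 (S.symm (dec (4 ^ p))) u) • u) =
      dec (app (cw wd) (4 ^ p)))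

theorem mem_M_of_tchk {u : Fin 3 → F16} {c : F16} {wd : Wd} (h : tchk u c wd = true) {g : GL (Fin 3) F16}
    (hg : ∀ x, (g : Matrix (Fin 3) (Fin 3) F16) *ᵥ x = x + (c * hermForm 3 F16 4 x u) • u) : g ∈ M := by
  have h1 : res g = ev wd := by
    apply Units.ext
    apply mat_ext
    intro p hp
    have h2 := of_decide_eq_true (List.all_eq_true.1 h p (List.mem_range.2 hp))
    have h3 : ((res g : GL6) : Mat).mulVec (dec (4 ^ p)) = S ((g : Matrix (Fin 3) (Fin 3) F16).mulVec (S.symm (dec (4 ^ p)))) :=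
      act_res g _
    rw [h3, hg, h2]
    exact (isCode_ev wd).spec _ (by interval_cases p <;> norm_num)
  show res g ∈ L
  rw [h1]
  exact ev_mem _

/-- the elements of trace zero -/
theorem c_cases : ∀ c : F16, c + c ^ 4 = 0 → c = 0 ∨ c = 1 ∨ c = ⟨w, z⟩ ∨ c = ⟨v, z⟩ := by decide +kernel

theorem InS_of {u : Fin 3 → F16} (hu : hermForm 3 F16 4 u u = 0) (w1 w2 w3 : Wd) (h1 : tchk u 1 w1 = true)
    (h2 : tchk u ⟨w, z⟩ w2 = true) (h3 : tchk u ⟨v, z⟩ w3 = true) : InS 4 M u := by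
  refine ⟨hu, fun c hc g hg => ?_⟩
  rcases c_cases c hc with rfl | rfl | rfl | rfl
  · have : g = 1 := by
      apply Units.ext
      apply Matrix.ext
      intro i j
      have := congrFun (hg (Pi.single j 1)) i
      simpa [Matrix.one_apply, Pi.single_apply] using this
    rw [this]
    exact M.one_mem
  · exact mem_M_of_tchk h1 hg
  · exact mem_M_of_tchk h2 hg
  · exact mem_M_of_tchk h3 hg

/-- the isotropic points -/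
def PL : List (Fin 3 → F16) := [![⟨z, z⟩, ⟨o, z⟩, ⟨o, z⟩],
  ![⟨z, z⟩, ⟨o, z⟩, ⟨z, w⟩],
  ![⟨o, z⟩, ⟨z, z⟩, ⟨o, v⟩],
  ![⟨z, z⟩, ⟨o, z⟩, ⟨w, w⟩],
  ![⟨z, z⟩, ⟨o, z⟩, ⟨w, v⟩],
  ![⟨z, z⟩, ⟨o, z⟩, ⟨o, v⟩],
  ![⟨o, z⟩, ⟨o, v⟩, ⟨z, z⟩],
  ![⟨o, z⟩, ⟨w, o⟩, ⟨v, w⟩],
  ![⟨o, z⟩, ⟨v, w⟩, ⟨w, o⟩],
  ![⟨o, z⟩, ⟨z, o⟩, ⟨w, o⟩],
  ![⟨o, z⟩, ⟨z, w⟩, ⟨z, z⟩],
  ![⟨o, z⟩, ⟨z, v⟩, ⟨v, w⟩],
  ![⟨o, z⟩, ⟨w, v⟩, ⟨z, z⟩],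
  ![⟨o, z⟩, ⟨o, w⟩, ⟨w, o⟩],
  ![⟨o, z⟩, ⟨v, o⟩, ⟨v, w⟩],
  ![⟨o, z⟩, ⟨v, v⟩, ⟨v, w⟩],
  ![⟨o, z⟩, ⟨w, w⟩, ⟨z, z⟩],
  ![⟨o, z⟩, ⟨o, o⟩, ⟨w, o⟩],
  ![⟨o, z⟩, ⟨o, z⟩, ⟨z, z⟩],
  ![⟨o, z⟩, ⟨v, z⟩, ⟨w, o⟩],
  ![⟨o, z⟩, ⟨w, z⟩, ⟨v, w⟩],
  ![⟨o, z⟩, ⟨z, z⟩, ⟨w, v⟩],
  ![⟨o, z⟩, ⟨v, w⟩, ⟨v, o⟩],
  ![⟨o, z⟩, ⟨w, o⟩, ⟨o, w⟩],
  ![⟨o, z⟩, ⟨z, z⟩, ⟨z, w⟩],
  ![⟨o, z⟩, ⟨v, w⟩, ⟨z, v⟩],
  ![⟨o, z⟩, ⟨w, o⟩, ⟨z, o⟩],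
  ![⟨o, z⟩, ⟨z, z⟩, ⟨o, z⟩],
  ![⟨o, z⟩, ⟨v, w⟩, ⟨w, z⟩],
  ![⟨o, z⟩, ⟨w, o⟩, ⟨v, z⟩],
  ![⟨o, z⟩, ⟨z, z⟩, ⟨w, w⟩],
  ![⟨o, z⟩, ⟨v, w⟩, ⟨v, v⟩],
  ![⟨o, z⟩, ⟨w, o⟩, ⟨o, o⟩],
  ![⟨o, z⟩, ⟨v, o⟩, ⟨v, z⟩],
  ![⟨o, z⟩, ⟨z, o⟩, ⟨v, o⟩],
  ![⟨o, z⟩, ⟨o, o⟩, ⟨v, v⟩],
  ![⟨o, z⟩, ⟨v, z⟩, ⟨w, z⟩],
  ![⟨o, z⟩, ⟨z, v⟩, ⟨o, o⟩],
  ![⟨o, z⟩, ⟨o, w⟩, ⟨z, v⟩],
  ![⟨o, z⟩, ⟨v, o⟩, ⟨o, o⟩],
  ![⟨o, z⟩, ⟨z, o⟩, ⟨z, v⟩],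
  ![⟨o, z⟩, ⟨o, o⟩, ⟨w, z⟩],
  ![⟨o, z⟩, ⟨v, z⟩, ⟨v, v⟩],
  ![⟨o, z⟩, ⟨z, v⟩, ⟨v, z⟩],
  ![⟨o, z⟩, ⟨o, w⟩, ⟨v, o⟩],
  ![⟨o, z⟩, ⟨w, z⟩, ⟨v, z⟩],
  ![⟨o, z⟩, ⟨o, o⟩, ⟨z, v⟩],
  ![⟨o, z⟩, ⟨z, v⟩, ⟨o, w⟩],
  ![⟨o, z⟩, ⟨v, v⟩, ⟨o, o⟩],
  ![⟨o, z⟩, ⟨v, z⟩, ⟨v, o⟩],
  ![⟨o, z⟩, ⟨v, o⟩, ⟨z, o⟩],
  ![⟨o, z⟩, ⟨v, v⟩, ⟨v, z⟩],
  ![⟨o, z⟩, ⟨v, z⟩, ⟨z, v⟩],
  ![⟨o, z⟩, ⟨v, o⟩, ⟨o, w⟩],
  ![⟨o, z⟩, ⟨w, z⟩, ⟨o, o⟩],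
  ![⟨o, z⟩, ⟨o, o⟩, ⟨v, o⟩],
  ![⟨o, z⟩, ⟨z, v⟩, ⟨z, o⟩],
  ![⟨o, z⟩, ⟨w, z⟩, ⟨z, o⟩],
  ![⟨o, z⟩, ⟨w, z⟩, ⟨o, w⟩],
  ![⟨o, z⟩, ⟨o, w⟩, ⟨w, z⟩],
  ![⟨o, z⟩, ⟨v, v⟩, ⟨o, w⟩],
  ![⟨o, z⟩, ⟨z, o⟩, ⟨w, z⟩],
  ![⟨o, z⟩, ⟨z, o⟩, ⟨v, v⟩],
  ![⟨o, z⟩, ⟨o, w⟩, ⟨v, v⟩],
  ![⟨o, z⟩, ⟨v, v⟩, ⟨z, o⟩]]

/-- the point with a given number -/
def P (k : ℕ) : Fin 3 → F16 := PL.getD k 0

/-- parents -/
def par : List (ℕ × ℕ × F16 × F16) := [(1, 0, ⟨w, w⟩, ⟨v, w⟩),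
  (1, 0, ⟨z, o⟩, ⟨o, o⟩),
  (1, 0, ⟨o, w⟩, ⟨z, w⟩),
  (2, 0, ⟨o, z⟩, ⟨o, v⟩),
  (2, 0, ⟨o, z⟩, ⟨w, o⟩),
  (2, 0, ⟨o, z⟩, ⟨v, w⟩),
  (2, 1, ⟨o, z⟩, ⟨z, o⟩),
  (2, 1, ⟨o, z⟩, ⟨z, w⟩),
  (2, 1, ⟨o, z⟩, ⟨z, v⟩),
  (3, 2, ⟨w, v⟩, ⟨o, z⟩),
  (3, 2, ⟨o, w⟩, ⟨o, z⟩),
  (3, 2, ⟨v, o⟩, ⟨o, z⟩),
  (4, 2, ⟨v, v⟩, ⟨o, z⟩),
  (4, 2, ⟨w, w⟩, ⟨o, z⟩),
  (4, 2, ⟨o, o⟩, ⟨o, z⟩),
  (5, 2, ⟨o, z⟩, ⟨o, z⟩),
  (5, 2, ⟨v, z⟩, ⟨o, z⟩),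
  (5, 2, ⟨w, z⟩, ⟨o, z⟩),
  (6, 1, ⟨o, z⟩, ⟨o, v⟩),
  (6, 1, ⟨o, z⟩, ⟨w, o⟩),
  (6, 1, ⟨o, z⟩, ⟨v, w⟩),
  (6, 3, ⟨o, z⟩, ⟨o, v⟩),
  (6, 3, ⟨o, z⟩, ⟨w, o⟩),
  (6, 3, ⟨o, z⟩, ⟨v, w⟩),
  (6, 4, ⟨o, z⟩, ⟨o, v⟩),
  (6, 4, ⟨o, z⟩, ⟨w, o⟩),
  (6, 4, ⟨o, z⟩, ⟨v, w⟩),
  (6, 5, ⟨o, z⟩, ⟨o, v⟩),
  (6, 5, ⟨o, z⟩, ⟨w, o⟩),
  (6, 5, ⟨o, z⟩, ⟨v, w⟩),
  (7, 1, ⟨o, z⟩, ⟨o, z⟩),
  (7, 1, ⟨o, z⟩, ⟨w, z⟩),
  (7, 1, ⟨o, z⟩, ⟨v, z⟩),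
  (7, 3, ⟨o, z⟩, ⟨o, o⟩),
  (7, 3, ⟨o, z⟩, ⟨w, w⟩),
  (7, 3, ⟨o, z⟩, ⟨v, v⟩),
  (7, 4, ⟨o, z⟩, ⟨o, z⟩),
  (7, 4, ⟨o, z⟩, ⟨w, z⟩),
  (7, 4, ⟨o, z⟩, ⟨v, z⟩),
  (7, 5, ⟨o, z⟩, ⟨o, o⟩),
  (7, 5, ⟨o, z⟩, ⟨w, w⟩),
  (7, 5, ⟨o, z⟩, ⟨v, v⟩),
  (8, 1, ⟨o, z⟩, ⟨o, w⟩),
  (8, 1, ⟨o, z⟩, ⟨w, v⟩),
  (8, 1, ⟨o, z⟩, ⟨v, o⟩),
  (8, 3, ⟨o, z⟩, ⟨z, o⟩),
  (8, 3, ⟨o, z⟩, ⟨z, w⟩),
  (8, 3, ⟨o, z⟩, ⟨z, v⟩),
  (8, 4, ⟨o, z⟩, ⟨z, o⟩),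
  (8, 4, ⟨o, z⟩, ⟨z, w⟩),
  (8, 4, ⟨o, z⟩, ⟨z, v⟩),
  (8, 5, ⟨o, z⟩, ⟨o, w⟩),
  (8, 5, ⟨o, z⟩, ⟨w, v⟩),
  (8, 5, ⟨o, z⟩, ⟨v, o⟩),
  (9, 4, ⟨o, z⟩, ⟨w, o⟩),
  (9, 5, ⟨o, z⟩, ⟨w, o⟩),
  (9, 6, ⟨w, v⟩, ⟨v, v⟩),
  (9, 7, ⟨v, o⟩, ⟨w, o⟩),
  (10, 3, ⟨o, z⟩, ⟨z, v⟩),
  (10, 4, ⟨o, z⟩, ⟨z, v⟩),
  (11, 5, ⟨o, z⟩, ⟨o, o⟩),
  (11, 8, ⟨v, o⟩, ⟨w, o⟩)]

/-- check of a point -/
def pchk (k : ℕ) : Bool :=
  let p := par.getD k (0, 0, 0, 0)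
  Nat.blt p.1 (k + 3) && Nat.blt p.2.1 (k + 3) && !(decide (hermForm 3 F16 4 (P p.1) (P p.2.1) = 0)) &&
    decide (P (k + 3) = p.2.2.1 • P p.1 + p.2.2.2 • P p.2.1) && decide (hermForm 3 F16 4 (P (k + 3)) (P (k + 3)) = 0)

theorem pchk_all : ∀ k < 62, pchk k = true := by decide +kernel

theorem InS0 : InS 4 M (P 0) := InS_of (by decide +kernel) [(11, 0)] [(11, 1)] [(11, 2)] (by decide +kernel)
  (by decide +kernel) (by decide +kernel)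

theorem InS1 : InS 4 M (P 1) := InS_of (by decide +kernel) [(0, 1)] [(0, 2)] [(0, 0)] (by decide +kernel)
  (by decide +kernel) (by decide +kernel)

theorem InS2 : InS 4 M (P 2) := InS_of (by decide +kernel)
  [(8, 0), (7, 2), (1, 2), (0, 0), (7, 2), (8, 0)] [(8, 0), (7, 2), (1, 0), (0, 1), (7, 2), (8, 0)]
  [(8, 0), (7, 2), (1, 1), (0, 2), (7, 2), (8, 0)] (by decide +kernel) (by decide +kernel) (by decide +kernel)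

theorem InSP : ∀ k < 65, InS 4 M (P k) := by
  intro k
  induction k using Nat.strong_induction_on with
  | _ k ih =>
    intro hk
    by_cases h0 : k = 0
    · subst h0; exact InS0
    by_cases h1 : k = 1
    · subst h1; exact InS1
    by_cases h2 : k = 2
    · subst h2; exact InS2
    obtain ⟨k, rfl⟩ : ∃ m, k = m + 3 := ⟨k - 3, by omega⟩
    have h := pchk_all k (by omega)
    unfold pchk at h
    simp only [Bool.and_eq_true, Bool.not_eq_true', decide_eq_false_iff_not, decide_eq_true_eq, Nat.blt_eq] at h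
    obtain ⟨⟨⟨⟨h3, h4⟩, h5⟩, h6⟩, h7⟩ := h
    have h8 := InS.line (by rfl) (ih _ h3 (by omega)) (ih _ h4 (by omega)) h5 (par.getD k (0, 0, 0, 0)).2.2.1
      (par.getD k (0, 0, 0, 0)).2.2.2 (by rw [← h6]; exact h7)
    rw [← h6] at h8
    exact h8

/-- every normalised isotropic vector is in the list -/
theorem cover1 : ∀ y t : F16, hermForm 3 F16 4 ![1, y, t] ![1, y, t] = 0 → ∃ k < 65, P k = ![1, y, t] := by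
  decide +kernel
theorem cover2 : ∀ t : F16, hermForm 3 F16 4 ![0, 1, t] ![0, 1, t] = 0 → ∃ k < 65, P k = ![0, 1, t] := by
  decide +kernel
theorem cover3 : hermForm 3 F16 4 ![0, 0, 1] ![0, 0, 1] ≠ 0 := by decide +kernel

theorem InS_all (u : Fin 3 → F16) (hu : hermForm 3 F16 4 u u = 0) : InS 4 M u := by
  have key : ∀ (a : F16) (u' : Fin 3 → F16), a ≠ 0 → u = a • u' → hermForm 3 F16 4 u' u' = 0 := by
    intro a u' ha he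
    rw [he, Cfsg.Agent.LieClassical.HermBasic.herm_smul_left, Cfsg.Agent.LieClassical.HermBasic.herm_smul_right] at hu
    rcases mul_eq_zero.1 hu with h | h
    · exact absurd h ha
    · rcases mul_eq_zero.1 h with h | h
      · exact absurd (eq_zero_of_pow_eq_zero h) ha
      · exact h
  by_cases h0 : u 0 = 0
  · by_cases h1 : u 1 = 0
    · by_cases h2 : u 2 = 0
      · have : u = 0 := by
          funext i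
          fin_cases i
          · exact h0
          · exact h1
          · exact h2
        have h3 := InS.smul (by rfl) InS0 0
        rw [zero_smul] at h3
        rw [this]
        exact h3
      · exfalso
        have he : u = u 2 • ![0, 0, 1] := by
          funext i
          fin_cases i
          · simpa using h0
          · simpa using h1
          · simp
        exact cover3 (key _ _ h2 he)
    · have he : u = u 1 • ![0, 1, u 2 / u 1] := by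
        funext i
        fin_cases i
        · simpa using h0
        · simp
        · simp [mul_div_cancel₀ _ h1]
      obtain ⟨k, hk, hP⟩ := cover2 _ (key _ _ h1 he)
      have h3 := InS.smul (by rfl) (InSP k hk) (u 1)
      rw [hP, ← he] at h3
      exact h3
  · have he : u = u 0 • ![1, u 1 / u 0, u 2 / u 0] := by
      funext i
      fin_cases i
      · simp
      · simp [mul_div_cancel₀ _ h0]
      · simp [mul_div_cancel₀ _ h0]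
    obtain ⟨k, hk, hP⟩ := cover1 _ _ (key _ _ h0 he)
    have h3 := InS.smul (by rfl) (InSP k hk) (u 0)
    rw [hP, ← he] at h3
    exact h3

theorem res_su_mem (A : SU 3 F16 4) : res (suGL 3 F16 4 A) ∈ L :=
  su_le (by rfl) le_rfl (by decide) InS_all (suGL_mem A)

/-- `SU₃(4) → G₂(4)` -/
noncomputable def f : SU 3 F16 4 →* L := (res.comp (suGL 3 F16 4)).codRestrict L res_su_mem

theorem f_injective : Function.Injective f := by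
  intro A B h
  have h1 : res (suGL 3 F16 4 A) = res (suGL 3 F16 4 B) := congrArg Subtype.val h
  have h2 := res_injective h1
  apply Subtype.ext
  exact Matrix.SpecialLinearGroup.toGL_injective h2

theorem act_f (A : SU 3 F16 4) (x : Vec) :
    act (f A : GL6) x = S (Cfsg.Agent.LieClassical.HermSiegel.act A (S.symm x)) := act_res _ _

/-! ### The Frobenius automorphism -/

/-- the Frobenius map on vectors -/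
def fv (u : Fin 3 → F16) : Fin 3 → F16 := fun i => F16.fr (u i)

/-- the Frobenius map on `F4⁶` -/
def gv (x : Vec) : Vec := fun i => K1Psi.fr (x i)

theorem fv_add (u u' : Fin 3 → F16) : fv (u + u') = fv u + fv u' := by
  funext i; exact map_add F16.fr _ _

theorem gv_add (x x' : Vec) : gv (x + x') = gv x + gv x' := by
  funext i; exact map_add K1Psi.fr _ _

theorem gv_gv (x : Vec) : gv (gv x) = x := by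
  funext i; exact K1Psi.fr_fr _

theorem act_sg (g : GL6) (x : Vec) : act (K1Psi.sg g) (gv x) = gv (act g x) := by
  funext i
  show ∑ j, K1Psi.fr ((g : Mat) i j) * K1Psi.fr (x j) = K1Psi.fr (∑ j, (g : Mat) i j * x j)
  rw [map_sum]
  exact Finset.sum_congr rfl fun j _ => (map_mul _ _ _).symm

theorem phi_chk : ∀ (i : Fin 6) (x : F4), S (fv (S.symm (Pi.single i x))) =
    (matOf (xc 11 2)).mulVec ((matOf (xc 7 2)).mulVec (gv (Pi.single i x))) := by decide +kernel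

theorem act_g0w (x : Vec) : act (ev K1Psi.g0w) x = (matOf (xc 11 2)).mulVec ((matOf (xc 7 2)).mulVec x) := by
  have h : ev K1Psi.g0w = gx 11 2 * gx 7 2 := by simp [ev, K1Psi.g0w]
  rw [h, act_mul]
  rfl

theorem phi (x : Vec) : S (fv (S.symm x)) = act (ev K1Psi.g0w) (gv x) := by
  let α : Vec →+ Vec := AddMonoidHom.mk' (fun x => S (fv (S.symm x))) (fun x y => by
    rw [map_add, fv_add, map_add])
  let β : Vec →+ Vec := AddMonoidHom.mk' (fun x => act (ev K1Psi.g0w) (gv x)) (fun x y => by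
    rw [gv_add, act_add])
  have h : α = β := by
    refine AddMonoidHom.functions_ext' _ _ _ fun i => ?_
    ext x : 1
    show S (fv (S.symm (Pi.single i x))) = act (ev K1Psi.g0w) (gv (Pi.single i x))
    rw [act_g0w]
    exact phi_chk i x
  exact DFunLike.congr_fun h x

/-- the Frobenius automorphism of `SU₃(4)` -/
noncomputable def frS : MulAut (SU 3 F16 4) := Cfsg.Agent.ClassicalGeometry.PSUAutCount.semiConj 1 F16.fr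

open Cfsg.Agent.ClassicalGeometry.PSUAutCount in
theorem act_frS (A : SU 3 F16 4) (x : Fin 3 → F16) :
    Cfsg.Agent.LieClassical.HermSiegel.act (frS A) (fv x) = fv (Cfsg.Agent.LieClassical.HermSiegel.act A x) := by
  have h := act_semiConj (1 : Cfsg.GU 3 F16 4) F16.fr A x
  rw [gm_one, Matrix.one_mulVec, Matrix.one_mulVec] at h
  exact h

theorem tau_f (A : SU 3 F16 4) : K1Psi.tau (f A) = f (frS A) := by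
  apply Subtype.ext
  rw [K1Psi.tau_coe, mul_inv_eq_iff_eq_mul]
  apply act_ext
  intro x
  rw [← gv_gv x, act_mul, act_sg, act_mul, ← phi, ← phi, act_f, act_f, LinearEquiv.symm_apply_apply,
    LinearEquiv.symm_apply_apply]
  congr 1
  exact (act_frS A _).symm

end Cfsg.Agent.H931.K1SU
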