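import Cfsg.Agent.H931.K1Red
import Cfsg.Agent.H931.K1SU
import Cfsg.Agent.S1055
import Cfsg.Agent.TwoFusion.U34Sylow

/-!
# The subgroup `SU₃(4)` of `Co₁` and its perfect lift to `Co₀` (helper931)
-/

set_option autoImplicit false

namespace Cfsg.Agent.H931.K1Grp

open Cfsg Cfsg.Agent.SporRec Cfsg.Agent.SporRec.GF4 Cfsg.Agent.StdG24.Mod6 Cfsg.Agent.StdG24.Ord6
  Cfsg.Agent.SporadicA.Co0Basic Cfsg.Agent.CoOneType.CoEval Cfsg.Agent.H931.K1F16 Cfsg.Agent.H931.K1SU
  Cfsg.Agent.H931.K1Psi Cfsg.Agent.H931.K1Red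

/-- the six-dimensional `G₂(4)` is simple -/
theorem simple_L : IsSimpleGroup L := by
  obtain ⟨E⟩ := Cfsg.Agent.StdG24.Iso6.equiv_chev F4 F4.card_F4
  haveI := (Cfsg.Agent.S1055.result (F := F4) ⟨F4.w, by decide, by decide⟩).1
  exact E.isSimpleGroup

theorem pr_eq_iff (g h : Co0) : pr g = pr h ↔ g = h ∨ g = negCo0 * h := by
  constructor
  · intro H
    have h1 : g * h⁻¹ ∈ Subgroup.center Co0 := by
      rw [← QuotientGroup.eq_one_iff]
      show pr (g * h⁻¹) = 1
      rw [pr, map_mul, map_inv]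
      show pr g * (pr h)⁻¹ = 1
      rw [H, mul_inv_cancel]
    rcases eq_one_or_neg_of_mem_center h1 with h2 | h2
    · left; exact mul_inv_eq_one.1 h2
    · right; rw [← h2]; group
  · rintro (rfl | rfl)
    · rfl
    · rw [pr, map_mul]
      show pr negCo0 * pr h = pr h
      rw [pr_neg, one_mul]

/-- the projection as a homomorphism -/
def prH : Co0 →* Spor.Co1 := QuotientGroup.mk' (Subgroup.center Co0)

theorem prH_apply (g : Co0) : prH g = pr g := rfl

theorem prH_surjective : Function.Surjective prH := QuotientGroup.mk'_surjective _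

theorem prH_neg : prH negCo0 = 1 := pr_neg

theorem psi_ne : psi ⟨B 1, B_mem 1⟩ ≠ 1 := by
  rw [psi_B]
  intro h
  have h1 := (pr_eq_iff (K1Co.e 1) 1).1 (h.trans (map_one prH).symm)
  have h2 : (2 : ℚ) ≠ 0 := by norm_num
  have h3 := trace_e1 (F := ℚ) h2
  rcases h1 with h1 | h1
  · rw [h1, rmat_one h2, Matrix.trace_one] at h3
    have : Fintype.card GolayPt = 24 := by decide
    rw [this] at h3
    norm_num at h3
  · rw [h1, mul_one, rmat_neg h2, Matrix.trace_neg, Matrix.trace_one] at h3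
    have : Fintype.card GolayPt = 24 := by decide
    rw [this] at h3
    norm_num at h3

theorem psi_injective : Function.Injective psi := by
  haveI := simple_L
  rw [← MonoidHom.ker_eq_bot_iff]
  rcases IsSimpleGroup.eq_bot_or_eq_top_of_normal psi.ker inferInstance with h | h
  · exact h
  · exfalso
    have h1 : (⟨B 1, B_mem 1⟩ : L) ∈ psi.ker := by rw [h]; trivial
    exact psi_ne h1

/-- `SU₃(4) → Co₁` -/
noncomputable def ph : SU 3 F16 4 →* Spor.Co1 := psi.comp f

theorem ph_injective : Function.Injective ph := psi_injective.comp f_injective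

/-- elements of `Co₀` above `G₂(4)` commute with `I` and `J` -/
theorem comm_of_range : ∀ (l : L) (g : Co0), prH g = psi l →
    g * K1Co.e 8 = K1Co.e 8 * g ∧ g * K1Co.e 9 = K1Co.e 9 * g := by
  have key : ∀ x : GL6, x ∈ Subgroup.closure (Set.range B) → ∀ hx : x ∈ L, ∀ g : Co0, prH g = psi ⟨x, hx⟩ →
      g * K1Co.e 8 = K1Co.e 8 * g ∧ g * K1Co.e 9 = K1Co.e 9 * g := by
    have hneg : ∀ y : Co0, negCo0 * y = y * negCo0 := neg_comm
    have hm : ∀ {g x : Co0}, g * x = x * g → (negCo0 * g) * x = x * (negCo0 * g) := by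
      intro g x h
      rw [mul_assoc, h, ← mul_assoc, hneg, mul_assoc]
    intro x hx
    induction hx using Subgroup.closure_induction with
    | mem x hx =>
      obtain ⟨i, rfl⟩ := hx
      intro _ g hg
      rw [psi_B] at hg
      rcases (pr_eq_iff g (K1Co.e i.val)).1 hg with rfl | rfl
      · exact ⟨comm_I i, comm_J i⟩
      · exact ⟨hm (comm_I i), hm (comm_J i)⟩
    | one =>
      intro hx g hg
      have h1 : psi ⟨1, hx⟩ = 1 := map_one psi
      rw [h1] at hg
      rcases (pr_eq_iff g 1).1 (hg.trans (map_one prH).symm) with rfl | rfl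
      · simp
      · rw [mul_one]; exact ⟨hneg _, hneg _⟩
    | mul a b ha hb iha ihb =>
      intro hx g hg
      rw [closure_B] at ha hb
      obtain ⟨ga, hga⟩ := prH_surjective (psi ⟨a, ha⟩)
      have h1 : prH (ga⁻¹ * g) = psi ⟨b, hb⟩ := by
        rw [map_mul, map_inv, hga, hg]
        have : (⟨a * b, hx⟩ : L) = ⟨a, ha⟩ * ⟨b, hb⟩ := rfl
        rw [this, map_mul, inv_mul_cancel_left]
      obtain ⟨a1, a2⟩ := iha ha ga hga
      obtain ⟨b1, b2⟩ := ihb hb _ h1
      have h3 : g = ga * (ga⁻¹ * g) := by group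
      rw [h3]
      generalize ga⁻¹ * g = gb at *
      refine ⟨?_, ?_⟩
      · rw [mul_assoc, b1, ← mul_assoc, a1, mul_assoc]
      · rw [mul_assoc, b2, ← mul_assoc, a2, mul_assoc]
    | inv a ha iha =>
      intro hx g hg
      rw [closure_B] at ha
      have h1 : prH g⁻¹ = psi ⟨a, ha⟩ := by
        rw [map_inv, hg]
        have : (⟨a⁻¹, hx⟩ : L) = ⟨a, ha⟩⁻¹ := rfl
        rw [this, map_inv, inv_inv]
      obtain ⟨a1, a2⟩ := iha ha _ h1
      exact ⟨(Commute.inv_left_iff.1 a1 : _), (Commute.inv_left_iff.1 a2 : _)⟩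
  rintro ⟨x, hx⟩ g hg
  exact key x (by rw [closure_B]; exact hx) hx g hg

end Cfsg.Agent.H931.K1Grp
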