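import Cfsg.Agent.H931.K1Grp
import Cfsg.Agent.H931.K1Aut
import Cfsg.Agent.H915.LD

/-!
# The perfect lift of `SU₃(4)` to `Co₀` and its action in dimension twelve (helper931)
-/

set_option autoImplicit false

namespace Cfsg.Agent.H931.K1Lift

open Cfsg Cfsg.Geo Cfsg.Agent.SporRec Cfsg.Agent.SporRec.GF4 Cfsg.Agent.StdG24.Mod6 Cfsg.Agent.StdG24.Ord6
  Cfsg.Agent.SporadicA.Co0Basic Cfsg.Agent.CoOneType.CoEval Cfsg.Agent.H931.K1F16 Cfsg.Agent.H931.K1SU
  Cfsg.Agent.H931.K1Psi Cfsg.Agent.H931.K1Red Cfsg.Agent.H931.K1Grp Cfsg.Agent.H931.K1Aut Cfsg.Agent.H931.K1Quat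
  Cfsg.Agent.H915.LD
open scoped commutatorElement

/-! ### A transvection -/

theorem res_of_tchk {u : Fin 3 → F16} {c : F16} {wd : Wd} (h : tchk u c wd = true) {g : GL (Fin 3) F16}
    (hg : ∀ x, (g : Matrix (Fin 3) (Fin 3) F16).mulVec x = x + (c * hermForm 3 F16 4 x u) • u) : res g = ev wd := by
  apply Units.ext
  apply mat_ext
  intro p hp
  have h2 := of_decide_eq_true (List.all_eq_true.1 h p (List.mem_range.2 hp))
  have h3 : ((res g : GL6) : Mat).mulVec (dec (4 ^ p)) = S ((g : Matrix (Fin 3) (Fin 3) F16).mulVec (S.symm (dec (4 ^ p)))) :=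
    act_res g _
  rw [h3, hg, h2]
  exact (isCode_ev wd).spec _ (by interval_cases p <;> norm_num)

/-- the element of `SU₃(4)` mapped to the letter `B 1` -/
theorem exists_A1 : ∃ A : SU34, f A = ⟨B 1, B_mem 1⟩ := by
  have h0 : (1 : F16) + 1 ^ 4 = 0 := by decide +kernel
  obtain ⟨A, hA⟩ := Cfsg.Agent.H876.exists_suGL_eq
    (Cfsg.Agent.H876.uGL_mem (F := F16) (q := 4) (by rfl) (v := P 0) (c := 1) InS0.1 h0)
  refine ⟨A, Subtype.ext ?_⟩
  show res (Cfsg.Agent.H876.suGL 3 F16 4 A) = B 1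
  have hB : B 1 = ev [(11, 0)] := rfl
  rw [hB]
  refine res_of_tchk (u := P 0) (c := 1) (by decide +kernel) fun x => ?_
  rw [hA]
  exact Cfsg.Agent.H876.uGL_mulVec _ _ _ _

/-! ### The lift -/

/-- the preimage of `SU₃(4)` in `Co₀` -/
noncomputable def St : Subgroup Co0 := (ph.range).comap prH

theorem mem_St {g : Co0} : g ∈ St ↔ ∃ A, ph A = prH g := Iff.rfl

theorem neg_mem_St : negCo0 ∈ St := ⟨1, by rw [map_one, prH_neg]⟩

/-- its commutator subgroup -/
noncomputable def Dd : Subgroup Co0 := ⁅St, St⁆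

theorem Dd_le : Dd ≤ St := Subgroup.commutator_le_self _

theorem prH_eq_iff (g h : Co0) : prH g = prH h ↔ g = h ∨ g = negCo0 * h := pr_eq_iff g h

theorem exists_lift (A : SU34) : ∃ g ∈ Dd, prH g = ph A := by
  have h1 : Dd.map prH = ph.range := by
    have h2 : St.map prH = ph.range := Subgroup.map_comap_eq_self_of_surjective prH_surjective _
    unfold Dd
    rw [Subgroup.map_commutator, h2, MonoidHom.range_eq_map, ← Subgroup.map_commutator]
    have h3 : ⁅(⊤ : Subgroup SU34), (⊤ : Subgroup SU34)⁆ = ⊤ := perfect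
    rw [h3]
  have h4 : ph A ∈ Dd.map prH := by rw [h1]; exact ⟨A, rfl⟩
  obtain ⟨g, hg, he⟩ := h4
  exact ⟨g, hg, he⟩

theorem exists_fac {x : Co0} (hx : x ∈ St) : ∃ d ∈ Dd, x = d ∨ x = negCo0 * d := by
  obtain ⟨A, hA⟩ := hx
  obtain ⟨d, hd, he⟩ := exists_lift A
  exact ⟨d, hd, (prH_eq_iff x d).1 (by rw [← hA, he])⟩

theorem comm_neg_left (x y : Co0) : ⁅negCo0 * x, y⁆ = ⁅x, y⁆ := by
  rw [commutatorElement_def, commutatorElement_def, mul_inv_rev]
  have h : negCo0⁻¹ = negCo0 := inv_eq_of_mul_eq_one_left neg_sq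
  rw [h]
  calc negCo0 * x * y * (x⁻¹ * negCo0) * y⁻¹ = negCo0 * (x * y * x⁻¹) * negCo0 * y⁻¹ := by simp only [mul_assoc]
    _ = x * y * x⁻¹ * y⁻¹ := by rw [neg_comm, mul_assoc (x * y * x⁻¹), neg_sq, mul_one]

theorem comm_neg_right (x y : Co0) : ⁅x, negCo0 * y⁆ = ⁅x, y⁆ := by
  rw [← commutatorElement_inv, comm_neg_left, commutatorElement_inv]

theorem Dd_perfect : ⁅Dd, Dd⁆ = Dd := by
  apply le_antisymm (Subgroup.commutator_le_self _)
  conv_lhs => unfold Dd
  rw [Subgroup.commutator_le]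
  intro x hx y hy
  obtain ⟨d, hd, h1⟩ := exists_fac hx
  obtain ⟨d', hd', h1'⟩ := exists_fac hy
  have h2 : ⁅x, y⁆ = ⁅d, d'⁆ := by
    rcases h1 with rfl | rfl
    · rcases h1' with rfl | rfl
      · rfl
      · exact comm_neg_right _ _
    · rcases h1' with rfl | rfl
      · exact comm_neg_left _ _
      · rw [comm_neg_left, comm_neg_right]
  rw [h2]
  exact Subgroup.commutator_mem_commutator hd hd'

/-- the centraliser of `I, J` in `Co₀` -/
def Cq : Subgroup Co0 where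
  carrier := {g | g * K1Co.e 8 = K1Co.e 8 * g ∧ g * K1Co.e 9 = K1Co.e 9 * g}
  one_mem' := by constructor <;> rw [one_mul, mul_one]
  mul_mem' := by
    rintro x y ⟨hx1, hx2⟩ ⟨hy1, hy2⟩
    refine ⟨?_, ?_⟩
    · rw [mul_assoc, hy1, ← mul_assoc, hx1, mul_assoc]
    · rw [mul_assoc, hy2, ← mul_assoc, hx2, mul_assoc]
  inv_mem' := by
    rintro x ⟨hx1, hx2⟩
    exact ⟨(Commute.inv_left_iff.2 (hx1 : Commute _ _) : _), (Commute.inv_left_iff.2 (hx2 : Commute _ _) : _)⟩

/-- the preimage of `G₂(4)` -/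
noncomputable def G6 : Subgroup Co0 := (psi.range).comap prH

theorem G6_le : G6 ≤ Cq := by
  rintro g ⟨l, hl⟩
  exact comm_of_range l g hl.symm

theorem St_le : St ≤ G6 := by
  rintro g ⟨A, hA⟩
  exact ⟨f A, hA⟩

theorem Dd_le_Cq : Dd ≤ Cq := Dd_le.trans (St_le.trans G6_le)

/-! ### The representation -/

section rep

variable {F : Type*} [Field F] {ι : Type} [Fintype ι] [DecidableEq ι]

/-- the data of the twelve-dimensional module -/
structure Dt (F : Type*) [Field F] (ι : Type) [Fintype ι] [DecidableEq ι] where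
  /-- characteristic not two -/
  h2 : (2 : F) ≠ 0
  /-- a field element -/
  a : F
  /-- a field element -/
  b : F
  /-- the relation -/
  hab : a * a + b * b = -1
  /-- the inclusion -/
  T : Matrix GolayPt ι F
  /-- the projection -/
  R : Matrix ι GolayPt F
  /-- they compose to the identity -/
  hRT : R * T = 1
  /-- they factorise the idempotent -/
  hTR : T * R = Pm (Im F) (Jm F) a b

theorem exists_sq_add_sq [Finite F] (h2 : (2 : F) ≠ 0) : ∃ a b : F, a * a + b * b = -1 := by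
  have := Fintype.ofFinite F
  have h3 : Polynomial.degree (Polynomial.X ^ 2 : Polynomial F) = 2 := Polynomial.degree_X_pow 2
  have h4 : Polynomial.degree (Polynomial.X ^ 2 + 1 : Polynomial F) = 2 := by
    have := Polynomial.degree_X_pow_add_C (R := F) (n := 2) (by norm_num) 1
    simpa using this
  have hodd : Fintype.card F % 2 = 1 := by
    apply FiniteField.odd_card_of_char_ne_two
    intro hc
    apply h2
    have : CharP F 2 := ringChar.of_eq hc
    exact_mod_cast CharP.cast_eq_zero F 2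
  obtain ⟨a, b, h⟩ := FiniteField.exists_root_sum_quadratic h3 h4 hodd
  refine ⟨a, b, ?_⟩
  simp only [Polynomial.eval_pow, Polynomial.eval_X, Polynomial.eval_add, Polynomial.eval_one] at h
  linear_combination h

theorem exists_Dt [Finite F] (h2 : (2 : F) ≠ 0) (hι : Fintype.card ι = 12) : Nonempty (Dt F ι) := by
  obtain ⟨a, b, hab⟩ := exists_sq_add_sq h2
  have hc : 2 * Fintype.card ι = Fintype.card GolayPt := by
    rw [hι]; decide
  obtain ⟨T, R, h1, h3⟩ := K1Quat.exists_factor h2 (quat h2) hab hc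
  exact ⟨⟨h2, a, b, hab, T, R, h1, h3⟩⟩

theorem rho_mem (h2 : (2 : F) ≠ 0) {g : Co0} (hg : g ∈ Cq) : rho h2 g ∈ Z (Im F) (Jm F) := by
  refine ⟨?_, ?_⟩
  · rw [rho_val, K1Red.Im, ← rmat_mul h2, hg.1, rmat_mul h2]
  · rw [rho_val, K1Red.Jm, ← rmat_mul h2, hg.2, rmat_mul h2]

/-- the restriction of `rho` -/
noncomputable def rZ (h2 : (2 : F) ≠ 0) : Cq →* Z (Im F) (Jm F) :=
  ((rho h2).comp Cq.subtype).codRestrict _ fun g => rho_mem h2 g.2

/-- the representation of degree twelve -/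
noncomputable def rr (D : Dt F ι) : Cq →* GL ι F := (rW D.hTR D.hRT).comp (rZ D.h2)

theorem rr_val (D : Dt F ι) (g : Cq) : ((rr D g : GL ι F) : Matrix ι ι F) = D.R * rmat F g.1 * D.T := rfl

theorem neg_mem_Cq : negCo0 ∈ Cq := ⟨neg_comm _, neg_comm _⟩

theorem rr_neg (D : Dt F ι) : ((rr D ⟨negCo0, neg_mem_Cq⟩ : GL ι F) : Matrix ι ι F) = (-1 : F) • 1 := by
  rw [rr_val, rmat_neg D.h2, Matrix.mul_neg, Matrix.mul_one, Matrix.neg_mul, D.hRT, neg_smul, one_smul]

theorem e1_mem : K1Co.e 1 ∈ Cq := ⟨comm_I 1, comm_J 1⟩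

theorem rr_e1 (D : Dt F ι) (c : F) : ((rr D ⟨K1Co.e 1, e1_mem⟩ : GL ι F) : Matrix ι ι F) ≠ c • 1 := by
  intro h
  rw [rr_val] at h
  have hm := rho_mem D.h2 e1_mem
  have h1 := eq_smul_of_r D.h2 (quat D.h2) D.hab D.hTR D.hRT hm.1 hm.2 h
  rw [rho_val] at h1
  have h3 := trace_e1 D.h2
  have h4 := rmat_orth D.h2 (K1Co.e 1)
  rw [h1] at h3 h4
  rw [Matrix.trace_smul, Matrix.trace_one] at h3
  have : Fintype.card GolayPt = 24 := by decide
  rw [this, smul_eq_mul] at h3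
  push_cast at h3
  rw [Matrix.transpose_smul, Matrix.transpose_one, smul_mul_smul_comm, one_mul] at h4
  obtain ⟨i⟩ : Nonempty GolayPt := Fintype.card_pos_iff.1 (by rw [this]; norm_num)
  have h5 := congrFun (congrFun h4 i) i
  rw [Matrix.smul_apply, Matrix.one_apply_eq, smul_eq_mul, mul_one] at h5
  have h6 : (2 : F) ^ 9 = 0 := by
    have : (c * 24) ^ 2 = (-8) ^ 2 := by rw [h3]
    have h7 : (c * 24) ^ 2 = (c * c) * 576 := by ring
    rw [h7, h5] at this
    linear_combination this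
  exact D.h2 (pow_eq_zero_iff (by norm_num) |>.1 h6)

/-- elements above `G₂(4)` acting as scalars -/
theorem prH_of_scalar (D : Dt F ι) {x : Cq} (hx : prH x.1 ∈ psi.range) (hs : rr D x ∈ scalars ι F) :
    prH x.1 = 1 := by
  let N : Subgroup L :=
    { carrier := {l | ∃ x : Cq, prH x.1 = psi l ∧ rr D x ∈ scalars ι F}
      one_mem' := ⟨1, by rw [map_one]; rfl, by rw [map_one]; exact one_mem _⟩
      mul_mem' := by
        rintro a b ⟨x, h1, h2⟩ ⟨y, h3, h4⟩
        exact ⟨x * y, by rw [Subgroup.coe_mul, map_mul, map_mul, h1, h3], by rw [map_mul]; exact mul_mem h2 h4⟩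
      inv_mem' := by
        rintro a ⟨x, h1, h2⟩
        exact ⟨x⁻¹, by rw [Subgroup.coe_inv, map_inv, map_inv, h1], by rw [map_inv]; exact inv_mem h2⟩ }
  have hN : N.Normal := by
    constructor
    rintro n ⟨x, h1, h2⟩ g
    obtain ⟨y, hy⟩ := prH_surjective (psi g)
    have hyC : y ∈ Cq := comm_of_range g y hy
    refine ⟨⟨y, hyC⟩ * x * ⟨y, hyC⟩⁻¹, ?_, ?_⟩
    · show prH (y * x.1 * y⁻¹) = _
      rw [map_mul, map_mul, map_inv, map_mul, map_mul, map_inv, h1, hy]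
    · rw [map_mul, map_mul, map_inv]
      obtain ⟨c, hc⟩ := (mem_scalars_iff _).1 h2
      refine (mem_scalars_iff _).2 ⟨c, ?_⟩
      rw [Units.val_mul, Units.val_mul, hc, Matrix.mul_smul, Matrix.mul_one, Matrix.smul_mul, Units.mul_inv]
  obtain ⟨l, hl⟩ := hx
  have hmem : l ∈ N := ⟨x, hl.symm, hs⟩
  have := simple_L
  rcases IsSimpleGroup.eq_bot_or_eq_top_of_normal N hN with h | h
  · rw [h, Subgroup.mem_bot] at hmem
    rw [← hl, hmem, map_one]
  · exfalso
    have h1 : (⟨B 1, B_mem 1⟩ : L) ∈ N := by rw [h]; trivial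
    obtain ⟨y, hy, hys⟩ := h1
    rw [psi_B] at hy
    obtain ⟨c, hc⟩ := (mem_scalars_iff _).1 hys
    rcases (pr_eq_iff y.1 (K1Co.e 1)).1 hy with h3 | h3
    · have : y = ⟨K1Co.e 1, e1_mem⟩ := Subtype.ext h3
      rw [this] at hc
      exact rr_e1 D _ hc
    · have : y = ⟨negCo0, neg_mem_Cq⟩ * ⟨K1Co.e 1, e1_mem⟩ := Subtype.ext h3
      rw [this, map_mul, Units.val_mul, rr_neg, Matrix.smul_mul, Matrix.one_mul] at hc
      refine rr_e1 D (-c) ?_
      rw [neg_smul, ← hc, neg_smul, one_smul, neg_neg]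

end rep

end Cfsg.Agent.H931.K1Lift
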