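import Cfsg.Agent.H931.K1Big
import Cfsg.Agent.H920.Trace
import Cfsg.Agent.H920.SympA
import Cfsg.Agent.H955.Sp

/-!
# `U₃(4)` in `Sp₁₂(p)` is not maximal (helper931)
-/

set_option autoImplicit false
set_option maxRecDepth 20000

namespace Cfsg.Agent.H931.K1Main

open Cfsg Cfsg.Geo Matrix Cfsg.Agent.SporadicA.Co0Basic Cfsg.Agent.H931.K1Red Cfsg.Agent.H931.K1Quat
  Cfsg.Agent.H931.K1Lift Cfsg.Agent.H931.K1Core Cfsg.Agent.H931.K1Big Cfsg.Agent.H931.K1Grp Cfsg.Agent.H931.K1Aut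
  Cfsg.Agent.H931.K1SU Cfsg.Agent.H931.K1F16 Cfsg.Agent.H931.K1Norm

section rep

variable {F : Type*} [Field F] {ι : Type} [Fintype ι] [DecidableEq ι]

/-- the lift of `SU₃(4)` -/
noncomputable def lam (hneg : negCo0 ∉ Dd) : SU34 ≃* X :=
  (MulEquiv.ofBijective th ⟨th_injective hneg, th_surjective⟩).symm

theorem th_lam (hneg : negCo0 ∉ Dd) (A : SU34) : th (lam hneg A) = A :=
  (MulEquiv.ofBijective th ⟨th_injective hneg, th_surjective⟩).apply_symm_apply A

theorem lam_th (hneg : negCo0 ∉ Dd) (x : X) : lam hneg (th x) = x :=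
  (MulEquiv.ofBijective th ⟨th_injective hneg, th_surjective⟩).symm_apply_apply x

/-- the representation of `SU₃(4)` in the model -/
noncomputable def rp (D : Dt F ι) (hneg : negCo0 ∉ Dd) : SU34 →* GL ι F :=
  (rr D).comp (X.subtype.comp (lam hneg).toMonoidHom)

theorem rp_apply (D : Dt F ι) (hneg : negCo0 ∉ Dd) (A : SU34) : rp D hneg A = rr D (lam hneg A).1 := rfl

theorem rp_th (D : Dt F ι) (hneg : negCo0 ∉ Dd) (x : X) : rp D hneg (th x) = rr D x.1 := by
  rw [rp_apply, lam_th]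

theorem rp_range (D : Dt F ι) (hneg : negCo0 ∉ Dd) : (rp D hneg).range = Pp D := by
  ext g
  constructor
  · rintro ⟨A, rfl⟩
    exact ⟨(lam hneg A).1, (lam hneg A).2, rfl⟩
  · rintro ⟨x, hx, rfl⟩
    exact ⟨th ⟨x, hx⟩, rp_th D hneg ⟨x, hx⟩⟩

theorem rp_mem_MW (D : Dt F ι) (hneg : negCo0 ∉ Dd) (A : SU34) : rp D hneg A ∈ MW D := rr_mem D _

theorem Nn_rp (D : Dt F ι) (hneg : negCo0 ∉ Dd) (A : SU34) :
    Nn D * rp D hneg A * (Nn D)⁻¹ = rp D hneg (frS A) := by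
  set x : X := lam hneg A with hx
  have h1 : K1Co.e 6 * x.1.1 * (K1Co.e 6)⁻¹ ∈ Dd := e6_Dd x.2
  let y : X := ⟨⟨K1Co.e 6 * x.1.1 * (K1Co.e 6)⁻¹, Dd_le_Cq h1⟩, h1⟩
  have h2 : th y = frS A := by
    apply ph_injective
    rw [ph_th]
    show prH (K1Co.e 6 * x.1.1 * (K1Co.e 6)⁻¹) = K1Psi.psi (f (frS A))
    rw [map_mul, map_mul, map_inv, ← ph_th, hx, th_lam, ← tau_f, ← K1Psi.psi_tau]
    rfl
  rw [← h2, rp_th, rp_apply, ← hx]
  exact Nn_conj D x.1 y.1 rfl

theorem Nn_pow_rp (D : Dt F ι) (hneg : negCo0 ∉ Dd) (i : ℕ) (A : SU34) :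
    Nn D ^ i * rp D hneg A * (Nn D ^ i)⁻¹ = rp D hneg ((frS ^ i : MulAut SU34) A) := by
  induction i generalizing A with
  | zero => simp
  | succ i ih =>
    have h1 : (frS ^ (i + 1) : MulAut SU34) A = (frS ^ i : MulAut SU34) (frS A) := by
      rw [pow_succ]; rfl
    rw [h1, ← ih, ← Nn_rp, pow_succ]
    group

end rep

/-! ### The form -/

section form

variable {F : Type*} [Field F]

/-- the index type -/
abbrev I12 := Fin 6 ⊕ Fin 6

theorem mem_sp_iff {g : GL I12 F} : g ∈ spGL 6 F ↔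
    (g : Matrix I12 I12 F)ᵀ * Matrix.J (Fin 6) F * (g : Matrix I12 I12 F) = Matrix.J (Fin 6) F := by
  have h1 : ∀ u v : I12 → F, sympForm 6 F ((g : Matrix I12 I12 F) *ᵥ u) ((g : Matrix I12 I12 F) *ᵥ v) =
      u ⬝ᵥ (((g : Matrix I12 I12 F)ᵀ * Matrix.J (Fin 6) F * (g : Matrix I12 I12 F)) *ᵥ v) := by
    intro u v
    show ((g : Matrix I12 I12 F) *ᵥ u) ⬝ᵥ (Matrix.J (Fin 6) F *ᵥ ((g : Matrix I12 I12 F) *ᵥ v)) = _
    rw [Matrix.mul_assoc, ← Matrix.mulVec_mulVec, Matrix.dotProduct_mulVec u, Matrix.vecMul_transpose,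
      Matrix.mulVec_mulVec]
  constructor
  · intro h
    ext i j
    have h2 := h1 (Pi.single i 1) (Pi.single j 1)
    have h3 : sympForm 6 F ((g : Matrix I12 I12 F) *ᵥ Pi.single i 1) ((g : Matrix I12 I12 F) *ᵥ Pi.single j 1) =
      sympForm 6 F (Pi.single i 1) (Pi.single j 1) := h _ _
    rw [h3] at h2
    have h4 : sympForm 6 F (Pi.single i 1) (Pi.single j 1) =
      (Pi.single i 1 : I12 → F) ⬝ᵥ (Matrix.J (Fin 6) F *ᵥ Pi.single j 1) := rfl
    rw [h4] at h2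
    simp only [Matrix.mulVec_single_one, single_one_dotProduct, Matrix.col_apply] at h2
    exact h2.symm
  · intro h u v
    show sympForm 6 F ((g : Matrix I12 I12 F) *ᵥ u) ((g : Matrix I12 I12 F) *ᵥ v) = _
    rw [h1, h]
    rfl

theorem form_eq {P : Subgroup (GL I12 F)} (ha : ActsAbsolutelyIrreducibly (matrixSet P)) (hP : P ≤ spGL 6 F)
    {B : Matrix I12 I12 F} (hB : ∀ x ∈ P, (x : Matrix I12 I12 F)ᵀ * B * (x : Matrix I12 I12 F) = B) :
    ∃ c : F, B = c • Matrix.J (Fin 6) F := by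
  have hJJ : Matrix.J (Fin 6) F * -Matrix.J (Fin 6) F = 1 := by
    rw [mul_neg, Matrix.J_squared, neg_neg]
  have hJJ' : -Matrix.J (Fin 6) F * Matrix.J (Fin 6) F = 1 := by
    rw [neg_mul, Matrix.J_squared, neg_neg]
  have h1 : ∀ s ∈ matrixSet P, (-Matrix.J (Fin 6) F * B) * s = s * (-Matrix.J (Fin 6) F * B) := by
    rintro _ ⟨x, hx, rfl⟩
    show (-Matrix.J (Fin 6) F * B) * (x : Matrix I12 I12 F) = (x : Matrix I12 I12 F) * (-Matrix.J (Fin 6) F * B)
    have h2 := mem_sp_iff.1 (hP hx)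
    have h3 := hB x hx
    have h4 : (-Matrix.J (Fin 6) F * (x : Matrix I12 I12 F)ᵀ * Matrix.J (Fin 6) F) * (x : Matrix I12 I12 F) = 1 := by
      calc _ = -Matrix.J (Fin 6) F * ((x : Matrix I12 I12 F)ᵀ * Matrix.J (Fin 6) F * (x : Matrix I12 I12 F)) := by
            simp only [Matrix.mul_assoc]
        _ = 1 := by rw [h2, hJJ']
    have h5 := mul_eq_one_comm.1 h4
    have h6 : (x : Matrix I12 I12 F) * -Matrix.J (Fin 6) F * (x : Matrix I12 I12 F)ᵀ = -Matrix.J (Fin 6) F := by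
      calc (x : Matrix I12 I12 F) * -Matrix.J (Fin 6) F * (x : Matrix I12 I12 F)ᵀ =
          ((x : Matrix I12 I12 F) * (-Matrix.J (Fin 6) F * (x : Matrix I12 I12 F)ᵀ * Matrix.J (Fin 6) F)) *
            -Matrix.J (Fin 6) F := by
            simp only [Matrix.mul_assoc]
            rw [hJJ, Matrix.mul_one]
        _ = -Matrix.J (Fin 6) F := by rw [h5, Matrix.one_mul]
    symm
    calc (x : Matrix I12 I12 F) * (-Matrix.J (Fin 6) F * B) =
        (x : Matrix I12 I12 F) * -Matrix.J (Fin 6) F * (x : Matrix I12 I12 F)ᵀ * B * (x : Matrix I12 I12 F) := by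
          conv_lhs => rw [← h3]
          simp only [Matrix.mul_assoc]
      _ = _ := by rw [h6]
  obtain ⟨c, hc⟩ := ha.2 _ h1
  refine ⟨c, ?_⟩
  calc B = Matrix.J (Fin 6) F * -Matrix.J (Fin 6) F * B := by rw [hJJ, Matrix.one_mul]
    _ = c • Matrix.J (Fin 6) F := by rw [Matrix.mul_assoc, hc, Matrix.mul_smul, Matrix.mul_one]

/-- the transported form -/
noncomputable def Bj (D : Dt F I12) (J0 : GL I12 F) : Matrix I12 I12 F :=
  (J0 : Matrix I12 I12 F)ᵀ * Bf (K1Red.Im F) (K1Red.Jm F) D.a D.b D.T * (J0 : Matrix I12 I12 F)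

theorem Bj_inv (D : Dt F I12) (J0 : GL I12 F) (g : Cq) :
    ((J0⁻¹ * rr D g * J0 : GL I12 F) : Matrix I12 I12 F)ᵀ * Bj D J0 *
      ((J0⁻¹ * rr D g * J0 : GL I12 F) : Matrix I12 I12 F) = Bj D J0 := by
  set r : Matrix I12 I12 F := ((rr D g : GL I12 F) : Matrix I12 I12 F) with hr
  set x : Matrix I12 I12 F := ((J0⁻¹ * rr D g * J0 : GL I12 F) : Matrix I12 I12 F) with hx
  have h1 : (J0 : Matrix I12 I12 F) * x = r * J0 := by
    rw [hx, hr, ← Units.val_mul, ← Units.val_mul]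
    congr 1
    group
  have h2 : rᵀ * Bf (K1Red.Im F) (K1Red.Jm F) D.a D.b D.T * r = Bf (K1Red.Im F) (K1Red.Jm F) D.a D.b D.T := by
    have hm := rho_mem D.h2 g.2
    exact Bf_inv D.hTR D.hRT hm.1 hm.2 (rmat_orth D.h2 g.1)
  unfold Bj
  calc xᵀ * ((J0 : Matrix I12 I12 F)ᵀ * Bf (K1Red.Im F) (K1Red.Jm F) D.a D.b D.T * (J0 : Matrix I12 I12 F)) * x =
      ((J0 : Matrix I12 I12 F) * x)ᵀ * Bf (K1Red.Im F) (K1Red.Jm F) D.a D.b D.T * ((J0 : Matrix I12 I12 F) * x) := by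
        rw [Matrix.transpose_mul]
        simp only [Matrix.mul_assoc]
    _ = (J0 : Matrix I12 I12 F)ᵀ * (rᵀ * Bf (K1Red.Im F) (K1Red.Jm F) D.a D.b D.T * r) * (J0 : Matrix I12 I12 F) := by
        rw [h1, Matrix.transpose_mul]
        simp only [Matrix.mul_assoc]
    _ = _ := by rw [h2]

theorem Bj_ne (D : Dt F I12) (J0 : GL I12 F) : Bj D J0 ≠ 0 := by
  intro h
  have h1 : Bf (K1Red.Im F) (K1Red.Jm F) D.a D.b D.T = 0 := by
    have h2 : ((J0⁻¹ : GL I12 F) : Matrix I12 I12 F)ᵀ * Bj D J0 * ((J0⁻¹ : GL I12 F) : Matrix I12 I12 F) =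
        Bf (K1Red.Im F) (K1Red.Jm F) D.a D.b D.T := by
      have h3 : ((J0⁻¹ : GL I12 F) : Matrix I12 I12 F)ᵀ * (J0 : Matrix I12 I12 F)ᵀ = 1 := by
        rw [← Matrix.transpose_mul, ← Units.val_mul, mul_inv_cancel, Units.val_one, Matrix.transpose_one]
      have h4 : (J0 : Matrix I12 I12 F) * ((J0⁻¹ : GL I12 F) : Matrix I12 I12 F) = 1 := by
        rw [← Units.val_mul, mul_inv_cancel, Units.val_one]
      unfold Bj
      calc _ = ((J0⁻¹ : GL I12 F) : Matrix I12 I12 F)ᵀ * (J0 : Matrix I12 I12 F)ᵀ *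
            Bf (K1Red.Im F) (K1Red.Jm F) D.a D.b D.T *
            ((J0 : Matrix I12 I12 F) * ((J0⁻¹ : GL I12 F) : Matrix I12 I12 F)) := by
              simp only [Matrix.mul_assoc]
        _ = _ := by rw [h3, h4, Matrix.one_mul, Matrix.mul_one]
    rw [← h2, h, Matrix.mul_zero, Matrix.zero_mul]
  have h5 := Bf_unit D.h2 (quat D.h2) D.hab (Im_transpose D.h2) (Jm_transpose D.h2) D.hTR D.hRT
  rw [h1, Matrix.zero_mul] at h5
  have h6 := congrFun (congrFun h5 (Sum.inl 0)) (Sum.inl 0)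
  rw [Matrix.one_apply_eq] at h6
  exact zero_ne_one h6

end form

/-! ### The final argument -/

section final

variable {F : Type*} [Field F]

theorem card_sp_gt [Finite F] (h3 : 3 ≤ Nat.card F) :
    8315553613086720000 * Nat.card F ^ 4 < Nat.card (spGL 6 F) := by
  rw [Cfsg.Agent.H955.card_spGL]
  set q := Nat.card F with hq
  have h1 : ∀ i : ℕ, 1 ≤ q ^ (2 * (i + 1)) - 1 := by
    intro i
    have : 2 ≤ q ^ (2 * (i + 1)) := by
      calc 2 ≤ 3 := by norm_num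
        _ ≤ q := h3
        _ ≤ q ^ (2 * (i + 1)) := Nat.le_self_pow (by omega) q
    omega
  have h2 : ∀ i : ℕ, q ^ (2 * i + 1) ≤ q ^ (2 * (i + 1)) - 1 := by
    intro i
    have h4 : q ^ (2 * (i + 1)) = q ^ (2 * i + 1) * q := by
      rw [← pow_succ]; ring_nf
    have h5 : 1 ≤ q ^ (2 * i + 1) := Nat.one_le_pow _ _ (by omega)
    rw [h4]
    have h6 : q ^ (2 * i + 1) * 3 ≤ q ^ (2 * i + 1) * q := Nat.mul_le_mul_left _ h3
    omega
  have h4 : q ^ 36 ≤ ∏ i ∈ Finset.range 6, (q ^ (2 * (i + 1)) - 1) := by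
    calc q ^ 36 = ∏ i ∈ Finset.range 6, q ^ (2 * i + 1) := by
          rw [Finset.prod_pow_eq_pow_sum]
          rfl
      _ ≤ _ := Finset.prod_le_prod' fun i _ => h2 i
  have h5 : 8315553613086720000 < q ^ 68 := by
    calc 8315553613086720000 < 3 ^ 68 := by norm_num
      _ ≤ q ^ 68 := Nat.pow_le_pow_left h3 _
  calc 8315553613086720000 * q ^ 4 < q ^ 68 * q ^ 4 := Nat.mul_lt_mul_of_pos_right h5 (by positivity)
    _ = q ^ (6 ^ 2) * q ^ 36 := by rw [← pow_add, ← pow_add]; norm_num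
    _ ≤ _ := Nat.mul_le_mul_left _ h4

theorem main [Finite F] {H P : Subgroup (GL I12 F)} (hH : IsMaximalIn (spGL 6 F) H) (hR : IsResidualCore H P)
    (D : Dt F I12) (hneg : negCo0 ∉ Dd) (ρ : SU34 →* GL I12 F) (hρ : ρ.range = P) (hinj : Function.Injective ρ)
    (J0 : GL I12 F) (hJ : ∀ A, rp D hneg A = J0 * ρ A * J0⁻¹) : False := by
  have hJ' : ∀ A, ρ A = J0⁻¹ * rp D hneg A * J0 := by
    intro A
    rw [hJ]; group
  have h3 : 3 ≤ Nat.card F := by
    have := Fintype.ofFinite F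
    rw [Nat.card_eq_fintype_card]
    have h2 : 2 ≤ Fintype.card F := Fintype.one_lt_card
    rcases h2.lt_or_eq with h | h
    · exact h
    · exfalso
      apply D.h2
      have := FiniteField.cast_card_eq_zero F
      rw [← h] at this
      exact_mod_cast this
  -- the overgroup
  let M1 : Subgroup (GL I12 F) := spGL 6 F ⊓ (MW D).comap (MulAut.conj J0).toMonoidHom
  have hM1 : ∀ x, x ∈ M1 ↔ x ∈ spGL 6 F ∧ J0 * x * J0⁻¹ ∈ MW D := fun x => Iff.rfl
  have hPmem : ∀ A, ρ A ∈ P := fun A => by rw [← hρ]; exact ⟨A, rfl⟩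
  have hHM : H ≤ M1 := by
    intro h hh
    rw [hM1]
    refine ⟨hH.1.le hh, ?_⟩
    -- the automorphism
    have hn : ∀ A, h * ρ A * h⁻¹ ∈ ρ.range := by
      intro A
      rw [hρ]
      exact hR.normal h hh _ (hPmem A)
    let α₀ : SU34 →* SU34 := (MonoidHom.ofInjective hinj).symm.toMonoidHom.comp
      (((MulAut.conj h).toMonoidHom.comp ρ).codRestrict ρ.range hn)
    have hα₀ : ∀ A, ρ (α₀ A) = h * ρ A * h⁻¹ := by
      intro A
      have h1 := (MonoidHom.ofInjective hinj).apply_symm_apply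
        ((((MulAut.conj h).toMonoidHom.comp ρ).codRestrict ρ.range hn) A)
      exact congrArg Subtype.val h1
    have hα₀i : Function.Injective α₀ := by
      rw [injective_iff_map_eq_one]
      intro A hA
      have h1 := hα₀ A
      rw [hA, map_one] at h1
      have h4 : ρ A = 1 := by
        have h5 : h⁻¹ * (h * ρ A * h⁻¹) * h = h⁻¹ * 1 * h := by rw [← h1]
        simpa [mul_assoc] using h5
      exact hinj (h4.trans (map_one ρ).symm)
    let α : MulAut SU34 := MulEquiv.ofBijective α₀ (Finite.injective_iff_bijective.1 hα₀i)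
    obtain ⟨C, i, hC⟩ := aut_su α
    set y := J0 * h * J0⁻¹ with hy
    have h5 : ∀ A, y * rp D hneg A * y⁻¹ = rp D hneg (α₀ A) := by
      intro A
      rw [hJ A, hJ (α₀ A), hα₀, hy]
      group
    set g := rp D hneg C * Nn D ^ i with hg
    have h6 : ∀ A, g * rp D hneg A * g⁻¹ = rp D hneg (α₀ A) := by
      intro A
      have h7 : α₀ A = C * ((frS ^ i : MulAut SU34) A) * C⁻¹ := hC A
      rw [h7, map_mul, map_mul, map_inv, ← Nn_pow_rp, hg]
      group
    have h8 : J0⁻¹ * (g⁻¹ * y) * J0 ∈ scalars I12 F := by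
      apply Cfsg.Agent.H920.mem_scalars_of_comm' hR.absIrred
      intro x hx
      rw [← hρ] at hx
      obtain ⟨A, rfl⟩ := hx
      rw [hJ' A]
      have h9 : g⁻¹ * y * rp D hneg A = rp D hneg A * (g⁻¹ * y) := by
        have h10 : y * rp D hneg A * y⁻¹ = g * rp D hneg A * g⁻¹ := by rw [h5, h6]
        have h11 : y * rp D hneg A = g * rp D hneg A * g⁻¹ * y := by
          rw [← h10]; group
        rw [mul_assoc, h11]; group
      calc J0⁻¹ * (g⁻¹ * y) * J0 * (J0⁻¹ * rp D hneg A * J0) = J0⁻¹ * (g⁻¹ * y * rp D hneg A) * J0 := by group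
        _ = J0⁻¹ * rp D hneg A * J0 * (J0⁻¹ * (g⁻¹ * y) * J0) := by rw [h9]; group
    have h12 : g⁻¹ * y ∈ scalars I12 F := by
      obtain ⟨c, hc⟩ := (mem_scalars_iff _).1 h8
      refine (mem_scalars_iff _).2 ⟨c, ?_⟩
      have h13 : g⁻¹ * y = J0 * (J0⁻¹ * (g⁻¹ * y) * J0) * J0⁻¹ := by group
      rw [h13, Units.val_mul, Units.val_mul, hc, Matrix.mul_smul, Matrix.mul_one, Matrix.smul_mul, Units.mul_inv]
    have h14 : y = g * (g⁻¹ * y) := by group
    rw [h14]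
    exact mul_mem (mul_mem (rp_mem_MW D hneg C) (pow_mem (Nn_mem D) i)) (scalar_mem D h12)
  have hM1H : M1 = H := by
    rcases hH.2 M1 hHM inf_le_left with h | h
    · exact h
    · exfalso
      have h1 : Nat.card (spGL 6 F) ≤ Nat.card (MW D) := by
        have h4 : ∀ x : spGL 6 F, J0 * x.1 * J0⁻¹ ∈ MW D := by
          intro x
          have h5 : x.1 ∈ M1 := by rw [h]; exact x.2
          exact h5.2
        refine Nat.card_le_card_of_injective (fun x : spGL 6 F => (⟨J0 * x.1 * J0⁻¹, h4 x⟩ : MW D)) ?_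
        intro x y hxy
        have h5 := congrArg Subtype.val hxy
        simp only at h5
        exact Subtype.ext (mul_left_cancel (mul_right_cancel h5))
      have h4 := card_MW_le D
      have h5 := card_sp_gt h3
      omega
  -- the form
  have hsp : ∀ g : Cq, J0⁻¹ * rr D g * J0 ∈ spGL 6 F := by
    obtain ⟨c, hc⟩ := form_eq hR.absIrred (hR.le.trans hH.1.le) (B := Bj D J0) (by
      intro x hx
      rw [← hρ] at hx
      obtain ⟨A, rfl⟩ := hx
      rw [hJ', rp_apply]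
      exact Bj_inv D J0 _)
    have hc0 : c ≠ 0 := by
      rintro rfl
      rw [zero_smul] at hc
      exact Bj_ne D J0 hc
    intro g
    rw [mem_sp_iff]
    have h1 := Bj_inv D J0 g
    rw [hc, Matrix.mul_smul, Matrix.smul_mul] at h1
    exact smul_right_injective _ hc0 h1
  refine false_of_norm D fun g hg d hd hgC hdC => ?_
  have h1 : J0⁻¹ * rr D ⟨g, hgC⟩ * J0 ∈ H := by
    rw [← hM1H, hM1]
    refine ⟨hsp _, ?_⟩
    have : J0 * (J0⁻¹ * rr D ⟨g, hgC⟩ * J0) * J0⁻¹ = rr D ⟨g, hgC⟩ := by group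
    rw [this]
    exact rr_mem D _
  let x : X := ⟨⟨d, hdC⟩, hd⟩
  have h2 := hR.normal _ h1 _ (hPmem (th x))
  rw [← hρ] at h2
  obtain ⟨A', hA'⟩ := h2
  refine ⟨(lam hneg A').1.1, (lam hneg A').2, (lam hneg A').1.2, ?_⟩
  show _ = rp D hneg A'
  have hx : (x : Cq) = ⟨d, hdC⟩ := rfl
  rw [hJ, hA', hJ', rp_th, map_mul, map_mul, map_inv, hx]
  group

end final

end Cfsg.Agent.H931.K1Main
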