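import Cfsg.Agent.H931.K1Lift

/-!
# `SU₃(4)` is not normalised by `G₂(4)`; the outer element (helper931)
-/

set_option autoImplicit false
set_option maxRecDepth 20000

namespace Cfsg.Agent.H931.K1Norm

open Cfsg Cfsg.Geo Cfsg.Agent.SporRec Cfsg.Agent.SporRec.GF4 Cfsg.Agent.StdG24.Mod6 Cfsg.Agent.StdG24.Ord6
  Cfsg.Agent.SporadicA.Co0Basic Cfsg.Agent.CoOneType.CoEval Cfsg.Agent.H931.K1F16 Cfsg.Agent.H931.K1SU
  Cfsg.Agent.H931.K1Psi Cfsg.Agent.H931.K1Red Cfsg.Agent.H931.K1Grp Cfsg.Agent.H931.K1Aut Cfsg.Agent.H931.K1Quat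
  Cfsg.Agent.H931.K1Lift Cfsg.Agent.H915.LD
open scoped commutatorElement
open Cfsg.Agent.SporRec.G24Code (app)

theorem B2_chk : S (gt • S.symm (dec (app (cw (bw 2)) 1))) ≠ dec (app (cw (bw 2)) 7) := by decide +kernel

theorem dec7 : dec 7 = S (gt • S.symm (dec 1)) := by decide +kernel

theorem B2_not_mem : ¬ ∃ A : SU34, f A = ⟨B 2, B_mem 2⟩ := by
  rintro ⟨A, hA⟩
  have hA' : (f A : GL6) = ev (bw 2) := congrArg Subtype.val hA
  have hs1 : act (ev (bw 2)) (dec 1) = dec (app (cw (bw 2)) 1) := ((isCode_ev (bw 2)).spec 1 (by norm_num)).symm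
  have hs7 : act (ev (bw 2)) (dec 7) = dec (app (cw (bw 2)) 7) := ((isCode_ev (bw 2)).spec 7 (by norm_num)).symm
  have h1 := act_f A (dec 1)
  have h7 := act_f A (dec 7)
  rw [hA', hs1] at h1
  rw [hA', hs7, dec7, LinearEquiv.symm_apply_apply, Cfsg.Agent.LieClassical.HermSiegel.act_smul] at h7
  have h3 : Cfsg.Agent.LieClassical.HermSiegel.act A (S.symm (dec 1)) = S.symm (dec (app (cw (bw 2)) 1)) := by
    rw [h1, LinearEquiv.symm_apply_apply]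
  rw [h3] at h7
  exact B2_chk h7.symm

theorem not_normal (h : ∀ (l : L) (A : SU34), ∃ A' : SU34, l * f A * l⁻¹ = f A') : False := by
  have hN : (f.range).Normal := by
    constructor
    rintro n ⟨A, rfl⟩ g
    obtain ⟨A', hA'⟩ := h g A
    exact ⟨A', hA'.symm⟩
  have := simple_L
  rcases IsSimpleGroup.eq_bot_or_eq_top_of_normal _ hN with h | h
  · obtain ⟨A, hA⟩ := exists_A1
    have h1 : f A ∈ f.range := ⟨A, rfl⟩
    rw [h, Subgroup.mem_bot, hA] at h1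
    apply psi_ne
    rw [h1, map_one]
  · have h1 : (⟨B 2, B_mem 2⟩ : L) ∈ f.range := by rw [h]; trivial
    exact B2_not_mem h1

/-- what the maximality argument gives is impossible -/
theorem false_of_norm {F : Type*} [Field F] {ι : Type} [Fintype ι] [DecidableEq ι] (D : Dt F ι)
    (h : ∀ g ∈ G6, ∀ d ∈ Dd, ∀ hg : g ∈ Cq, ∀ hd : d ∈ Cq, ∃ d' ∈ Dd, ∃ hd' : d' ∈ Cq,
      rr D (⟨g, hg⟩ * ⟨d, hd⟩ * ⟨g, hg⟩⁻¹) = rr D ⟨d', hd'⟩) : False := by
  refine not_normal fun l A => ?_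
  obtain ⟨g, hg⟩ := prH_surjective (psi l)
  obtain ⟨d, hd, he⟩ := exists_lift A
  have hgG : g ∈ G6 := ⟨l, hg.symm⟩
  obtain ⟨d', hd', hdC', h1⟩ := h g hgG d hd (G6_le hgG) (Dd_le_Cq hd)
  have hdG : d ∈ G6 := (Dd_le.trans St_le) hd
  have hdG' : d' ∈ G6 := (Dd_le.trans St_le) hd'
  have h2 : prH (g * d * g⁻¹ * d'⁻¹) = 1 := by
    have h3 := prH_of_scalar D (x := ⟨g, G6_le hgG⟩ * ⟨d, Dd_le_Cq hd⟩ * ⟨g, G6_le hgG⟩⁻¹ * ⟨d', hdC'⟩⁻¹)
      (by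
        have : g * d * g⁻¹ * d'⁻¹ ∈ G6 :=
          mul_mem (mul_mem (mul_mem hgG hdG) (inv_mem hgG)) (inv_mem hdG')
        exact this)
      (by rw [map_mul, map_inv, h1, mul_inv_cancel]; exact one_mem _)
    exact h3
  have h4 := Dd_le hd'
  obtain ⟨A', hA'⟩ := h4
  refine ⟨A', psi_injective ?_⟩
  rw [map_mul, map_mul, map_inv, ← hg]
  have h5 : prH d = psi (f A) := he
  have h6 : psi (f A') = prH d' := hA'
  rw [h6, ← h5, ← map_inv, ← map_mul, ← map_mul, ← mul_inv_eq_one, ← map_inv, ← map_mul]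
  exact h2

/-! ### The outer element -/

theorem e6_St {x : Co0} (hx : x ∈ St) : K1Co.e 6 * x * (K1Co.e 6)⁻¹ ∈ St := by
  obtain ⟨A, hA⟩ := hx
  refine ⟨frS A, ?_⟩
  have h1 : prH (K1Co.e 6) = nn := rfl
  rw [map_mul, map_mul, map_inv, ← hA, h1]
  show psi (f (frS A)) = nn * psi (f A) * nn⁻¹
  rw [psi_tau, tau_f]

end Cfsg.Agent.H931.K1Norm
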