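import Mathlib

/-!
# Matrices commuting with a quaternion algebra (helper931)

`I² = J² = -1`, `J I = - I J` are square matrices of size `2 m` over a field of characteristic not 2 in which
`a² + b² = -1`. The centraliser of `I, J` acts on the `m`-dimensional eigenspace of `a I + b J` for the eigenvalue
one: `rW`. If `I, J` are orthogonal, the isometries in the centraliser preserve an alternating form `Bf`.
-/

set_option autoImplicit false
set_option linter.unusedSectionVars false

namespace Cfsg.Agent.H931.K1Quat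

open Matrix

variable {F : Type*} [Field F] {α ι : Type*} [Fintype α] [DecidableEq α] [Fintype ι] [DecidableEq ι]

/-- the quaternion relations -/
structure Quat (I J : Matrix α α F) : Prop where
  II : I * I = -1
  JJ : J * J = -1
  JI : J * I = -(I * J)

variable {I J : Matrix α α F} {a b : F}

/-- the matrix `a I + b J` -/
def Em (I J : Matrix α α F) (a b : F) : Matrix α α F := a • I + b • J
/-- the matrix `b I - a J` -/
def Um (I J : Matrix α α F) (a b : F) : Matrix α α F := b • I - a • J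
/-- the idempotent -/
def Pm (I J : Matrix α α F) (a b : F) : Matrix α α F := (2 : F)⁻¹ • (1 + Em I J a b)

theorem Em_sq (hQ : Quat I J) (hab : a * a + b * b = -1) : Em I J a b * Em I J a b = 1 := by
  unfold Em
  rw [add_mul, mul_add, mul_add]
  simp only [smul_mul_smul_comm]
  rw [hQ.II, hQ.JJ, hQ.JI]
  have h1 : (a * a) • (-1 : Matrix α α F) + (a * b) • (I * J) + ((b * a) • (-(I * J)) + (b * b) • (-1 : Matrix α α F)) =
      (-(a * a + b * b)) • (1 : Matrix α α F) := by
    rw [mul_comm b a]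
    module
  rw [h1, hab, neg_neg, one_smul]

theorem Um_sq (hQ : Quat I J) (hab : a * a + b * b = -1) : Um I J a b * Um I J a b = 1 := by
  unfold Um
  rw [sub_mul, mul_sub, mul_sub]
  simp only [smul_mul_smul_comm]
  rw [hQ.II, hQ.JJ, hQ.JI]
  have h1 : (b * b) • (-1 : Matrix α α F) - (b * a) • (I * J) - ((a * b) • (-(I * J)) - (a * a) • (-1 : Matrix α α F)) =
      (-(a * a + b * b)) • (1 : Matrix α α F) := by
    rw [mul_comm b a]
    module
  rw [h1, hab, neg_neg, one_smul]

theorem Um_Em (hQ : Quat I J) : Um I J a b * Em I J a b = -(Em I J a b * Um I J a b) := by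
  unfold Um Em
  rw [sub_mul, mul_add, mul_add, add_mul, mul_sub, mul_sub]
  simp only [smul_mul_smul_comm]
  rw [hQ.II, hQ.JJ, hQ.JI]
  module

theorem Pm_sq (h2 : (2 : F) ≠ 0) (hQ : Quat I J) (hab : a * a + b * b = -1) :
    Pm I J a b * Pm I J a b = Pm I J a b := by
  unfold Pm
  rw [smul_mul_smul_comm, add_mul, mul_add, mul_add, Em_sq hQ hab, one_mul, mul_one, one_mul]
  have h3 : (1 : Matrix α α F) + Em I J a b + (Em I J a b + 1) = (2 : F) • (1 + Em I J a b) := by
    module
  rw [h3, smul_smul]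
  congr 1
  field_simp

theorem Um_Pm (hQ : Quat I J) :
    Um I J a b * Pm I J a b = (2 : F)⁻¹ • (1 - Em I J a b) * Um I J a b := by
  unfold Pm
  rw [mul_smul_comm, mul_add, mul_one, Um_Em hQ, smul_mul_assoc, sub_mul, one_mul]
  congr 1
  abel

theorem one_sub_Pm (h2 : (2 : F) ≠ 0) : 1 - Pm I J a b = (2 : F)⁻¹ • (1 - Em I J a b) := by
  unfold Pm
  rw [smul_sub, smul_add]
  have h : (1 : Matrix α α F) = (2 : F)⁻¹ • 1 + (2 : F)⁻¹ • 1 := by
    rw [← add_smul]
    have : (2 : F)⁻¹ + (2 : F)⁻¹ = 1 := by field_simp; norm_num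
    rw [this, one_smul]
  nth_rewrite 1 [h]
  abel

theorem Um_Pm' (h2 : (2 : F) ≠ 0) (hQ : Quat I J) :
    Um I J a b * Pm I J a b = (1 - Pm I J a b) * Um I J a b := by
  rw [one_sub_Pm h2, Um_Pm hQ]

/-- the image of the idempotent has half of the dimension -/
theorem finrank_range (h2 : (2 : F) ≠ 0) (hQ : Quat I J) (hab : a * a + b * b = -1) :
    2 * Module.finrank F (LinearMap.range (Matrix.toLin' (Pm I J a b))) = Fintype.card α := by
  set P := Matrix.toLin' (Pm I J a b) with hP
  set U := Matrix.toLin' (Um I J a b) with hU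
  have hUU : ∀ x, U (U x) = x := by
    intro x
    rw [hU, Matrix.toLin'_apply, Matrix.toLin'_apply, Matrix.mulVec_mulVec, Um_sq hQ hab, Matrix.one_mulVec]
  have hPP : ∀ x, P (P x) = P x := by
    intro x
    rw [hP, Matrix.toLin'_apply, Matrix.toLin'_apply, Matrix.mulVec_mulVec, Pm_sq h2 hQ hab]
  have hUP : ∀ x, U (P x) = U x - P (U x) := by
    intro x
    rw [hP, hU, Matrix.toLin'_apply, Matrix.toLin'_apply, Matrix.toLin'_apply, Matrix.toLin'_apply,
      Matrix.mulVec_mulVec, Um_Pm' h2 hQ, ← Matrix.mulVec_mulVec, Matrix.sub_mulVec, Matrix.one_mulVec]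
  let e : (α → F) ≃ₗ[F] (α → F) := LinearEquiv.ofInvolutive U hUU
  have hker : LinearMap.ker P = (LinearMap.range P).map (e : (α → F) →ₗ[F] (α → F)) := by
    ext x
    rw [LinearMap.mem_ker, Submodule.mem_map]
    constructor
    · intro hx
      refine ⟨U x, ⟨U x, ?_⟩, hUU x⟩
      have h1 := hUP (U x)
      have h3 := congrArg U (hUP x)
      rw [hUU, map_sub, hUU] at h3
      -- `P x = x - U P U x`
      rw [hx] at h3
      have h4 : U (P (U x)) = x := by
        have := sub_eq_zero.1 h3.symm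
        exact this.symm
      rw [← hUU (P (U x)), h4]
    · rintro ⟨y, ⟨z, rfl⟩, rfl⟩
      show P (U (P z)) = 0
      rw [hUP, map_sub, hPP, sub_self]
  have h3 := LinearMap.finrank_range_add_finrank_ker P
  rw [hker, LinearEquiv.finrank_map_eq, Module.finrank_fintype_fun_eq_card] at h3
  omega

/-- factorisation of the idempotent -/
theorem exists_factor (h2 : (2 : F) ≠ 0) (hQ : Quat I J) (hab : a * a + b * b = -1)
    (hι : 2 * Fintype.card ι = Fintype.card α) :
    ∃ (T : Matrix α ι F) (R : Matrix ι α F), R * T = 1 ∧ T * R = Pm I J a b := by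
  set P := Pm I J a b with hP
  have hf := finrank_range h2 hQ hab
  rw [← hP] at hf
  have hd : Module.finrank F (LinearMap.range (Matrix.toLin' P)) = Fintype.card ι := by omega
  let B : Module.Basis ι F (LinearMap.range (Matrix.toLin' P)) :=
    (Module.finBasisOfFinrankEq F _ hd).reindex (Fintype.equivFin ι).symm
  let pr : (α → F) →ₗ[F] LinearMap.range (Matrix.toLin' P) := (Matrix.toLin' P).rangeRestrict
  have hpr : ∀ w : LinearMap.range (Matrix.toLin' P), pr (w : α → F) = w := by
    rintro ⟨_, z, rfl⟩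
    apply Subtype.ext
    show (Matrix.toLin' P) ((Matrix.toLin' P) z) = (Matrix.toLin' P) z
    rw [Matrix.toLin'_apply, Matrix.toLin'_apply, Matrix.mulVec_mulVec, Pm_sq h2 hQ hab]
  refine ⟨Matrix.of fun i k => (B k : α → F) i, Matrix.of fun k j => B.repr (pr (Pi.single j 1)) k, ?_, ?_⟩
  · ext k l
    rw [Matrix.mul_apply]
    have h1 : ∀ x : α → F, ∑ j, B.repr (pr (Pi.single j 1)) k * x j = B.repr (pr x) k := by
      intro x
      have h3 : x = ∑ j, x j • (Pi.single j 1 : α → F) := by
        funext i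
        simp [Finset.sum_apply, Pi.single_apply]
      conv_rhs => rw [h3]
      rw [map_sum, map_sum, Finsupp.finsetSum_apply]
      apply Finset.sum_congr rfl
      intro j _
      rw [map_smul, map_smul, Finsupp.smul_apply, smul_eq_mul, mul_comm]
    have h3 := h1 (B l : α → F)
    rw [hpr, Module.Basis.repr_self] at h3
    simp only [Matrix.of_apply]
    rw [h3, Finsupp.single_apply, Matrix.one_apply]
    simp only [eq_comm]
  · ext i j
    rw [Matrix.mul_apply]
    simp only [Matrix.of_apply]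
    have h1 := congrArg (fun w : LinearMap.range (Matrix.toLin' P) => (w : α → F) i)
      (B.sum_repr (pr (Pi.single j 1)))
    simp only [Submodule.coe_sum, Submodule.coe_smul, Finset.sum_apply, Pi.smul_apply, smul_eq_mul] at h1
    rw [show ∑ k, (B k : α → F) i * B.repr (pr (Pi.single j 1)) k =
      ∑ k, B.repr (pr (Pi.single j 1)) k * (B k : α → F) i from
        Finset.sum_congr rfl fun k _ => mul_comm _ _, h1]
    show (Matrix.toLin' P (Pi.single j 1)) i = P i j
    rw [Matrix.toLin'_apply, Matrix.mulVec_single_one]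
    rfl

/-- the centraliser of the quaternion algebra -/
def Z (I J : Matrix α α F) : Subgroup (GL α F) where
  carrier := {m | (m : Matrix α α F) * I = I * m ∧ (m : Matrix α α F) * J = J * m}
  one_mem' := by
    refine ⟨?_, ?_⟩ <;> rw [Units.val_one, one_mul, mul_one]
  mul_mem' := by
    rintro x y ⟨hx1, hx2⟩ ⟨hy1, hy2⟩
    refine ⟨?_, ?_⟩
    · rw [Units.val_mul, mul_assoc, hy1, ← mul_assoc, hx1, mul_assoc]
    · rw [Units.val_mul, mul_assoc, hy2, ← mul_assoc, hx2, mul_assoc]
  inv_mem' := by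
    rintro x ⟨hx1, hx2⟩
    refine ⟨?_, ?_⟩
    · rw [Units.inv_mul_eq_iff_eq_mul, ← mul_assoc, hx1, mul_assoc, Units.mul_inv, mul_one]
    · rw [Units.inv_mul_eq_iff_eq_mul, ← mul_assoc, hx2, mul_assoc, Units.mul_inv, mul_one]

theorem mem_Z {m : GL α F} : m ∈ Z I J ↔ (m : Matrix α α F) * I = I * m ∧ (m : Matrix α α F) * J = J * m :=
  Iff.rfl

theorem comm_Pm {m : Matrix α α F} (h1 : m * I = I * m) (h2 : m * J = J * m) :
    m * Pm I J a b = Pm I J a b * m := by
  unfold Pm Em
  rw [mul_smul_comm, smul_mul_assoc, mul_add, add_mul, mul_add, add_mul, mul_smul_comm, mul_smul_comm,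
    smul_mul_assoc, smul_mul_assoc, h1, h2, mul_one, one_mul]

theorem comm_Um {m : Matrix α α F} (h1 : m * I = I * m) (h2 : m * J = J * m) :
    m * Um I J a b = Um I J a b * m := by
  unfold Um
  rw [mul_sub, sub_mul, mul_smul_comm, mul_smul_comm, smul_mul_assoc, smul_mul_assoc, h1, h2]

variable {T : Matrix α ι F} {R : Matrix ι α F}

theorem T_r (hTR : T * R = Pm I J a b) (hRT : R * T = 1) {m : Matrix α α F} (h1 : m * I = I * m)
    (h2 : m * J = J * m) : T * (R * m * T) = m * T := by
  have h3 : Pm I J a b * T = T := by rw [← hTR, Matrix.mul_assoc, hRT, Matrix.mul_one]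
  calc T * (R * m * T) = T * R * m * T := by simp only [Matrix.mul_assoc]
    _ = m * (Pm I J a b * T) := by rw [hTR, ← comm_Pm h1 h2, Matrix.mul_assoc]
    _ = m * T := by rw [h3]

theorem r_mul (hTR : T * R = Pm I J a b) (hRT : R * T = 1) {m m' : Matrix α α F} (h1 : m' * I = I * m')
    (h2 : m' * J = J * m') : R * (m * m') * T = (R * m * T) * (R * m' * T) := by
  rw [Matrix.mul_assoc (R * m), T_r hTR hRT h1 h2]
  simp only [Matrix.mul_assoc]

/-- the action on the eigenspace -/
def rW (hTR : T * R = Pm I J a b) (hRT : R * T = 1) : Z I J →* GL ι F where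
  toFun m := ⟨R * ((m : GL α F) : Matrix α α F) * T, R * (((m⁻¹ : Z I J) : GL α F) : Matrix α α F) * T, by
    rw [← r_mul hTR hRT (m⁻¹).2.1 (m⁻¹).2.2]
    rw [Subgroup.coe_inv, Units.mul_inv, Matrix.mul_one, hRT], by
    rw [← r_mul hTR hRT m.2.1 m.2.2]
    rw [Subgroup.coe_inv, Units.inv_mul, Matrix.mul_one, hRT]⟩
  map_one' := by
    apply Units.ext
    show R * (((1 : Z I J) : GL α F) : Matrix α α F) * T = 1
    rw [Subgroup.coe_one, Units.val_one, Matrix.mul_one, hRT]
  map_mul' m m' := by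
    apply Units.ext
    show R * (((m * m' : Z I J) : GL α F) : Matrix α α F) * T = (R * ((m : GL α F) : Matrix α α F) * T) * (R * ((m' : GL α F) : Matrix α α F) * T)
    rw [← r_mul hTR hRT m'.2.1 m'.2.2, Subgroup.coe_mul, Units.val_mul]

theorem rW_val (hTR : T * R = Pm I J a b) (hRT : R * T = 1) (m : Z I J) :
    (rW hTR hRT m : Matrix ι ι F) = R * ((m : GL α F) : Matrix α α F) * T := rfl

/-- a matrix commuting with the algebra is determined by its action on the eigenspace -/
theorem eq_smul_of_r (h2 : (2 : F) ≠ 0) (hQ : Quat I J) (hab : a * a + b * b = -1) (hTR : T * R = Pm I J a b)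
    (hRT : R * T = 1) {m : Matrix α α F} (h1 : m * I = I * m) (h3 : m * J = J * m) {c : F}
    (h : R * m * T = c • 1) : m = c • 1 := by
  have h4 : m * T = c • T := by rw [← T_r hTR hRT h1 h3, h, Matrix.mul_smul, Matrix.mul_one]
  have h5 : m * Pm I J a b = c • Pm I J a b := by rw [← hTR, ← Matrix.mul_assoc, h4, Matrix.smul_mul]
  have h6 : m * (1 - Pm I J a b) = c • (1 - Pm I J a b) := by
    have h7 : 1 - Pm I J a b = Um I J a b * Pm I J a b * Um I J a b := by
      rw [Um_Pm' h2 hQ, Matrix.mul_assoc, Um_sq hQ hab, Matrix.mul_one]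
    rw [h7, ← Matrix.mul_assoc, ← Matrix.mul_assoc, comm_Um h1 h3, Matrix.mul_assoc (Um I J a b), h5,
      Matrix.mul_smul, Matrix.smul_mul]
  have h8 : m = m * Pm I J a b + m * (1 - Pm I J a b) := by
    rw [← mul_add, add_sub_cancel, mul_one]
  rw [h8, h5, h6, ← smul_add, add_sub_cancel]

/-! ### The form -/

/-- the form -/
def Bf (I J : Matrix α α F) (a b : F) (T : Matrix α ι F) : Matrix ι ι F := Tᵀ * Um I J a b * T

theorem Bf_inv (hTR : T * R = Pm I J a b) (hRT : R * T = 1) {m : Matrix α α F} (h1 : m * I = I * m)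
    (h2 : m * J = J * m) (ho : mᵀ * m = 1) : (R * m * T)ᵀ * Bf I J a b T * (R * m * T) = Bf I J a b T := by
  unfold Bf
  calc (R * m * T)ᵀ * (Tᵀ * Um I J a b * T) * (R * m * T) =
      (T * (R * m * T))ᵀ * Um I J a b * (T * (R * m * T)) := by
        rw [Matrix.transpose_mul T]
        simp only [Matrix.mul_assoc]
    _ = (m * T)ᵀ * Um I J a b * (m * T) := by rw [T_r hTR hRT h1 h2]
    _ = Tᵀ * (mᵀ * (Um I J a b * m)) * T := by
        rw [Matrix.transpose_mul]
        simp only [Matrix.mul_assoc]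
    _ = Tᵀ * Um I J a b * T := by
        rw [← comm_Um h1 h2, ← Matrix.mul_assoc mᵀ, ho, Matrix.one_mul]

theorem Bf_transpose (hI : Iᵀ = -I) (hJ : Jᵀ = -J) : (Bf I J a b T)ᵀ = -Bf I J a b T := by
  unfold Bf
  have h : (Um I J a b)ᵀ = -Um I J a b := by
    unfold Um
    rw [Matrix.transpose_sub, Matrix.transpose_smul, Matrix.transpose_smul, hI, hJ]
    module
  rw [Matrix.transpose_mul, Matrix.transpose_mul, Matrix.transpose_transpose, h]
  simp only [Matrix.neg_mul, Matrix.mul_neg, Matrix.mul_assoc]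

theorem Bf_unit (h2 : (2 : F) ≠ 0) (hQ : Quat I J) (hab : a * a + b * b = -1) (hI : Iᵀ = -I) (hJ : Jᵀ = -J)
    (hTR : T * R = Pm I J a b) (hRT : R * T = 1) :
    Bf I J a b T * (R * Um I J a b * Rᵀ) = 1 := by
  have hE : (Pm I J a b)ᵀ = 1 - Pm I J a b := by
    rw [one_sub_Pm h2]
    unfold Pm Em
    rw [Matrix.transpose_smul, Matrix.transpose_add, Matrix.transpose_one, Matrix.transpose_add,
      Matrix.transpose_smul, Matrix.transpose_smul, hI, hJ]
    congr 1
    module
  unfold Bf
  calc Tᵀ * Um I J a b * T * (R * Um I J a b * Rᵀ) = Tᵀ * (Um I J a b * (T * R) * Um I J a b) * Rᵀ := by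
        simp only [Matrix.mul_assoc]
    _ = Tᵀ * (Pm I J a b)ᵀ * Rᵀ := by
        rw [hTR, Um_Pm' h2 hQ, Matrix.mul_assoc (1 - Pm I J a b), Um_sq hQ hab, Matrix.mul_one, hE]
    _ = (R * (T * R) * T)ᵀ := by
        rw [hTR, Matrix.transpose_mul, Matrix.transpose_mul]
        simp only [Matrix.mul_assoc]
    _ = 1 := by
        rw [← Matrix.mul_assoc R, hRT, Matrix.one_mul, hRT, Matrix.transpose_one]

end Cfsg.Agent.H931.K1Quat
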