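import Cfsg.Agent.H931.K1Co
import Cfsg.Agent.H931.K1Quat

/-!
# Reduction of `Co₀` over fields of characteristic not two (helper931)
-/

set_option autoImplicit false

namespace Cfsg.Agent.H931.K1Red

open Cfsg Matrix Cfsg.Agent.SporadicA.Co0Basic Cfsg.Agent.CoOneType.CoEval Cfsg.Agent.SporadicStructure.Co0Matrix

variable (F : Type*) [Field F]

/-- the matrix of an element of `Co₀` -/
def rmat (g : Co0) : Matrix GolayPt GolayPt F := fun i j => (((g.1 (e8 j) : leechLattice) : GolayPt → ℤ) i : F) / 8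

variable {F}

theorem eight_ne (h2 : (2 : F) ≠ 0) : (8 : F) ≠ 0 := by
  have : (8 : F) = 2 * 2 * 2 := by norm_num
  rw [this]
  exact mul_ne_zero (mul_ne_zero h2 h2) h2

theorem rmat_one (h2 : (2 : F) ≠ 0) : rmat F 1 = 1 := by
  ext i j
  show (((e8 j : leechLattice) : GolayPt → ℤ) i : F) / 8 = _
  rw [e8_apply, Matrix.one_apply]
  split
  · push_cast
    exact div_self (eight_ne h2)
  · simp

theorem rmat_mul (h2 : (2 : F) ≠ 0) (g h : Co0) : rmat F (g * h) = rmat F g * rmat F h := by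
  ext i j
  rw [Matrix.mul_apply]
  show ((((g * h).1 (e8 j) : leechLattice) : GolayPt → ℤ) i : F) / 8 = _
  have h1 := congrArg (fun v : leechLattice => (v : GolayPt → ℤ) i) (map_smul8 g (h.1 (e8 j)))
  simp only [AddSubgroup.coe_zsmul, AddSubgroup.val_finsetSum, Finset.sum_apply, Pi.smul_apply, smul_eq_mul] at h1
  have h3 : (g * h).1 (e8 j) = g.1 (h.1 (e8 j)) := rfl
  rw [h3]
  have h4 := congrArg (Int.cast : ℤ → F) h1
  push_cast at h4
  have h8 := eight_ne h2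
  rw [div_eq_iff h8, Finset.sum_mul]
  have h5 : ∀ k, rmat F g i k * rmat F h k j * 8 =
      ((((h.1 (e8 j) : leechLattice) : GolayPt → ℤ) k : F) * (((g.1 (e8 k) : leechLattice) : GolayPt → ℤ) i : F)) / 8 := by
    intro k
    unfold rmat
    field_simp
  rw [Finset.sum_congr rfl fun k _ => h5 k, ← Finset.sum_div, ← h4]
  field_simp

theorem rmat_orth (h2 : (2 : F) ≠ 0) (g : Co0) : (rmat F g)ᵀ * rmat F g = 1 := by
  ext i j
  rw [Matrix.mul_apply]
  have h1 := map_dot g (e8 i) (e8 j)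
  unfold dotInt at h1
  have h4 := congrArg (Int.cast : ℤ → F) h1
  push_cast at h4
  have h8 := eight_ne h2
  have h5 : ∀ k, (rmat F g)ᵀ i k * rmat F g k j =
      ((((g.1 (e8 i) : leechLattice) : GolayPt → ℤ) k : F) * (((g.1 (e8 j) : leechLattice) : GolayPt → ℤ) k : F)) / 64 := by
    intro k
    rw [Matrix.transpose_apply]
    unfold rmat
    rw [div_mul_div_comm]
    norm_num
  rw [Finset.sum_congr rfl fun k _ => h5 k, ← Finset.sum_div, h4]
  have h6 : ∀ k, (((e8 i : leechLattice) : GolayPt → ℤ) k : F) * (((e8 j : leechLattice) : GolayPt → ℤ) k : F) =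
      if k = i then (if i = j then 64 else 0) else 0 := by
    intro k
    rw [e8_apply, e8_apply]
    by_cases hki : k = i
    · subst hki
      by_cases hkj : k = j
      · subst hkj; simp; norm_num
      · simp [hkj]
    · simp [hki]
  rw [Finset.sum_congr rfl fun k _ => h6 k, Finset.sum_ite_eq' Finset.univ i, if_pos (Finset.mem_univ _),
    Matrix.one_apply]
  have h64 : (64 : F) ≠ 0 := by
    have : (64 : F) = 8 * 8 := by norm_num
    rw [this]; exact mul_ne_zero h8 h8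
  split
  · exact div_self h64
  · exact zero_div _

theorem rmat_neg (h2 : (2 : F) ≠ 0) : rmat F negCo0 = -1 := by
  ext i j
  show (((negCo0.1 (e8 j) : leechLattice) : GolayPt → ℤ) i : F) / 8 = _
  rw [negCo0_apply, Matrix.neg_apply, Matrix.one_apply]
  have h1 : ((-e8 j : leechLattice) : GolayPt → ℤ) i = -(((e8 j : leechLattice) : GolayPt → ℤ) i) := rfl
  rw [h1, e8_apply]
  split
  · push_cast
    rw [neg_div, div_self (eight_ne h2)]
  · simp

/-- `Co₀` over `F` -/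
noncomputable def rho (h2 : (2 : F) ≠ 0) : Co0 →* GL GolayPt F :=
  MonoidHom.toHomUnits
    { toFun := rmat F
      map_one' := rmat_one h2
      map_mul' := rmat_mul h2 }

theorem rho_val (h2 : (2 : F) ≠ 0) (g : Co0) : ((rho h2 g : GL GolayPt F) : Matrix GolayPt GolayPt F) = rmat F g := rfl

/-! ### The quaternion algebra -/

/-- the image of `I` -/
noncomputable def Im (F : Type*) [Field F] : Matrix GolayPt GolayPt F := rmat F (K1Co.e 8)
/-- the image of `J` -/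
noncomputable def Jm (F : Type*) [Field F] : Matrix GolayPt GolayPt F := rmat F (K1Co.e 9)

theorem eII : K1Co.e 8 * K1Co.e 8 = negCo0 := by
  have h := eq_neg_of_negB K1Co.hM K1Co.chk_II
  simpa using h

theorem eJJ : K1Co.e 9 * K1Co.e 9 = negCo0 := by
  have h := eq_neg_of_negB K1Co.hM K1Co.chk_JJ
  simpa using h

theorem neg_sq : negCo0 * negCo0 = 1 := by
  apply ext_e8
  intro i
  show negCo0.1 (negCo0.1 (e8 i)) = e8 i
  rw [negCo0_apply, negCo0_apply, neg_neg]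

theorem neg_comm (g : Co0) : negCo0 * g = g * negCo0 := (Subgroup.mem_center_iff.1 negCo0_mem_center g).symm

theorem inv_of_sq {x : Co0} (h : x * x = negCo0) : x * x * x = x⁻¹ := by
  rw [eq_inv_iff_mul_eq_one, mul_assoc, h, neg_sq]

theorem eJI : K1Co.e 9 * K1Co.e 8 = negCo0 * (K1Co.e 8 * K1Co.e 9) := by
  have h := eq_neg_of_negB K1Co.hM K1Co.chk_JI
  have h1 : K1Co.e 9 * K1Co.e 8 * (K1Co.e 9 * K1Co.e 9 * K1Co.e 9) * (K1Co.e 8 * K1Co.e 8 * K1Co.e 8) = negCo0 := by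
    rw [← h]; simp [mul_assoc]
  rw [inv_of_sq eII, inv_of_sq eJJ, mul_inv_eq_iff_eq_mul, mul_inv_eq_iff_eq_mul, mul_assoc negCo0] at h1
  exact h1

theorem quat (h2 : (2 : F) ≠ 0) : K1Quat.Quat (Im F) (Jm F) where
  II := by rw [Im, ← rmat_mul h2, eII, rmat_neg h2]
  JJ := by rw [Jm, ← rmat_mul h2, eJJ, rmat_neg h2]
  JI := by rw [Jm, Im, ← rmat_mul h2, eJI, rmat_mul h2, rmat_mul h2, rmat_neg h2, neg_one_mul]

theorem Im_transpose (h2 : (2 : F) ≠ 0) : (Im F)ᵀ = -Im F := by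
  have h1 := rmat_orth h2 (K1Co.e 8)
  have h3 := (quat h2).II
  have h4 : (Im F)ᵀ * Im F * Im F = Im F := by
    show (rmat F (K1Co.e 8))ᵀ * rmat F (K1Co.e 8) * _ = _
    rw [h1, one_mul]
  rw [mul_assoc, h3, mul_neg, mul_one] at h4
  exact neg_eq_iff_eq_neg.1 h4

theorem Jm_transpose (h2 : (2 : F) ≠ 0) : (Jm F)ᵀ = -Jm F := by
  have h1 := rmat_orth h2 (K1Co.e 9)
  have h3 := (quat h2).JJ
  have h4 : (Jm F)ᵀ * Jm F * Jm F = Jm F := by
    show (rmat F (K1Co.e 9))ᵀ * rmat F (K1Co.e 9) * _ = _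
    rw [h1, one_mul]
  rw [mul_assoc, h3, mul_neg, mul_one] at h4
  exact neg_eq_iff_eq_neg.1 h4

theorem comm_I (i : Fin 6) : K1Co.e i.val * K1Co.e 8 = K1Co.e 8 * K1Co.e i.val := by
  have h := eq_one_of_oneB K1Co.hM (List.all_eq_true.1 K1Co.chk_I i.val (List.mem_range.2 i.2))
  have h4 := eq_one_of_oneB K1Co.hM (List.all_eq_true.1 K1Co.chk_four i.val (List.mem_range.2 i.2))
  have h1 : K1Co.e i.val * K1Co.e 8 * (K1Co.e i.val * K1Co.e i.val * K1Co.e i.val) *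
      (K1Co.e 8 * K1Co.e 8 * K1Co.e 8) = 1 := by
    rw [← h]; simp [mul_assoc]
  have h5 : K1Co.e i.val * K1Co.e i.val * K1Co.e i.val = (K1Co.e i.val)⁻¹ := by
    rw [eq_inv_iff_mul_eq_one, ← h4]; simp [mul_assoc]
  rw [inv_of_sq eII, h5, mul_inv_eq_iff_eq_mul, mul_inv_eq_iff_eq_mul, one_mul] at h1
  exact h1

theorem comm_J (i : Fin 6) : K1Co.e i.val * K1Co.e 9 = K1Co.e 9 * K1Co.e i.val := by
  have h := eq_one_of_oneB K1Co.hM (List.all_eq_true.1 K1Co.chk_J i.val (List.mem_range.2 i.2))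
  have h4 := eq_one_of_oneB K1Co.hM (List.all_eq_true.1 K1Co.chk_four i.val (List.mem_range.2 i.2))
  have h1 : K1Co.e i.val * K1Co.e 9 * (K1Co.e i.val * K1Co.e i.val * K1Co.e i.val) *
      (K1Co.e 9 * K1Co.e 9 * K1Co.e 9) = 1 := by
    rw [← h]; simp [mul_assoc]
  have h5 : K1Co.e i.val * K1Co.e i.val * K1Co.e i.val = (K1Co.e i.val)⁻¹ := by
    rw [eq_inv_iff_mul_eq_one, ← h4]; simp [mul_assoc]
  rw [inv_of_sq eJJ, h5, mul_inv_eq_iff_eq_mul, mul_inv_eq_iff_eq_mul, one_mul] at h1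
  exact h1

theorem inv_I : (K1Co.e 8)⁻¹ = negCo0 * K1Co.e 8 := by
  rw [inv_eq_iff_mul_eq_one, neg_comm, ← mul_assoc, eII, neg_sq]

theorem inv_J : (K1Co.e 9)⁻¹ = negCo0 * K1Co.e 9 := by
  rw [inv_eq_iff_mul_eq_one, neg_comm, ← mul_assoc, eJJ, neg_sq]

/-- `n I = - I n` -/
theorem n_I : K1Co.e 6 * K1Co.e 8 = negCo0 * K1Co.e 8 * K1Co.e 6 := by
  have h := eq_one_of_oneB K1Co.hM K1Co.chk_nI
  have h1 : K1Co.e 6 * K1Co.e 8 * (K1Co.e 6)⁻¹ * K1Co.e 8 = 1 := by
    rw [← h]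
    have h7 : K1Co.e 7 = (K1Co.e 6)⁻¹ := rfl
    simp [mul_assoc, h7]
  rw [← inv_I]
  have h3 := eq_inv_of_mul_eq_one_left h1
  rw [mul_inv_eq_iff_eq_mul] at h3
  exact h3

/-- `n J = - I J n` -/
theorem n_J : K1Co.e 6 * K1Co.e 9 = negCo0 * (K1Co.e 8 * K1Co.e 9) * K1Co.e 6 := by
  have h := eq_one_of_oneB K1Co.hM K1Co.chk_nJ
  have h1 : K1Co.e 6 * K1Co.e 9 * (K1Co.e 6)⁻¹ * (K1Co.e 8 * K1Co.e 9) = 1 := by
    rw [← h]
    have h7 : K1Co.e 7 = (K1Co.e 6)⁻¹ := rfl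
    simp [mul_assoc, h7]
  have h3 := eq_inv_of_mul_eq_one_left h1
  rw [mul_inv_eq_iff_eq_mul, _root_.mul_inv_rev, inv_I, inv_J] at h3
  rw [h3, mul_assoc negCo0 (K1Co.e 9), ← mul_assoc (K1Co.e 9) negCo0, ← neg_comm (K1Co.e 9),
    mul_assoc negCo0 (K1Co.e 9), eJI, ← mul_assoc negCo0 negCo0, neg_sq, one_mul]

/-- the matrix `n (J - I J)` -/
noncomputable def N0 (F : Type*) [Field F] : Matrix GolayPt GolayPt F :=
  rmat F (K1Co.e 6) * (Jm F - Im F * Jm F)

theorem mat_nI (h2 : (2 : F) ≠ 0) : rmat F (K1Co.e 6) * Im F = -(Im F * rmat F (K1Co.e 6)) := by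
  rw [Im, ← rmat_mul h2, n_I, rmat_mul h2, rmat_mul h2, rmat_neg h2, neg_one_mul, neg_mul]

theorem mat_nJ (h2 : (2 : F) ≠ 0) : rmat F (K1Co.e 6) * Jm F = -(Im F * Jm F * rmat F (K1Co.e 6)) := by
  rw [Im, Jm, ← rmat_mul h2, n_J, rmat_mul h2, rmat_mul h2, rmat_mul h2, rmat_neg h2, neg_one_mul, neg_mul]

section Abs

variable {A : Type*} [Ring A] {N I J : A}

theorem abs_eq (hII : I * I = -1) (h1 : N * I = -(I * N)) (h3 : N * J = -(I * J * N)) :
    N * (J - I * J) = (J - I * J) * N := by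
  have h4 : N * (I * J) = -(J * N) := by
    rw [← mul_assoc, h1, neg_mul, mul_assoc, h3, mul_neg, neg_neg, ← mul_assoc, ← mul_assoc, hII, neg_one_mul,
      neg_mul]
  rw [mul_sub, h3, h4, sub_mul]
  abel

theorem abs_I (hII : I * I = -1) (hJI : J * I = -(I * J)) (h1 : N * I = -(I * N)) (h3 : N * J = -(I * J * N)) :
    N * (J - I * J) * I = I * (N * (J - I * J)) := by
  have e1 : (J - I * J) * I = -(I * (J - I * J)) := by
    rw [sub_mul, mul_sub, mul_assoc I J I, hJI, mul_neg, ← mul_assoc I I J, hII, neg_one_mul]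
    abel
  rw [abs_eq hII h1 h3, mul_assoc, h1, mul_neg, ← mul_assoc, e1, neg_mul, neg_neg, mul_assoc]

theorem abs_J (hII : I * I = -1) (hJJ : J * J = -1) (hJI : J * I = -(I * J)) (h1 : N * I = -(I * N))
    (h3 : N * J = -(I * J * N)) : N * (J - I * J) * J = J * (N * (J - I * J)) := by
  have e2 : J * I * J = I := by rw [hJI, neg_mul, mul_assoc, hJJ, mul_neg, mul_one, neg_neg]
  have e1 : -((J - I * J) * (I * J)) = J * (J - I * J) := by
    rw [sub_mul, mul_sub, ← mul_assoc J I J, e2, mul_assoc I J (I * J), ← mul_assoc J I J, e2, hII, hJJ]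
    abel
  rw [abs_eq hII h1 h3, mul_assoc, h3, mul_neg, ← mul_assoc, ← neg_mul, e1, mul_assoc]

end Abs

theorem N0_I (h2 : (2 : F) ≠ 0) : N0 F * Im F = Im F * N0 F :=
  abs_I (quat h2).II (quat h2).JI (mat_nI h2) (mat_nJ h2)

theorem N0_J (h2 : (2 : F) ≠ 0) : N0 F * Jm F = Jm F * N0 F :=
  abs_J (quat h2).II (quat h2).JJ (quat h2).JI (mat_nI h2) (mat_nJ h2)

/-- the inverse of `J - I J` is `-(J - I J) / 2` -/
theorem u0_sq (h2 : (2 : F) ≠ 0) : (Jm F - Im F * Jm F) * (Jm F - Im F * Jm F) = (-2 : F) • 1 := by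
  have hQ := quat (F := F) h2
  set I := Im F
  set J := Jm F
  have e2 : J * I * J = I := by rw [hQ.JI, neg_mul, mul_assoc, hQ.JJ, mul_neg, mul_one, neg_neg]
  rw [sub_mul, mul_sub, mul_sub, ← mul_assoc J I J, e2, mul_assoc I J J, hQ.JJ, mul_assoc I J (I * J),
    ← mul_assoc J I J, e2, hQ.II]
  rw [mul_neg, mul_one]
  module

/-- `J - I J` as a unit -/
noncomputable def u0 (h2 : (2 : F) ≠ 0) : GL GolayPt F :=
  ⟨Jm F - Im F * Jm F, (-2 : F)⁻¹ • (Jm F - Im F * Jm F), by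
    rw [Matrix.mul_smul, u0_sq h2, smul_smul, inv_mul_cancel₀ (neg_ne_zero.2 h2), one_smul], by
    rw [Matrix.smul_mul, u0_sq h2, smul_smul, inv_mul_cancel₀ (neg_ne_zero.2 h2), one_smul]⟩

/-- the outer element in the centraliser of the quaternion algebra -/
noncomputable def n0 (h2 : (2 : F) ≠ 0) : GL GolayPt F := rho h2 (K1Co.e 6) * u0 h2

theorem n0_mem (h2 : (2 : F) ≠ 0) : n0 h2 ∈ K1Quat.Z (Im F) (Jm F) := ⟨N0_I h2, N0_J h2⟩

/-- `J - I J` commutes with everything in the centraliser -/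
theorem u0_comm (h2 : (2 : F) ≠ 0) {m : GL GolayPt F} (hm : m ∈ K1Quat.Z (Im F) (Jm F)) :
    m * u0 h2 = u0 h2 * m := by
  apply Units.ext
  show (m : Matrix GolayPt GolayPt F) * (Jm F - Im F * Jm F) = (Jm F - Im F * Jm F) * m
  rw [mul_sub, sub_mul, ← mul_assoc, hm.1, mul_assoc, hm.2, ← mul_assoc, mul_assoc]

/-! ### The trace of a letter -/

theorem trace_e1 (h2 : (2 : F) ≠ 0) : (rmat F (K1Co.e 1)).trace = -8 := by
  have h : ∀ p : GolayPt, (((K1Co.e 1).1 (e8 p) : leechLattice) : GolayPt → ℤ) p =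
      Cfsg.Agent.SporadicStructure.Co0Matrix.act (K1Co.M 1) (Pi.single p 8) p := by
    intro p
    rw [(K1Co.hM 1).act, e8_coe]
  have h1 : ∑ p : GolayPt, Cfsg.Agent.SporadicStructure.Co0Matrix.act (K1Co.M 1) (Pi.single p 8) p = -64 := by
    decide +kernel
  have h3 := congrArg (Int.cast : ℤ → F) h1
  push_cast at h3
  unfold Matrix.trace
  have h8 := eight_ne h2
  have h4 : ∀ p, Matrix.diag (rmat F (K1Co.e 1)) p =
      ((Cfsg.Agent.SporadicStructure.Co0Matrix.act (K1Co.M 1) (Pi.single p 8) p : ℤ) : F) / 8 := by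
    intro p
    rw [← h p]; rfl
  rw [Finset.sum_congr rfl fun p _ => h4 p, ← Finset.sum_div, h3, div_eq_iff h8]
  norm_num

end Cfsg.Agent.H931.K1Red
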