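import Cfsg.Agent.H906.SL2Real

/-!
# Non-split traces of `SL₂(q)` (helper931)

`T σ m` : the trace of the `m`-th power of an element of trace `σ`.
`exists_gen` : there are a non-split `σ`, an extension `L` and a primitive `(q+1)`-th root of unity `c` of `L` with
`σ = c + c⁻¹`; every non-split `τ` is `T σ m` for some `m`.
-/

set_option autoImplicit false

namespace Cfsg.Agent.H931.L2N

variable {K : Type*} [Field K]

/-- The traces of the powers of an element of trace `σ`. -/
def T (σ : K) : ℕ → K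
  | 0 => 2
  | 1 => σ
  | (m + 2) => σ * T σ (m + 1) - T σ m

theorem T_zero (σ : K) : T σ 0 = 2 := rfl

theorem T_one (σ : K) : T σ 1 = σ := rfl

theorem T_add (σ : K) (m : ℕ) : T σ (m + 2) = σ * T σ (m + 1) - T σ m := rfl

theorem T_quad (σ : K) (m : ℕ) : T σ (m + 1) ^ 2 - σ * T σ (m + 1) * T σ m + T σ m ^ 2 = 4 - σ ^ 2 := by
  induction m with
  | zero => rw [T_one, T_zero]; ring
  | succ m ih =>
    rw [T_add]
    linear_combination ih

theorem T_sum (σ : K) (m : ℕ) : T σ (m + 2) + T σ m = σ * T σ (m + 1) := by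
  rw [T_add]; ring

theorem T_prod (σ : K) (m : ℕ) : T σ (m + 2) * T σ m = σ ^ 2 + T σ (m + 1) ^ 2 - 4 := by
  rw [T_add]
  linear_combination -T_quad σ m

theorem T_eq {L : Type*} [Field L] [Algebra K L] {σ : K} {c : L} (hc : c ≠ 0) (h : algebraMap K L σ = c + c⁻¹) (m : ℕ) :
    algebraMap K L (T σ m) = c ^ m + (c⁻¹) ^ m := by
  induction m using Nat.strong_induction_on with
  | _ m ih =>
    match m, ih with
    | 0, _ => rw [T_zero, pow_zero, pow_zero, map_ofNat]; norm_num
    | 1, _ => rw [T_one, h, pow_one, pow_one]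
    | (m + 2), ih =>
      rw [T_add, map_sub, map_mul, h, ih (m + 1) (by omega), ih m (by omega)]
      have h1 : c * c⁻¹ = 1 := mul_inv_cancel₀ hc
      linear_combination (c ^ m + c⁻¹ ^ m) * h1

variable [Fintype K]

/-- Elements of an extension fixed by `x ↦ x ^ q`. -/
theorem mem_of_pow {L : Type*} [Field L] [Algebra K L] {x : L} (hx : x ^ Fintype.card K = x) :
    ∃ y : K, algebraMap K L y = x := by
  classical
  have h1 : (Polynomial.X ^ Fintype.card K - Polynomial.X : Polynomial K).Splits := by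
    rw [Polynomial.splits_iff_card_roots, FiniteField.roots_X_pow_card_sub_X,
      FiniteField.X_pow_card_sub_X_natDegree_eq K Fintype.one_lt_card]
    rfl
  have h2 := h1.roots_map (algebraMap K L)
  have h3 : x ∈ ((Polynomial.X ^ Fintype.card K - Polynomial.X : Polynomial K).map (algebraMap K L)).roots := by
    rw [Polynomial.map_sub, Polynomial.map_pow, Polynomial.map_X, Polynomial.mem_roots, Polynomial.IsRoot.def,
      Polynomial.eval_sub, Polynomial.eval_pow, Polynomial.eval_X, hx, sub_self]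
    exact FiniteField.X_pow_card_sub_X_ne_zero L Fintype.one_lt_card
  rw [h2, Multiset.mem_map] at h3
  obtain ⟨y, -, hy⟩ := h3
  exact ⟨y, hy⟩

/-- A primitive `(q+1)`-th root of unity. -/
theorem exists_gen : ∃ (σ : K) (c : AlgebraicClosure K), IsPrimitiveRoot c (Fintype.card K + 1) ∧
    algebraMap K (AlgebraicClosure K) σ = c + c⁻¹ := by
  have h0 : ((Fintype.card K + 1 : ℕ) : AlgebraicClosure K) ≠ 0 := by
    rw [Nat.cast_add, Nat.cast_one]
    have h1 : ((Fintype.card K : ℕ) : AlgebraicClosure K) = 0 := by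
      rw [← map_natCast (algebraMap K (AlgebraicClosure K)), FiniteField.cast_card_eq_zero, map_zero]
    rw [h1, zero_add]
    exact one_ne_zero
  have : NeZero ((Fintype.card K + 1 : ℕ) : AlgebraicClosure K) := ⟨h0⟩
  obtain ⟨c, hc⟩ := HasEnoughRootsOfUnity.exists_primitiveRoot (AlgebraicClosure K) (Fintype.card K + 1)
  have hc0 : c ≠ 0 := hc.ne_zero (by omega)
  have h1 : c ^ Fintype.card K = c⁻¹ := by
    apply eq_inv_of_mul_eq_one_left
    rw [← pow_succ, hc.pow_eq_one]
  obtain ⟨σ, hσ⟩ := mem_of_pow (K := K) (x := c + c⁻¹) (by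
    obtain ⟨p, hp⟩ := CharP.exists K
    have := hp
    obtain ⟨n, hpp, hn⟩ := FiniteField.card K p
    have : Fact p.Prime := ⟨hpp⟩
    have : CharP (AlgebraicClosure K) p := charP_of_injective_algebraMap (algebraMap K (AlgebraicClosure K)).injective p
    have h2 : (c + c⁻¹) ^ Fintype.card K = c ^ Fintype.card K + c⁻¹ ^ Fintype.card K := by
      rw [hn]
      exact add_pow_char_pow _ _ p n
    rw [h2, inv_pow, h1, inv_inv, add_comm])
  exact ⟨σ, c, hc, hσ⟩

theorem nonsplit_of_gen {σ : K} {c : AlgebraicClosure K} (hc : IsPrimitiveRoot c (Fintype.card K + 1))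
    (h : algebraMap K (AlgebraicClosure K) σ = c + c⁻¹) (x : K) : x * x - σ * x + 1 ≠ 0 := by
  intro hx
  have hc0 : c ≠ 0 := hc.ne_zero (by omega)
  have h1 : (algebraMap K (AlgebraicClosure K) x - c) * (algebraMap K (AlgebraicClosure K) x - c⁻¹) = 0 := by
    have h2 := congrArg (algebraMap K (AlgebraicClosure K)) hx
    rw [map_add, map_sub, map_mul, map_mul, h, map_one, map_zero] at h2
    have h3 : c * c⁻¹ = 1 := mul_inv_cancel₀ hc0
    linear_combination h2 + h3
  have hq : 1 < Fintype.card K := Fintype.one_lt_card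
  have h4 : ∀ y : K, algebraMap K (AlgebraicClosure K) y = c → False := by
    intro y hy
    have h5 : c ^ Fintype.card K = c := by
      rw [← hy, ← map_pow, FiniteField.pow_card]
    have h6 : c ^ 2 = 1 := by
      rw [← hc.pow_eq_one, pow_succ c (Fintype.card K), h5, sq]
    have h7 := (hc.pow_eq_one_iff_dvd 2).1 h6
    have h8 := Nat.le_of_dvd (by norm_num) h7
    omega
  rcases mul_eq_zero.1 h1 with h5 | h5
  · exact h4 x (sub_eq_zero.1 h5)
  · apply h4 x⁻¹
    rw [map_inv₀, sub_eq_zero.1 h5, inv_inv]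

theorem exists_T {σ : K} {c : AlgebraicClosure K} (hc : IsPrimitiveRoot c (Fintype.card K + 1))
    (h : algebraMap K (AlgebraicClosure K) σ = c + c⁻¹) {τ : K} (hτ : ∀ x : K, x * x - τ * x + 1 ≠ 0) :
    ∃ m : ℕ, τ = T σ m := by
  obtain ⟨a, ha⟩ : ∃ a : AlgebraicClosure K, a * a - algebraMap K _ τ * a + 1 = 0 := by
    obtain ⟨a, ha⟩ := IsAlgClosed.exists_root
      (Polynomial.X ^ 2 - Polynomial.C (algebraMap K (AlgebraicClosure K) τ) * Polynomial.X + Polynomial.C 1) (by
        have : (Polynomial.X ^ 2 - Polynomial.C (algebraMap K (AlgebraicClosure K) τ) * Polynomial.X +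
          Polynomial.C 1 : Polynomial (AlgebraicClosure K)).degree = 2 := by
          compute_degree!
        rw [this]
        decide)
    refine ⟨a, ?_⟩
    rw [Polynomial.IsRoot.def] at ha
    simp only [Polynomial.eval_add, Polynomial.eval_sub, Polynomial.eval_pow, Polynomial.eval_X, Polynomial.eval_mul,
      Polynomial.eval_C] at ha
    linear_combination ha
  have ha0 : a ≠ 0 := by
    rintro rfl
    simp at ha
  have hτa : algebraMap K _ τ = a + a⁻¹ := by
    field_simp
    linear_combination -ha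
  have h1 : (a ^ Fintype.card K) * (a ^ Fintype.card K) - algebraMap K _ τ * a ^ Fintype.card K + 1 = 0 := by
    obtain ⟨p, hp⟩ := CharP.exists K
    have := hp
    obtain ⟨n, hpp, hn⟩ := FiniteField.card K p
    have : Fact p.Prime := ⟨hpp⟩
    have : CharP (AlgebraicClosure K) p := charP_of_injective_algebraMap (algebraMap K (AlgebraicClosure K)).injective p
    have h2 : algebraMap K (AlgebraicClosure K) τ = (algebraMap K (AlgebraicClosure K) τ) ^ Fintype.card K := by
      rw [← map_pow, FiniteField.pow_card]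
    rw [h2, ← mul_pow, ← mul_pow, ← one_pow (Fintype.card K), hn, ← sub_pow_char_pow, ← add_pow_char_pow, ha,
      zero_pow (pow_ne_zero _ hpp.ne_zero)]
  have h2 : (a ^ Fintype.card K - a) * (a ^ Fintype.card K - a⁻¹) = 0 := by
    rw [hτa] at h1
    have h3 : a * a⁻¹ = 1 := mul_inv_cancel₀ ha0
    linear_combination h1 + h3
  rcases mul_eq_zero.1 h2 with h3 | h3
  · exfalso
    obtain ⟨y, hy⟩ := mem_of_pow (K := K) (sub_eq_zero.1 h3)
    apply hτ y
    apply (algebraMap K (AlgebraicClosure K)).injective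
    rw [map_add, map_sub, map_mul, map_mul, hy, map_one, map_zero, ha]
  · have h4 : a ^ (Fintype.card K + 1) = 1 := by
      rw [pow_succ, sub_eq_zero.1 h3, inv_mul_cancel₀ ha0]
    obtain ⟨m, -, hm⟩ := hc.eq_pow_of_pow_eq_one h4
    refine ⟨m, (algebraMap K (AlgebraicClosure K)).injective ?_⟩
    rw [T_eq (hc.ne_zero (by omega)) h, hτa, ← hm, inv_pow]

theorem T_period {σ : K} {c : AlgebraicClosure K} (hc : IsPrimitiveRoot c (Fintype.card K + 1))
    (h : algebraMap K (AlgebraicClosure K) σ = c + c⁻¹) : T σ (Fintype.card K + 1) = 2 := by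
  apply (algebraMap K (AlgebraicClosure K)).injective
  rw [T_eq (hc.ne_zero (by omega)) h, inv_pow, hc.pow_eq_one, inv_one, map_ofNat]
  norm_num

theorem T_half {σ : K} {c : AlgebraicClosure K} (hc : IsPrimitiveRoot c (Fintype.card K + 1))
    (h : algebraMap K (AlgebraicClosure K) σ = c + c⁻¹) (_h2 : (2 : K) ≠ 0) {m : ℕ} (hm : 2 * m = Fintype.card K + 1) :
    T σ m = -2 := by
  apply (algebraMap K (AlgebraicClosure K)).injective
  have h1 : c ^ m = -1 := by
    have h3 : (c ^ m) ^ 2 = 1 := by rw [← pow_mul, mul_comm, hm, hc.pow_eq_one]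
    rw [sq] at h3
    rcases mul_self_eq_one_iff.1 h3 with h4 | h4
    · exfalso
      have h5 := Nat.le_of_dvd (by have := Fintype.card_pos (α := K); omega) ((hc.pow_eq_one_iff_dvd m).1 h4)
      omega
    · exact h4
  rw [T_eq (hc.ne_zero (by omega)) h, inv_pow, h1, map_neg, map_ofNat]
  norm_num

omit [Fintype K] in
theorem T_double (σ : K) (m : ℕ) : T σ (2 * m) = T σ m ^ 2 - 2 ∧
    T σ (2 * m + 1) = T σ (m + 1) * T σ m - σ := by
  induction m with
  | zero => rw [mul_zero, T_zero, zero_add, T_one]; constructor <;> ring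
  | succ m ih =>
    obtain ⟨h1, h2⟩ := ih
    have h3 := T_quad σ m
    have e1 : T σ (2 * (m + 1)) = T σ (m + 1) ^ 2 - 2 := by
      rw [show 2 * (m + 1) = 2 * m + 2 by ring, T_add, h1, h2]
      linear_combination -h3
    refine ⟨e1, ?_⟩
    rw [show 2 * (m + 1) + 1 = (2 * m + 1) + 2 by ring, T_add, show 2 * m + 1 + 1 = 2 * (m + 1) by ring, e1, h2,
      show m + 1 + 1 = m + 2 by ring, T_add]
    ring

omit [Fintype K] in
theorem T_even_add_two (σ : K) (m : ℕ) : T σ (2 * m) + 2 = T σ m ^ 2 := by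
  rw [(T_double σ m).1]; ring

omit [Fintype K] in
theorem T_odd_add_two (σ : K) (m : ℕ) : (T σ (2 * m + 1) + 2) * (σ + 2) = (T σ (m + 1) + T σ m) ^ 2 := by
  rw [(T_double σ m).2]
  linear_combination -T_quad σ m

/-- The generator plus two is not a square. -/
theorem not_isSquare_gen {σ : K} {c : AlgebraicClosure K} (hc : IsPrimitiveRoot c (Fintype.card K + 1))
    (h : algebraMap K (AlgebraicClosure K) σ = c + c⁻¹) (h2 : (2 : K) ≠ 0) : ¬ IsSquare (σ + 2) := by
  rintro ⟨s, hs⟩
  have hσ := nonsplit_of_gen hc h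
  have hc0 : c ≠ 0 := hc.ne_zero (by omega)
  have hs1 : ∀ x : K, x * x - s * x + 1 ≠ 0 := by
    intro x hx
    have hx0 : x ≠ 0 := by
      rintro rfl
      simp at hx
    have h3 : s = x + x⁻¹ := by
      field_simp
      linear_combination -hx
    apply hσ (x ^ 2)
    have h4 : σ = x ^ 2 + (x⁻¹) ^ 2 := by
      have h5 : x * x⁻¹ = 1 := mul_inv_cancel₀ hx0
      rw [h3] at hs
      linear_combination hs + 2 * h5
    rw [h4]
    field_simp
    ring
  obtain ⟨m, hm⟩ := exists_T hc h hs1
  have h3 : T σ (2 * m) = σ := by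
    rw [(T_double σ m).1, ← hm]
    linear_combination -hs
  have h4 := T_eq hc0 h (2 * m)
  rw [h3, h, inv_pow] at h4
  have h5 : (c ^ (2 * m) - c) * (c ^ (2 * m) * c - 1) = 0 := by
    have h6 : c ^ (2 * m) * (c ^ (2 * m))⁻¹ = 1 := mul_inv_cancel₀ (pow_ne_zero _ hc0)
    have h7 : c * c⁻¹ = 1 := mul_inv_cancel₀ hc0
    linear_combination (-c ^ (2 * m) * c) * h4 + c ^ (2 * m) * h7 - c * h6
  have hodd : 2 ∣ Fintype.card K + 1 := by
    by_contra hcon
    have h6 : Fintype.card K % 2 = 0 := by omega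
    exact h2 ((FiniteField.even_card_iff_char_two.2 h6 |> fun h => by
      have : CharP K 2 := by rw [← h]; exact ringChar.charP K
      exact CharP.cast_eq_zero K 2))
  rcases mul_eq_zero.1 h5 with h6 | h6
  · rcases Nat.eq_zero_or_pos m with rfl | hm0
    · rw [mul_zero, pow_zero, sub_eq_zero] at h6
      have h7 := (hc.pow_eq_one_iff_dvd 1).1 (by rw [pow_one, ← h6])
      have := Nat.le_of_dvd one_pos h7
      have := Fintype.card_pos (α := K)
      omega
    · have h7 : c ^ (2 * m - 1) = 1 := by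
        apply mul_right_cancel₀ hc0
        rw [← pow_succ, show 2 * m - 1 + 1 = 2 * m by omega, sub_eq_zero.1 h6, one_mul]
      have h8 := hodd.trans ((hc.pow_eq_one_iff_dvd _).1 h7)
      omega
  · have h7 : c ^ (2 * m + 1) = 1 := by rw [pow_succ]; exact sub_eq_zero.1 h6
    have h8 := hodd.trans ((hc.pow_eq_one_iff_dvd _).1 h7)
    omega

end Cfsg.Agent.H931.L2N
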