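import Cfsg.Agent.H906.SL2Real

/-!
# Points of anisotropic conics over a finite field (helper931)

`x² - σ x z + z²` without non-trivial zero takes each non-zero value `q + 1` times; `card_conic`.
-/

set_option autoImplicit false

namespace Cfsg.Agent.H931.L2N

open Finset

variable {K : Type*} [Field K]

/-- The norm form. -/
def N (σ : K) (p : K × K) : K := p.1 * p.1 - σ * p.1 * p.2 + p.2 * p.2

/-- The multiplication. -/
def mulN (σ : K) (p q : K × K) : K × K :=
  (p.1 * q.1 - p.2 * q.2, p.1 * q.2 + p.2 * q.1 - σ * p.2 * q.2)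

theorem N_mul (σ : K) (p q : K × K) : N σ (mulN σ p q) = N σ p * N σ q := by
  unfold N mulN
  ring

theorem N_eq_zero {σ : K} (hσ : ∀ x : K, x * x - σ * x + 1 ≠ 0) {p : K × K} : N σ p = 0 ↔ p = 0 := by
  constructor
  · intro h
    unfold N at h
    by_cases h2 : p.2 = 0
    · rw [h2] at h
      have h1 : p.1 * p.1 = 0 := by linear_combination h
      exact Prod.ext (mul_self_eq_zero.1 h1) h2
    · exfalso
      apply hσ (p.1 / p.2)
      field_simp
      linear_combination h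
  · rintro rfl
    unfold N
    simp

theorem disc_ne {σ : K} (hσ : ∀ x : K, x * x - σ * x + 1 ≠ 0) : 4 - σ ^ 2 ≠ 0 := by
  intro h
  have h1 : (σ - 2) * (σ + 2) = 0 := by linear_combination -h
  rcases mul_eq_zero.1 h1 with h2 | h2
  · apply hσ 1
    linear_combination -h2
  · apply hσ (-1)
    linear_combination h2

theorem N_surj [Finite K] {σ : K} (hσ : ∀ x : K, x * x - σ * x + 1 ≠ 0) (m : K) : ∃ p : K × K, N σ p = m := by
  by_cases h2 : (2 : K) = 0
  · have hp2 : CharP K 2 := CharTwo.of_one_ne_zero_of_two_eq_zero one_ne_zero h2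
    have : Fact (Nat.Prime 2) := ⟨Nat.prime_two⟩
    obtain ⟨y, hy⟩ := Finite.injective_iff_surjective.1 (frobenius_inj K 2) m
    rw [frobenius_def] at hy
    refine ⟨(y, 0), ?_⟩
    unfold N
    simp only
    rw [← hy]
    ring
  · obtain ⟨X, z, hXz⟩ := Cfsg.Agent.H906.exists_sq_sub h2 (σ ^ 2 - 4) (4 * m) (by
      intro h
      apply disc_ne hσ
      linear_combination -h)
    refine ⟨((X + σ * z) / 2, z), ?_⟩
    have h4 : (4 : K) ≠ 0 := by
      have : (4 : K) = 2 * 2 := by norm_num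
      rw [this]
      exact mul_ne_zero h2 h2
    unfold N
    simp only
    field_simp
    linear_combination hXz

variable [Fintype K] [DecidableEq K]

/-- the number of points of norm `m` -/
def cnt (σ m : K) : ℕ := (univ.filter fun p : K × K => N σ p = m).card

theorem cnt_mul {σ : K} (hσ : ∀ x : K, x * x - σ * x + 1 ≠ 0) {m₀ : K} (h0 : m₀ ≠ 0) (m : K) :
    cnt σ (m₀ * m) = cnt σ m := by
  obtain ⟨p₀, hp₀⟩ := N_surj hσ m₀
  have hinj : Function.Injective (mulN σ p₀) := by
    intro p q h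
    have h1 : N σ p₀ ≠ 0 := by rw [hp₀]; exact h0
    have h3 : mulN σ p₀ (p.1 - q.1, p.2 - q.2) = 0 := by
      have e1 := congrArg Prod.fst h
      have e2 := congrArg Prod.snd h
      unfold mulN at e1 e2 ⊢
      simp only at e1 e2 ⊢
      refine Prod.ext ?_ ?_
      · simp only [Prod.fst_zero]
        linear_combination e1
      · simp only [Prod.snd_zero]
        linear_combination e2
    have h4 := N_mul σ p₀ (p.1 - q.1, p.2 - q.2)
    rw [h3, (N_eq_zero hσ).2 rfl] at h4
    have h5 := (mul_eq_zero.1 h4.symm).resolve_left h1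
    rw [N_eq_zero hσ] at h5
    have e1 := congrArg Prod.fst h5
    have e2 := congrArg Prod.snd h5
    exact Prod.ext (sub_eq_zero.1 e1) (sub_eq_zero.1 e2)
  have hsurj : Function.Surjective (mulN σ p₀) := Finite.injective_iff_surjective.1 hinj
  unfold cnt
  symm
  apply Finset.card_bij (fun p _ => mulN σ p₀ p)
  · intro p hp
    rw [mem_filter] at hp ⊢
    exact ⟨mem_univ _, by rw [N_mul, hp₀, hp.2]⟩
  · intro p _ q _ h
    exact hinj h
  · intro q hq
    obtain ⟨p, rfl⟩ := hsurj q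
    rw [mem_filter, N_mul, hp₀] at hq
    exact ⟨p, mem_filter.2 ⟨mem_univ _, mul_left_cancel₀ h0 hq.2⟩, rfl⟩

theorem cnt_zero {σ : K} (hσ : ∀ x : K, x * x - σ * x + 1 ≠ 0) : cnt σ 0 = 1 := by
  unfold cnt
  rw [card_eq_one]
  refine ⟨0, ?_⟩
  ext p
  rw [mem_filter, mem_singleton, N_eq_zero hσ]
  exact ⟨fun h => h.2, fun h => ⟨mem_univ _, h⟩⟩

theorem cnt_ne {σ : K} (hσ : ∀ x : K, x * x - σ * x + 1 ≠ 0) {m : K} (hm : m ≠ 0) :
    cnt σ m = Fintype.card K + 1 := by
  have h1 : ∀ m : K, m ≠ 0 → cnt σ m = cnt σ 1 := by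
    intro m hm
    have := cnt_mul hσ hm 1
    rwa [mul_one] at this
  have h2 : ∑ m : K, cnt σ m = Fintype.card (K × K) := by
    rw [← card_univ]
    exact (Finset.card_eq_sum_card_fiberwise (fun _ _ => mem_univ _)).symm
  rw [← Finset.add_sum_erase _ _ (mem_univ (0 : K)), cnt_zero hσ,
    Finset.sum_congr rfl fun m hm => h1 m (ne_of_mem_erase hm), sum_const, card_erase_of_mem (mem_univ _), card_univ,
    smul_eq_mul, Fintype.card_prod] at h2
  have hq : 1 < Fintype.card K := Fintype.one_lt_card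
  rw [h1 m hm]
  obtain ⟨q, hq'⟩ : ∃ q, Fintype.card K = q + 2 := ⟨Fintype.card K - 2, by omega⟩
  rw [hq'] at h2 ⊢
  have h3 : (q + 2 - 1) = q + 1 := by omega
  rw [h3] at h2
  have h4 : (q + 1) * cnt σ 1 = (q + 1) * (q + 2 + 1) := by
    have : (q + 2) * (q + 2) = 1 + (q + 1) * (q + 2 + 1) := by ring
    omega
  exact Nat.eq_of_mul_eq_mul_left (by omega) h4

/-- **Points of the conic `x² - σxz + z² - τx + ρz + 1 = 0`.** -/
theorem card_conic {σ : K} (hσ : ∀ x : K, x * x - σ * x + 1 ≠ 0) (τ ρ : K) :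
    (univ.filter fun p : K × K => N σ p - τ * p.1 + ρ * p.2 + 1 = 0).card =
      if τ ^ 2 - σ * τ * ρ + ρ ^ 2 + σ ^ 2 - 4 = 0 then 1 else Fintype.card K + 1 := by
  have hD := disc_ne hσ
  set m : K := (τ ^ 2 - σ * τ * ρ + ρ ^ 2 + σ ^ 2 - 4) / (4 - σ ^ 2) with hm
  set x₀ : K := (2 * τ - σ * ρ) / (4 - σ ^ 2) with hx
  set z₀ : K := (σ * τ - 2 * ρ) / (4 - σ ^ 2) with hz
  have h1 : (univ.filter fun p : K × K => N σ p - τ * p.1 + ρ * p.2 + 1 = 0).card = cnt σ m := by
    unfold cnt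
    apply Finset.card_bij (fun p _ => (p.1 - x₀, p.2 - z₀))
    · intro p hp
      rw [mem_filter] at hp ⊢
      refine ⟨mem_univ _, ?_⟩
      have h2 := hp.2
      unfold N at h2 ⊢
      simp only
      rw [hm, hx, hz]
      field_simp
      linear_combination (4 - σ ^ 2) * (4 - σ ^ 2) * h2
    · intro p _ q _ h
      have e1 := congrArg Prod.fst h
      have e2 := congrArg Prod.snd h
      exact Prod.ext (sub_left_injective e1) (sub_left_injective e2)
    · intro q hq
      rw [mem_filter] at hq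
      refine ⟨(q.1 + x₀, q.2 + z₀), ?_, ?_⟩
      · rw [mem_filter]
        refine ⟨mem_univ _, ?_⟩
        have h2 := hq.2
        rw [hm, eq_div_iff hD] at h2
        unfold N at h2 ⊢
        simp only
        generalize q.1 = a at h2 ⊢
        generalize q.2 = b at h2 ⊢
        have ex : (4 - σ ^ 2) * x₀ = 2 * τ - σ * ρ := by rw [hx]; field_simp
        have ez : (4 - σ ^ 2) * z₀ = σ * τ - 2 * ρ := by rw [hz]; field_simp
        clear_value x₀ z₀
        have hD2 : (4 - σ ^ 2) * (4 - σ ^ 2) ≠ 0 := mul_ne_zero hD hD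
        apply mul_left_cancel₀ hD2
        linear_combination (4 - σ ^ 2) * h2 + ((4 - σ ^ 2) * (2 * a + x₀ - σ * b - σ * z₀ - τ) + (2 * τ - σ * ρ)) * ex
          + ((4 - σ ^ 2) * (2 * b + z₀ - σ * a + ρ) + (σ * τ - 2 * ρ) - σ * (2 * τ - σ * ρ)) * ez
      · exact Prod.ext (add_sub_cancel_right _ _) (add_sub_cancel_right _ _)
  rw [h1]
  by_cases h : τ ^ 2 - σ * τ * ρ + ρ ^ 2 + σ ^ 2 - 4 = 0
  · rw [if_pos h, hm, h, zero_div, cnt_zero hσ]
  · rw [if_neg h, cnt_ne hσ (div_ne_zero h hD)]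

end Cfsg.Agent.H931.L2N
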