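import Cfsg.Agent.H931.L2Class
import Cfsg.Agent.H931.L2Norm

/-!
# Representations of `SL₂(q)` of degree `q - 1`: the class sum identity (helper931)

`R` spans `End V`, `V` has no fixed vectors of `U`, and every character `b ≠ 0` of `U` has multiplicity one.
`X τ` is the trace of `u τ * w 1`.  `S_eq`: the class sum of all elements of trace `τ` is `q X(τ) • 1`;
`X_mul`, `Y_rec`: for `σ` non-split and `a + b = σ τ`, `a b = σ² + τ² - 4`: `Y σ * Y τ = -(Y a + Y b)`.
-/

set_option autoImplicit false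
set_option linter.unusedSectionVars false

namespace Cfsg.Agent.H931.L2T

open Matrix Module Cfsg Cfsg.Geo Cfsg.Agent.H464.Sl2

section Basic

variable {K : Type*} [Field K]

theorem coe_uwc (x : K) (c : Kˣ) : (u x * w c).1 = !![x * c, -((c⁻¹ : Kˣ) : K); (c : K), 0] := by
  change (u x).1 * (w c).1 = _
  have e1 : (u x).1 = !![1, x; 0, 1] := rfl
  have e2 : (w c).1 = !![0, -((c⁻¹ : Kˣ) : K); (c : K), 0] := rfl
  rw [e1, e2]
  ext i j
  fin_cases i <;> fin_cases j <;> simp [Matrix.mul_apply, Fin.sum_univ_two]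

theorem coe_utx (x : K) (a : Kˣ) : (u x * t a).1 = !![(a : K), x * ((a⁻¹ : Kˣ) : K); 0, ((a⁻¹ : Kˣ) : K)] := by
  change (u x).1 * (t a).1 = _
  have e1 : (u x).1 = !![1, x; 0, 1] := rfl
  have e2 : (t a).1 = !![(a : K), 0; 0, ((a⁻¹ : Kˣ) : K)] := rfl
  rw [e1, e2]
  ext i j
  fin_cases i <;> fin_cases j <;> simp [Matrix.mul_apply, Fin.sum_univ_two]

theorem coe_uwcu (x y : K) (c : Kˣ) :
    (u x * w c * u y).1 = !![x * c, x * c * y - ((c⁻¹ : Kˣ) : K); (c : K), c * y] := by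
  change (u x * w c).1 * (u y).1 = _
  have e1 : (u y).1 = !![1, y; 0, 1] := rfl
  rw [coe_uwc, e1]
  ext i j
  fin_cases i <;> fin_cases j <;> simp [Matrix.mul_apply, Fin.sum_univ_two, sub_eq_add_neg]

theorem mt_uwc (x : K) (c : Kˣ) : mt (u x * w c) = x * c := by
  rw [mt, coe_uwc]; simp

theorem mt_utx (x : K) (a : Kˣ) : mt (u x * t a) = a + ((a⁻¹ : Kˣ) : K) := by
  rw [mt, coe_utx]; simp

theorem mt_uwcu (x y : K) (c : Kˣ) : mt (u x * w c * u y) = c * (x + y) := by
  rw [mt, coe_uwcu]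
  simp
  ring

/-- The two Bruhat cells. -/
def cell : (Kˣ × K) ⊕ (Kˣ × K × K) → SpecialLinearGroup (Fin 2) K
  | Sum.inl p => u p.2 * t p.1
  | Sum.inr p => u p.2.1 * w p.1 * u p.2.2

theorem cell_bijective : Function.Bijective (cell (K := K)) := by
  constructor
  · rintro (⟨a, x⟩ | ⟨c, x, y⟩) (⟨b, x'⟩ | ⟨d, x', y'⟩) h
    · have h1 : (u x * t a).1 = (u x' * t b).1 := congrArg Subtype.val h
      rw [coe_utx, coe_utx] at h1
      have h2 := congrFun (congrFun h1 0) 0
      have h3 := congrFun (congrFun h1 0) 1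
      simp only [of_apply, cons_val', cons_val_zero, cons_val_one, cons_val_fin_one] at h2 h3
      have h4 : a = b := Units.ext h2
      subst h4
      have h5 : x = x' := mul_right_cancel₀ (Units.ne_zero _) h3
      rw [h5]
    · exfalso
      have h1 : (u x * t a).1 = (u x' * w d * u y').1 := congrArg Subtype.val h
      rw [coe_utx, coe_uwcu] at h1
      have h2 := congrFun (congrFun h1 1) 0
      simp only [of_apply, cons_val', cons_val_zero, cons_val_one, cons_val_fin_one] at h2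
      exact d.ne_zero h2.symm
    · exfalso
      have h1 : (u x * w c * u y).1 = (u x' * t b).1 := congrArg Subtype.val h
      rw [coe_utx, coe_uwcu] at h1
      have h2 := congrFun (congrFun h1 1) 0
      simp only [of_apply, cons_val', cons_val_zero, cons_val_one, cons_val_fin_one] at h2
      exact c.ne_zero h2
    · have h1 : (u x * w c * u y).1 = (u x' * w d * u y').1 := congrArg Subtype.val h
      rw [coe_uwcu, coe_uwcu] at h1
      have h2 := congrFun (congrFun h1 1) 0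
      have h3 := congrFun (congrFun h1 0) 0
      have h4 := congrFun (congrFun h1 1) 1
      simp only [of_apply, cons_val', cons_val_zero, cons_val_one, cons_val_fin_one] at h2 h3 h4
      have h5 : c = d := Units.ext h2
      subst h5
      have h6 : x = x' := mul_right_cancel₀ c.ne_zero h3
      have h7 : y = y' := mul_left_cancel₀ c.ne_zero h4
      rw [h6, h7]
  · intro g
    rcases bruhat g with ⟨x, a, rfl⟩ | ⟨x, c, y, rfl⟩
    · exact ⟨Sum.inl (a, x), rfl⟩
    · exact ⟨Sum.inr (c, x, y), rfl⟩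

theorem sum_cell [Fintype K] [Fintype (SpecialLinearGroup (Fin 2) K)] [Fintype Kˣ] {M : Type*} [AddCommMonoid M]
    (f : SpecialLinearGroup (Fin 2) K → M) :
    ∑ g, f g = ∑ a : Kˣ, ∑ x, f (u x * t a) + ∑ c : Kˣ, ∑ x, ∑ y, f (u x * w c * u y) := by
  rw [← Fintype.sum_bijective cell cell_bijective (fun p => f (cell p)) f fun _ => rfl, Fintype.sum_sum_type,
    Fintype.sum_prod_type, Fintype.sum_prod_type]
  congr 1
  refine Finset.sum_congr rfl fun c _ => ?_
  rw [Fintype.sum_prod_type]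
  rfl

end Basic

section Cusp

variable {K : Type*} [Field K] [Fintype K] {k : Type*} [Field k] {V : Type*} [AddCommGroup V] [Module k V]
  [FiniteDimensional k V] (R : SpecialLinearGroup (Fin 2) K →* Module.End k V) {ψ : AddChar K k}
  (hψ : ψ.IsPrimitive) (hK : (Fintype.card K : k) ≠ 0)

/-- An operator commuting with the group is a scalar. -/
theorem scalar_of_comm {G : Type*} [Group G] (R : G →* Module.End k V)
    (hspan : Submodule.span k (Set.range R) = ⊤) {S : Module.End k V} (hS : ∀ g, R g * S = S * R g) :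
    ∃ c : k, S = c • 1 := by
  have h1 : ∀ A : Module.End k V, S * A = A * S := by
    intro A
    have hA : A ∈ Submodule.span k (Set.range R) := by rw [hspan]; trivial
    induction hA using Submodule.span_induction with
    | mem x hx =>
      obtain ⟨g, rfl⟩ := hx
      rw [hS]
    | zero => simp
    | add x y _ _ hx hy => rw [mul_add, add_mul, hx, hy]
    | smul a x _ hx => simp only [mul_smul_comm, smul_mul_assoc, hx]
  rcases subsingleton_or_nontrivial V with hV | hV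
  · exact ⟨1, Subsingleton.elim _ _⟩
  · obtain ⟨v₀, hv₀⟩ := exists_ne (0 : V)
    obtain ⟨φ, hφ⟩ := exists_dual (k := k) hv₀
    refine ⟨φ (S v₀), ?_⟩
    ext v
    have h2 := congrArg (fun f : Module.End k V => f v₀) (h1 (φ.smulRight v))
    simp only [Module.End.mul_apply, LinearMap.smulRight_apply, hφ, one_smul] at h2
    rw [h2, LinearMap.smul_apply, Module.End.one_apply]

include hψ hK in
/-- Non-central elements of equal matrix trace have equal trace. -/
theorem tr_eq_of_mt (hspan : Submodule.span k (Set.range R) = ⊤)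
    (hall : ∀ b : K, b ≠ 0 → finrank k (LinearMap.range (E R ψ b)) = 1)
    {g g' : SpecialLinearGroup (Fin 2) K} (h : mt g = mt g') (hg : ∀ ζ : Kˣ, ζ ^ 2 = 1 → g ≠ t ζ)
    (hg' : ∀ ζ : Kˣ, ζ ^ 2 = 1 → g' ≠ t ζ) :
    LinearMap.trace k V (R g) = LinearMap.trace k V (R g') := by
  by_cases ht : mt g ^ 2 - 4 = 0
  · have ht' : mt g' ^ 2 - 4 = 0 := by rw [← h]; exact ht
    obtain ⟨a, ε, y, hε, rfl⟩ := exists_conj_unip g ht
    obtain ⟨a', ε', y', hε', rfl⟩ := exists_conj_unip g' ht'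
    rw [mt_conj, mt_conj] at h
    have hmt : ∀ (ε : Kˣ) (y : K), ε ^ 2 = 1 → mt (t ε * u y) = 2 * (ε : K) := by
      intro ε y hε
      have e1 : (t ε * u y).1 = !![(ε : K), ε * y; 0, ((ε⁻¹ : Kˣ) : K)] := by
        change (t ε).1 * (u y).1 = _
        have e1 : (u y).1 = !![1, y; 0, 1] := rfl
        have e2 : (t ε).1 = !![(ε : K), 0; 0, ((ε⁻¹ : Kˣ) : K)] := rfl
        rw [e1, e2]
        ext i j
        fin_cases i <;> fin_cases j <;> simp [Matrix.mul_apply, Fin.sum_univ_two]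
      have e2 : ε⁻¹ = ε := inv_eq_of_mul_eq_one_right (by rw [← sq, hε])
      rw [mt, e1, e2]
      simp
      ring
    rw [hmt ε y hε, hmt ε' y' hε'] at h
    have h1 : ε = ε' := by
      by_cases h2 : (2 : K) = 0
      · have h3 : ∀ ε : Kˣ, ε ^ 2 = 1 → ε = 1 := by
          intro ε hε
          have h4 : ((ε : K) - 1) ^ 2 = 0 := by
            have h5 : (ε : K) ^ 2 = 1 := by rw [← Units.val_pow_eq_pow_val, hε, Units.val_one]
            linear_combination h5 + (1 - (ε : K)) * h2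
          exact Units.ext (by simpa [sub_eq_zero] using h4)
        rw [h3 ε hε, h3 ε' hε']
      · exact Units.ext (mul_left_cancel₀ h2 h)
    have hy : ∀ (a : SpecialLinearGroup (Fin 2) K) (ε : Kˣ) (y : K), ε ^ 2 = 1 →
        (∀ ζ : Kˣ, ζ ^ 2 = 1 → a * (t ε * u y) * a⁻¹ ≠ t ζ) → y ≠ 0 := by
      rintro a ε y hε hne rfl
      apply hne ε hε
      rw [u_zero, mul_one, ← t_sq_central hε, mul_assoc, mul_inv_cancel, mul_one]
    obtain ⟨c, hc⟩ := central_scalar R hspan (t_sq_central hε)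
    rw [tr_conj', tr_conj', R.map_mul, R.map_mul, ← h1, hc, smul_mul_assoc, smul_mul_assoc, one_mul, one_mul,
      map_smul, map_smul, trace_u_ne R hψ hK hall (hy a ε y hε hg), trace_u_ne R hψ hK hall (hy a' ε' y' hε' hg')]
  · rw [trace_eq_X R g ht, trace_eq_X R g' (by rw [← h]; exact ht), h]

theorem ne_t_of_low {g : SpecialLinearGroup (Fin 2) K} (h : g.1 1 0 ≠ 0) (ζ : Kˣ) : g ≠ t ζ := by
  rintro rfl
  exact h rfl

include hψ hK in
theorem tr_eq_X (hspan : Submodule.span k (Set.range R) = ⊤)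
    (hall : ∀ b : K, b ≠ 0 → finrank k (LinearMap.range (E R ψ b)) = 1)
    {g : SpecialLinearGroup (Fin 2) K} (hg : ∀ ζ : Kˣ, ζ ^ 2 = 1 → g ≠ t ζ) :
    LinearMap.trace k V (R g) = X R (mt g) := by
  rw [X]
  apply tr_eq_of_mt R hψ hK hspan hall _ hg
  · intro ζ _
    apply ne_t_of_low
    rw [coe_uw]
    simp
  · rw [mt_uw]

theorem tr_E_mul (b : K) (g : SpecialLinearGroup (Fin 2) K) :
    LinearMap.trace k V (E R ψ b * R g) =
      (Fintype.card K : k)⁻¹ * ∑ x, ψ (-(b * x)) * LinearMap.trace k V (R (u x * g)) := by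
  rw [E, smul_mul_assoc, Finset.sum_mul, map_smul, map_sum, smul_eq_mul]
  congr 1
  refine Finset.sum_congr rfl fun x _ => ?_
  rw [smul_mul_assoc, map_smul, smul_eq_mul, R.map_mul]

/-- The coefficients of `X`. -/
noncomputable def J (ψ : AddChar K k) (b : K) : k := LinearMap.trace k V (E R ψ b * R (w 1))

theorem J_eq (b : K) : J R ψ b = (Fintype.card K : k)⁻¹ * ∑ x, ψ (-(b * x)) * X R x :=
  tr_E_mul R b (w 1)

include hψ hK in
theorem X_eq (τ : K) : X R τ = ∑ b, ψ (b * τ) * J R ψ b := by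
  rw [X, map_mul, ← mul_one (R (u τ)), ← sum_E R hψ hK, Finset.mul_sum, Finset.sum_mul, map_sum]
  refine Finset.sum_congr rfl fun b _ => ?_
  rw [R_mul_E, smul_mul_assoc, map_smul, smul_eq_mul, J]

include hψ hK in
theorem tr_E_w (hspan : Submodule.span k (Set.range R) = ⊤)
    (hall : ∀ b : K, b ≠ 0 → finrank k (LinearMap.range (E R ψ b)) = 1) (b : K) (c : Kˣ) :
    LinearMap.trace k V (E R ψ b * R (w c)) = J R ψ (b / c) := by
  rw [tr_E_mul, J_eq]
  congr 1
  rw [← Equiv.sum_comp (Equiv.mulRight₀ (c : K) c.ne_zero) (fun x : K => ψ (-(b / c * x)) * X R x)]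
  refine Finset.sum_congr rfl fun x _ => ?_
  change _ = ψ (-(b / c * (x * c))) * X R (x * c)
  have h1 : b / c * (x * c) = b * x := by
    have := c.ne_zero
    field_simp
  rw [h1, tr_eq_X R hψ hK hspan hall, mt_uwc]
  intro ζ _
  apply ne_t_of_low
  rw [coe_uwc]
  simp

theorem J_zero (h0 : E R ψ 0 = 0) : J R ψ 0 = 0 := by
  rw [J, h0, zero_mul, map_zero]

include hK in
theorem sum_X (h0 : E R ψ 0 = 0) : ∑ τ, X R τ = 0 := by
  have h1 := J_eq R (ψ := ψ) 0
  rw [J, h0, zero_mul, map_zero] at h1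
  have h2 := (mul_eq_zero.1 h1.symm).resolve_left (inv_ne_zero hK)
  rw [← h2]
  refine Finset.sum_congr rfl fun x _ => ?_
  rw [zero_mul, neg_zero, AddChar.map_zero_eq_one, one_mul]

section ClassSum

variable [DecidableEq K] [Fintype (SpecialLinearGroup (Fin 2) K)] [Fintype Kˣ]

/-- The sum of all elements of trace `τ`. -/
noncomputable def S (τ : K) : Module.End k V := ∑ g, if mt g = τ then R g else 0

theorem S_comm (τ : K) (h : SpecialLinearGroup (Fin 2) K) : R h * S R τ = S R τ * R h := by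
  unfold S
  rw [Finset.mul_sum, Finset.sum_mul,
    ← Equiv.sum_comp (MulAut.conj h).toEquiv (fun g => (if mt g = τ then R g else 0) * R h)]
  refine Finset.sum_congr rfl fun g _ => ?_
  change _ = (if mt (h * g * h⁻¹) = τ then R (h * g * h⁻¹) else 0) * R h
  rw [mt_conj]
  by_cases hg : mt g = τ
  · rw [if_pos hg, if_pos hg, ← R.map_mul, ← R.map_mul, inv_mul_cancel_right]
  · rw [if_neg hg, if_neg hg, mul_zero, zero_mul]

include hψ hK in
/-- **The class sums.** -/
theorem S_eq (hspan : Submodule.span k (Set.range R) = ⊤)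
    (hall : ∀ b : K, b ≠ 0 → finrank k (LinearMap.range (E R ψ b)) = 1) (h0 : E R ψ 0 = 0) (τ : K) :
    S R τ = ((Fintype.card K : k) * X R τ) • 1 := by
  obtain ⟨c, hc⟩ := scalar_of_comm R hspan (S_comm R τ)
  have h1 : LinearMap.trace k V (E R ψ 1 * S R τ) = c := by
    rw [hc, mul_smul_comm, mul_one, map_smul, trace_E R hψ hK, hall 1 one_ne_zero, Nat.cast_one, smul_eq_mul, mul_one]
  rw [hc, ← h1]
  congr 1
  unfold S
  rw [Finset.mul_sum, map_sum, sum_cell]
  have e1 : ∀ (a : Kˣ), ∑ x, LinearMap.trace k V (E R ψ 1 * if mt (u x * t a) = τ then R (u x * t a) else 0) = 0 := by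
    intro a
    have h2 : ∀ x : K, LinearMap.trace k V (E R ψ 1 * if mt (u x * t a) = τ then R (u x * t a) else 0) =
        ψ (x * 1) * (LinearMap.trace k V (E R ψ 1 * if (a : K) + ((a⁻¹ : Kˣ) : K) = τ then R (t a) else 0)) := by
      intro x
      rw [mt_utx]
      by_cases h : (a : K) + ((a⁻¹ : Kˣ) : K) = τ
      · rw [if_pos h, if_pos h, R.map_mul, ← mul_assoc, E_mul_R, smul_mul_assoc, map_smul, smul_eq_mul, one_mul,
          mul_one]
      · rw [if_neg h, if_neg h, mul_zero, map_zero, mul_zero]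
    rw [Finset.sum_congr rfl fun x _ => h2 x, ← Finset.sum_mul, AddChar.sum_mulShift 1 hψ, if_neg one_ne_zero,
      Nat.cast_zero, zero_mul]
  rw [Finset.sum_congr rfl fun a _ => e1 a, Finset.sum_const_zero, zero_add]
  have e2 : ∀ c : Kˣ, ∑ x, ∑ y, LinearMap.trace k V
      (E R ψ 1 * if mt (u x * w c * u y) = τ then R (u x * w c * u y) else 0) =
      (Fintype.card K : k) * (ψ (((c⁻¹ : Kˣ) : K) * τ) * J R ψ ((c⁻¹ : Kˣ) : K)) := by
    intro c
    have h2 : ∀ x : K, ∑ y, LinearMap.trace k V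
        (E R ψ 1 * if mt (u x * w c * u y) = τ then R (u x * w c * u y) else 0) =
        ψ (((c⁻¹ : Kˣ) : K) * τ) * J R ψ ((c⁻¹ : Kˣ) : K) := by
      intro x
      rw [Finset.sum_eq_single (((c⁻¹ : Kˣ) : K) * τ - x)]
      · rw [if_pos, R.map_mul, ← mul_assoc, LinearMap.trace_mul_comm, ← mul_assoc, R_mul_E, smul_mul_assoc, map_smul,
          R.map_mul, ← mul_assoc, E_mul_R, smul_mul_assoc, map_smul, tr_E_w R hψ hK hspan hall, smul_eq_mul,
          smul_eq_mul, ← mul_assoc, ← AddChar.map_add_eq_mul]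
        · congr 2
          · ring
          · rw [one_div, Units.val_inv_eq_inv_val]
        · rw [mt_uwcu, Units.val_inv_eq_inv_val]
          have := c.ne_zero
          field_simp
          ring
      · intro y _ hy
        rw [if_neg, mul_zero, map_zero]
        rw [mt_uwcu]
        intro h
        apply hy
        rw [← h, Units.val_inv_eq_inv_val]
        have := c.ne_zero
        field_simp
        ring
      · intro h
        exact absurd (Finset.mem_univ _) h
    rw [Finset.sum_congr rfl fun x _ => h2 x, Finset.sum_const, Finset.card_univ, nsmul_eq_mul]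
  rw [Finset.sum_congr rfl fun c _ => e2 c, ← Finset.mul_sum]
  congr 1
  rw [X_eq R hψ hK, ← Finset.add_sum_erase _ _ (Finset.mem_univ (0 : K)), J_zero R h0, mul_zero, zero_add]
  rw [← Equiv.sum_comp (Equiv.inv Kˣ) (fun c : Kˣ => ψ (((c⁻¹ : Kˣ) : K) * τ) * J R ψ ((c⁻¹ : Kˣ) : K))]
  simp only [Equiv.inv_apply, inv_inv]
  symm
  refine Finset.sum_bij' (fun b hb => Units.mk0 b (Finset.ne_of_mem_erase hb)) (fun c _ => (c : K))
    (fun b hb => Finset.mem_univ _) (fun c _ => Finset.mem_erase.2 ⟨c.ne_zero, Finset.mem_univ _⟩)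
    (fun b hb => rfl) (fun c _ => Units.ext rfl) (fun b hb => rfl)

theorem mt_mul_uw (g : SpecialLinearGroup (Fin 2) K) (σ : K) :
    mt (g * (u σ * w 1)) = g.1 0 0 * σ + g.1 0 1 - g.1 1 0 := by
  have h1 : (g * (u σ * w 1)).1 = g.1 * (u σ * w 1).1 := rfl
  rw [mt, h1, coe_uw, Matrix.mul_apply, Matrix.mul_apply, Fin.sum_univ_two, Fin.sum_univ_two]
  simp
  ring

/-- The pairs of traces. -/
theorem card_pair (σ τ ρ : K) :
    (Finset.univ.filter fun g : SpecialLinearGroup (Fin 2) K => mt g = τ ∧ mt (g * (u σ * w 1)) = ρ).card =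
      (Finset.univ.filter fun p : K × K => L2N.N σ p - τ * p.1 + ρ * p.2 + 1 = 0).card := by
  apply Finset.card_bij (fun g _ => (g.1 0 0, g.1 1 0))
  · intro g hg
    rw [Finset.mem_filter] at hg ⊢
    refine ⟨Finset.mem_univ _, ?_⟩
    obtain ⟨-, h1, h2⟩ := hg
    rw [mt_mul_uw] at h2
    rw [mt] at h1
    have hdet : g.1 0 0 * g.1 1 1 - g.1 0 1 * g.1 1 0 = 1 := by
      have := g.2
      rwa [Matrix.det_fin_two] at this
    unfold L2N.N
    simp only
    linear_combination g.1 0 0 * h1 - g.1 1 0 * h2 - hdet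
  · intro g hg g' hg' h
    rw [Finset.mem_filter] at hg hg'
    obtain ⟨-, h1, h2⟩ := hg
    obtain ⟨-, h1', h2'⟩ := hg'
    rw [mt_mul_uw] at h2 h2'
    rw [mt] at h1 h1'
    have e1 := congrArg Prod.fst h
    have e2 := congrArg Prod.snd h
    simp only at e1 e2
    apply Subtype.ext
    ext i j
    fin_cases i <;> fin_cases j
    · exact e1
    · change g.1 0 1 = g'.1 0 1
      linear_combination h2 - h2' - σ * e1 + e2
    · exact e2
    · change g.1 1 1 = g'.1 1 1
      linear_combination h1 - h1' - e1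
  · rintro ⟨x, z⟩ hp
    rw [Finset.mem_filter] at hp
    have h1 := hp.2
    unfold L2N.N at h1
    simp only at h1
    obtain ⟨g, hg⟩ : ∃ g : SpecialLinearGroup (Fin 2) K, g.1 = !![x, ρ + z - x * σ; z, τ - x] := by
      refine ⟨⟨_, ?_⟩, rfl⟩
      rw [Matrix.det_fin_two_of]
      linear_combination -h1
    refine ⟨g, ?_, ?_⟩
    · rw [Finset.mem_filter, mt_mul_uw, mt, hg]
      refine ⟨Finset.mem_univ _, ?_, ?_⟩ <;> simp
    · rw [hg]
      rfl

variable (cz : Kˣ → k) (hcz : ∀ ζ : Kˣ, ζ ^ 2 = 1 → R (t ζ) = cz ζ • 1)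

include hψ hK in
theorem finrank_cast (hall : ∀ b : K, b ≠ 0 → finrank k (LinearMap.range (E R ψ b)) = 1) (h0 : E R ψ 0 = 0) :
    (finrank k V : k) = Fintype.card K - 1 := by
  rw [finrank_eq_sum R hψ hK, ← Finset.add_sum_erase _ _ (Finset.mem_univ (0 : K)), h0, LinearMap.range_zero,
    finrank_bot, zero_add, Finset.sum_congr rfl fun b hb => hall b (Finset.ne_of_mem_erase hb), Finset.sum_const,
    Finset.card_erase_of_mem (Finset.mem_univ _), Finset.card_univ, smul_eq_mul, mul_one,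
    Nat.cast_sub Fintype.card_pos, Nat.cast_one]

include hψ hK hcz in
theorem X_two (hspan : Submodule.span k (Set.range R) = ⊤)
    (hall : ∀ b : K, b ≠ 0 → finrank k (LinearMap.range (E R ψ b)) = 1) (h0 : E R ψ 0 = 0)
    {ζ : Kˣ} (hζ : ζ ^ 2 = 1) : X R (2 * (ζ : K)) = - cz ζ := by
  have e2 : ζ⁻¹ = ζ := inv_eq_of_mul_eq_one_right (by rw [← sq, hζ])
  have h1 := tr_eq_X R hψ hK hspan hall (g := u 1 * t ζ) (by
    intro ζ' _ h
    have h2 : (u 1 * t ζ).1 0 1 = (t ζ').1 0 1 := by rw [h]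
    rw [coe_utx] at h2
    simp at h2)
  rw [mt_utx, e2, ← two_mul] at h1
  rw [← h1, R.map_mul, hcz ζ hζ, mul_smul_comm, mul_one, map_smul, trace_u_ne R hψ hK hall one_ne_zero, h0,
    LinearMap.range_zero, finrank_bot, Nat.cast_zero, zero_sub, smul_eq_mul, mul_neg, mul_one]

include hψ hK hcz in
theorem tr_eq_add (hspan : Submodule.span k (Set.range R) = ⊤)
    (hall : ∀ b : K, b ≠ 0 → finrank k (LinearMap.range (E R ψ b)) = 1) (h0 : E R ψ 0 = 0)
    (g : SpecialLinearGroup (Fin 2) K) :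
    LinearMap.trace k V (R g) = X R (mt g) +
      ∑ ζ : Kˣ, if ζ ^ 2 = 1 ∧ g = t ζ then (Fintype.card K : k) * cz ζ else 0 := by
  by_cases hg : ∃ ζ : Kˣ, ζ ^ 2 = 1 ∧ g = t ζ
  · obtain ⟨ζ, hζ, rfl⟩ := hg
    rw [Finset.sum_eq_single ζ]
    · rw [if_pos ⟨hζ, rfl⟩]
      have e2 : ζ⁻¹ = ζ := inv_eq_of_mul_eq_one_right (by rw [← sq, hζ])
      have e3 : mt (t ζ) = 2 * (ζ : K) := by
        rw [mt_t, e2, two_mul]
      rw [e3, X_two R hψ hK cz hcz hspan hall h0 hζ, hcz ζ hζ, map_smul, LinearMap.trace_one,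
        finrank_cast R hψ hK hall h0, smul_eq_mul]
      ring
    · intro ζ' _ hne
      rw [if_neg]
      rintro ⟨-, h⟩
      apply hne
      have h2 : (t ζ).1 0 0 = (t ζ').1 0 0 := by rw [h]
      exact (Units.ext h2).symm
    · intro h
      exact absurd (Finset.mem_univ _) h
  · rw [Finset.sum_eq_zero, add_zero, tr_eq_X R hψ hK hspan hall]
    · intro ζ hζ h
      exact hg ⟨ζ, hζ, h⟩
    · intro ζ _
      rw [if_neg]
      intro h
      exact hg ⟨ζ, h⟩

/-- The conic in `ρ`. -/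
def conic (σ τ : K) : Finset K := Finset.univ.filter fun ρ : K => τ ^ 2 - σ * τ * ρ + ρ ^ 2 + σ ^ 2 - 4 = 0

include hψ hK hcz in
/-- **The class sum identity.** -/
theorem X_mul (hspan : Submodule.span k (Set.range R) = ⊤)
    (hall : ∀ b : K, b ≠ 0 → finrank k (LinearMap.range (E R ψ b)) = 1) (h0 : E R ψ 0 = 0)
    {σ : K} (hσ : ∀ x : K, x * x - σ * x + 1 ≠ 0) (τ : K) :
    X R τ * X R σ = - (∑ ρ ∈ conic σ τ, X R ρ) + ∑ ζ : Kˣ, if ζ ^ 2 = 1 ∧ (ζ : K) * σ = τ then cz ζ else 0 := by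
  apply mul_left_cancel₀ hK
  have h1 : LinearMap.trace k V (S R τ * R (u σ * w 1)) = (Fintype.card K : k) * (X R τ * X R σ) := by
    rw [S_eq R hψ hK hspan hall h0, smul_mul_assoc, one_mul, map_smul, smul_eq_mul, ← mul_assoc]
    rfl
  rw [← h1, S, Finset.sum_mul, map_sum]
  have h2 : ∀ g : SpecialLinearGroup (Fin 2) K,
      LinearMap.trace k V ((if mt g = τ then R g else 0) * R (u σ * w 1)) =
      (if mt g = τ then X R (mt (g * (u σ * w 1))) else 0) +
        ∑ ζ : Kˣ, if mt g = τ ∧ ζ ^ 2 = 1 ∧ g * (u σ * w 1) = t ζ then (Fintype.card K : k) * cz ζ else 0 := by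
    intro g
    by_cases hg : mt g = τ
    · rw [if_pos hg, if_pos hg, ← R.map_mul, tr_eq_add R hψ hK cz hcz hspan hall h0]
      congr 1
      refine Finset.sum_congr rfl fun ζ _ => ?_
      congr 1
      exact propext ⟨fun h => ⟨hg, h⟩, fun h => h.2⟩
    · rw [if_neg hg, if_neg hg, zero_mul, map_zero, zero_add, Finset.sum_eq_zero]
      intro ζ _
      rw [if_neg]
      rintro ⟨h, -⟩
      exact hg h
  rw [Finset.sum_congr rfl fun g _ => h2 g, Finset.sum_add_distrib]
  have h3 : (∑ g : SpecialLinearGroup (Fin 2) K, if mt g = τ then X R (mt (g * (u σ * w 1))) else 0) =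
      - ((Fintype.card K : k) * ∑ ρ ∈ conic σ τ, X R ρ) := by
    have h4 : (∑ g : SpecialLinearGroup (Fin 2) K, if mt g = τ then X R (mt (g * (u σ * w 1))) else 0) =
        ∑ ρ : K, ∑ g : SpecialLinearGroup (Fin 2) K, if mt g = τ ∧ mt (g * (u σ * w 1)) = ρ then X R ρ else 0 := by
      rw [Finset.sum_comm]
      refine Finset.sum_congr rfl fun g _ => ?_
      rw [Finset.sum_eq_single (mt (g * (u σ * w 1)))]
      · congr 1
        exact propext ⟨fun h => ⟨h, rfl⟩, fun h => h.1⟩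
      · intro ρ _ hne
        rw [if_neg]
        rintro ⟨-, h⟩
        exact hne h.symm
      · intro h
        exact absurd (Finset.mem_univ _) h
    rw [h4]
    have h5 : ∀ ρ : K, (∑ g : SpecialLinearGroup (Fin 2) K,
        if mt g = τ ∧ mt (g * (u σ * w 1)) = ρ then X R ρ else 0) =
        ((Fintype.card K : k) + 1) * X R ρ - if τ ^ 2 - σ * τ * ρ + ρ ^ 2 + σ ^ 2 - 4 = 0 then
          (Fintype.card K : k) * X R ρ else 0 := by
      intro ρ
      rw [← Finset.sum_filter, Finset.sum_const, card_pair, L2N.card_conic hσ, nsmul_eq_mul]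
      by_cases h : τ ^ 2 - σ * τ * ρ + ρ ^ 2 + σ ^ 2 - 4 = 0
      · rw [if_pos h, if_pos h, Nat.cast_one]
        ring
      · rw [if_neg h, if_neg h, sub_zero]
        push_cast
        ring
    rw [Finset.sum_congr rfl fun ρ _ => h5 ρ, Finset.sum_sub_distrib, ← Finset.mul_sum, sum_X R hK h0, mul_zero,
      zero_sub, ← Finset.sum_filter, Finset.mul_sum]
    rfl
  have h6 : (∑ g : SpecialLinearGroup (Fin 2) K, ∑ ζ : Kˣ,
      if mt g = τ ∧ ζ ^ 2 = 1 ∧ g * (u σ * w 1) = t ζ then (Fintype.card K : k) * cz ζ else 0) =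
      (Fintype.card K : k) * ∑ ζ : Kˣ, if ζ ^ 2 = 1 ∧ (ζ : K) * σ = τ then cz ζ else 0 := by
    rw [Finset.sum_comm, Finset.mul_sum]
    refine Finset.sum_congr rfl fun ζ _ => ?_
    by_cases hζ : ζ ^ 2 = 1
    · have hmt : mt (t ζ * (u σ * w 1)⁻¹) = (ζ : K) * σ := by
        have e1 : (t ζ * (u σ * w 1)⁻¹).1 = (t ζ).1 * ((u σ * w 1)⁻¹).1 := rfl
        have e3 : (t ζ).1 = !![(ζ : K), 0; 0, ((ζ⁻¹ : Kˣ) : K)] := rfl
        have e2 : ζ⁻¹ = ζ := inv_eq_of_mul_eq_one_right (by rw [← sq, hζ])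
        have e4 : ((u σ * w 1)⁻¹).1 = !![0, 1; -1, σ] := by
          rw [Matrix.SpecialLinearGroup.coe_inv, coe_uw, Matrix.adjugate_fin_two_of]
          simp
        rw [mt, e1, e3, e4, e2, Matrix.mul_apply, Matrix.mul_apply, Fin.sum_univ_two, Fin.sum_univ_two]
        simp
      rw [Finset.sum_eq_single (t ζ * (u σ * w 1)⁻¹)]
      · rw [hmt, inv_mul_cancel_right]
        by_cases h : (ζ : K) * σ = τ
        · rw [if_pos ⟨h, hζ, rfl⟩, if_pos ⟨hζ, h⟩]
        · rw [if_neg fun h' => h h'.1, if_neg fun h' => h h'.2, mul_zero]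
      · intro g _ hne
        rw [if_neg]
        rintro ⟨-, -, h⟩
        apply hne
        rw [← h, mul_inv_cancel_right]
      · intro h
        exact absurd (Finset.mem_univ _) h
    · rw [if_neg fun h' => hζ h'.1, mul_zero, Finset.sum_eq_zero]
      intro g _
      rw [if_neg fun h' => hζ h'.2.1]
  rw [h3, h6]
  ring

omit [Fintype K] [DecidableEq K] [Fintype (SpecialLinearGroup (Fin 2) K)] [Fintype Kˣ] in
theorem unit_eq_of_two_mul {ε ε' : Kˣ} (h : ε ^ 2 = 1) (h' : ε' ^ 2 = 1) (h2 : 2 * (ε : K) = 2 * (ε' : K)) :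
    ε = ε' := by
  by_cases h0 : (2 : K) = 0
  · have h3 : ∀ ε : Kˣ, ε ^ 2 = 1 → ε = 1 := by
      intro ε hε
      have h4 : ((ε : K) - 1) ^ 2 = 0 := by
        have h5 : (ε : K) ^ 2 = 1 := by rw [← Units.val_pow_eq_pow_val, hε, Units.val_one]
        linear_combination h5 + (1 - (ε : K)) * h0
      exact Units.ext (by simpa [sub_eq_zero] using h4)
    rw [h3 ε h, h3 ε' h']
  · exact Units.ext (mul_left_cancel₀ h0 h2)

/-- The modified trace: doubled at `± 2`. -/
noncomputable def Y (ρ : K) : k := X R ρ - ∑ ζ : Kˣ, if ζ ^ 2 = 1 ∧ 2 * (ζ : K) = ρ then cz ζ else 0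

omit [Fintype (SpecialLinearGroup (Fin 2) K)] in
theorem Y_eq_X {τ : K} (h : τ ^ 2 - 4 ≠ 0) : Y R cz τ = X R τ := by
  rw [Y, Finset.sum_eq_zero, sub_zero]
  intro ζ _
  rw [if_neg]
  rintro ⟨h1, rfl⟩
  apply h
  have h5 : (ζ : K) ^ 2 = 1 := by rw [← Units.val_pow_eq_pow_val, h1, Units.val_one]
  linear_combination 4 * h5

include hψ hK hcz in
omit [Fintype (SpecialLinearGroup (Fin 2) K)] in
theorem Y_two (hspan : Submodule.span k (Set.range R) = ⊤)
    (hall : ∀ b : K, b ≠ 0 → finrank k (LinearMap.range (E R ψ b)) = 1) (h0 : E R ψ 0 = 0)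
    {ζ : Kˣ} (hζ : ζ ^ 2 = 1) : Y R cz (2 * (ζ : K)) = -(2 * cz ζ) := by
  rw [Y, Finset.sum_eq_single ζ, if_pos ⟨hζ, rfl⟩, X_two R hψ hK cz hcz hspan hall h0 hζ]
  · ring
  · intro ζ' _ hne
    rw [if_neg]
    rintro ⟨h1, h2⟩
    exact hne (unit_eq_of_two_mul h1 hζ h2)
  · intro h
    exact absurd (Finset.mem_univ _) h

include hψ hK hcz in
theorem X_mul_Y (hspan : Submodule.span k (Set.range R) = ⊤)
    (hall : ∀ b : K, b ≠ 0 → finrank k (LinearMap.range (E R ψ b)) = 1) (h0 : E R ψ 0 = 0)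
    {σ : K} (hσ : ∀ x : K, x * x - σ * x + 1 ≠ 0) (τ : K) :
    X R τ * X R σ = - ∑ ρ ∈ conic σ τ, Y R cz ρ := by
  rw [X_mul R hψ hK cz hcz hspan hall h0 hσ]
  have h1 : ∑ ρ ∈ conic σ τ, Y R cz ρ = ∑ ρ ∈ conic σ τ, X R ρ -
      ∑ ζ : Kˣ, if ζ ^ 2 = 1 ∧ (ζ : K) * σ = τ then cz ζ else 0 := by
    unfold Y
    rw [Finset.sum_sub_distrib, Finset.sum_comm]
    congr 1
    refine Finset.sum_congr rfl fun ζ _ => ?_
    have h5 : ζ ^ 2 = 1 → (ζ : K) ^ 2 = 1 := fun h1 => by rw [← Units.val_pow_eq_pow_val, h1, Units.val_one]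
    by_cases h : ζ ^ 2 = 1 ∧ (ζ : K) * σ = τ
    · rw [if_pos h, Finset.sum_eq_single (2 * (ζ : K)), if_pos ⟨h.1, rfl⟩]
      · intro ρ _ hne
        rw [if_neg]
        rintro ⟨-, h2⟩
        exact hne h2.symm
      · intro h2
        exfalso
        apply h2
        rw [conic, Finset.mem_filter]
        refine ⟨Finset.mem_univ _, ?_⟩
        rw [← h.2]
        linear_combination (4 - σ ^ 2) * h5 h.1
    · rw [if_neg h, Finset.sum_eq_zero]
      intro ρ hρ
      rw [if_neg]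
      rintro ⟨h2, rfl⟩
      apply h
      refine ⟨h2, ?_⟩
      rw [conic, Finset.mem_filter] at hρ
      have h6 : ((ζ : K) * σ - τ) ^ 2 = 0 := by
        linear_combination hρ.2 + (σ ^ 2 - 4) * h5 h2
      exact sub_eq_zero.1 (pow_eq_zero_iff two_ne_zero |>.1 h6)
  rw [h1]
  ring

include hψ hK hcz in
/-- **The recursion.** -/
theorem Y_rec (hspan : Submodule.span k (Set.range R) = ⊤)
    (hall : ∀ b : K, b ≠ 0 → finrank k (LinearMap.range (E R ψ b)) = 1) (h0 : E R ψ 0 = 0)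
    {σ : K} (hσ : ∀ x : K, x * x - σ * x + 1 ≠ 0) {τ a b : K} (h1 : a + b = σ * τ)
    (h2 : a * b = σ ^ 2 + τ ^ 2 - 4) : Y R cz τ * Y R cz σ = - (Y R cz a + Y R cz b) := by
  have hD := L2N.disc_ne hσ
  have hD' : σ ^ 2 - 4 ≠ 0 := fun h => hD (by linear_combination -h)
  rw [Y_eq_X R cz hD']
  have hroots : ∀ ρ : K, ρ ∈ conic σ τ ↔ ρ = a ∨ ρ = b := by
    intro ρ
    rw [conic, Finset.mem_filter]
    have e : τ ^ 2 - σ * τ * ρ + ρ ^ 2 + σ ^ 2 - 4 = (ρ - a) * (ρ - b) := by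
      linear_combination -h2 - ρ * h1 * (-1)
    rw [e, mul_eq_zero, sub_eq_zero, sub_eq_zero]
    exact ⟨fun h => h.2, fun h => ⟨Finset.mem_univ _, h⟩⟩
  by_cases ht : τ ^ 2 - 4 = 0
  · have hab : a = b := by
      have h3 : (a - b) ^ 2 = 0 := by
        linear_combination (a + b + σ * τ) * h1 - 4 * h2 + (σ ^ 2 - 4) * ht
      exact sub_eq_zero.1 (pow_eq_zero_iff two_ne_zero |>.1 h3)
    have hc : conic σ τ = {a} := by
      ext ρ
      rw [hroots, Finset.mem_singleton, hab, or_self]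
    have h4 := X_mul_Y R hψ hK cz hcz hspan hall h0 hσ τ
    rw [hc, Finset.sum_singleton] at h4
    obtain ⟨ζ, hζ, hζτ⟩ : ∃ ζ : Kˣ, ζ ^ 2 = 1 ∧ 2 * (ζ : K) = τ := by
      obtain ⟨g, hg⟩ : ∃ g : SpecialLinearGroup (Fin 2) K, mt g = τ := ⟨u τ * w 1, mt_uw τ⟩
      obtain ⟨h, ε, y, hε, hg'⟩ := exists_conj_unip g (by
        change mt g ^ 2 - 4 = 0
        rw [hg]; exact ht)
      refine ⟨ε, hε, ?_⟩
      have e2 : ε⁻¹ = ε := inv_eq_of_mul_eq_one_right (by rw [← sq, hε])
      rw [← hg, hg', mt_conj, t_mul_u, mt_utx, e2, two_mul]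
    rw [← hζτ, Y_two R hψ hK cz hcz hspan hall h0 hζ]
    rw [← hζτ, X_two R hψ hK cz hcz hspan hall h0 hζ] at h4
    rw [← hab]
    linear_combination 2 * h4
  · have hab : a ≠ b := by
      intro h
      have h3 : (σ ^ 2 - 4) * (τ ^ 2 - 4) = 0 := by
        rw [h] at h1 h2
        linear_combination -(2 * b + σ * τ) * h1 + 4 * h2
      rcases mul_eq_zero.1 h3 with h4 | h4
      · exact hD' h4
      · exact ht h4
    have hc : conic σ τ = {a, b} := by
      ext ρ
      rw [hroots, Finset.mem_insert, Finset.mem_singleton]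
    rw [Y_eq_X R cz ht, X_mul_Y R hψ hK cz hcz hspan hall h0 hσ τ, hc, Finset.sum_pair hab]

end ClassSum

end Cusp

end Cfsg.Agent.H931.L2T
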