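import Cfsg.Agent.H464.L2StageOne
import Cfsg.Agent.H920.SympD

/-!
# The type of the invariant form of an irreducible self-dual `SL₂(q)`-module, cross characteristic (helper931)

`R : SL₂(K) → End V`, `V` over a field `k` of characteristic `≠ 2` with `|K| ≠ 0`, `R` spans `End V`, both weights
`b`, `-b` (`b ≠ 0`) of the unipotent group occur. An invariant form with `f w v = κ f v w` (`κ = ± 1`) has `κ = ε`, where
`R(-1) = ε`.
-/

set_option autoImplicit false
set_option linter.unusedSectionVars false

namespace Cfsg.Agent.H931.L2T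

open Matrix Module Cfsg Cfsg.Geo Cfsg.Agent.H464.Sl2 Cfsg.Agent.H915.LD

section Form

variable {K : Type*} [Field K] [Fintype K] {k : Type*} [Field k] {V : Type*} [AddCommGroup V] [Module k V]
  (R : SpecialLinearGroup (Fin 2) K →* Module.End k V) {ψ : AddChar K k}

theorem adj (f : V →ₗ[k] V →ₗ[k] k) (hf : ∀ g v w, f (R g v) (R g w) = f v w) (b : K) (v w : V) :
    f (E R ψ b v) w = f v (E R ψ (-b) w) := by
  have h1 : ∀ x v w, f (R (u x) v) w = f v (R (u (-x)) w) := by
    intro x v w
    rw [← hf (u (-x)) (R (u x) v) w, ← Module.End.mul_apply, ← map_mul, ← u_add, neg_add_cancel, u_zero, map_one,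
      Module.End.one_apply]
  simp only [E, LinearMap.smul_apply, LinearMap.sum_apply, map_smul, map_sum, smul_eq_mul, h1]
  congr 1
  rw [← Equiv.sum_comp (Equiv.neg K)]
  refine Finset.sum_congr rfl fun x _ => ?_
  rw [Equiv.neg_apply, neg_neg]
  congr 3
  ring

theorem skew (h2 : (2 : k) ≠ 0) (f : V →ₗ[k] V →ₗ[k] k) (hf : ∀ g v w, f (R g v) (R g w) = f v w) {κ ε : k}
    (hκ : ∀ v w, f w v = κ * f v w) (hκε : κ * ε = -1) {g : SpecialLinearGroup (Fin 2) K}
    (hg : R (g * g) = ε • 1) (v : V) : f v (R g v) = 0 := by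
  have h1 : f v (R g v) = κ * ε * f v (R g v) := by
    calc f v (R g v) = f (R g v) (R g (R g v)) := (hf g _ _).symm
      _ = f (R g v) (ε • v) := by
          rw [← Module.End.mul_apply, ← map_mul, hg]
          rfl
      _ = κ * ε * f v (R g v) := by
          rw [map_smul, smul_eq_mul, hκ v (R g v)]
          ring
  rw [hκε] at h1
  have h3 : (2 : k) * f v (R g v) = 0 := by linear_combination h1
  exact (mul_eq_zero.1 h3).resolve_left h2

variable [FiniteDimensional k V] (hψ : ψ.IsPrimitive) (hK : (Fintype.card K : k) ≠ 0)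

include hψ hK in
theorem skew_E (hspan : Submodule.span k (Set.range R) = ⊤) {b : K} (hb : b ≠ 0) (h2 : (2 : k) ≠ 0)
    (f : V →ₗ[k] V →ₗ[k] k) (hf : ∀ g v w, f (R g v) (R g w) = f v w) (hnd : ∀ w, (∀ v, f v w = 0) → w = 0) {κ ε : k}
    (hκ : ∀ v w, f w v = κ * f v w) (hκε : κ * ε = -1) {g : SpecialLinearGroup (Fin 2) K}
    (hg : R (g * g) = ε • 1) : E R ψ (-b) * R g * E R ψ b = 0 := by
  have h1 := finrank_E_le_one R hψ hK hspan hb
  rw [finrank_le_one_iff] at h1
  obtain ⟨v₀, hv₀⟩ := h1
  ext w
  rw [LinearMap.zero_apply]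
  apply hnd
  intro v
  rw [Module.End.mul_apply, Module.End.mul_apply, ← adj R f hf]
  obtain ⟨α, hα⟩ := hv₀ ⟨E R ψ b v, LinearMap.mem_range_self _ _⟩
  obtain ⟨β, hβ⟩ := hv₀ ⟨E R ψ b w, LinearMap.mem_range_self _ _⟩
  have hα' : α • (v₀ : V) = E R ψ b v := congrArg Subtype.val hα
  have hβ' : β • (v₀ : V) = E R ψ b w := congrArg Subtype.val hβ
  rw [← hα', ← hβ', map_smul, map_smul, map_smul, LinearMap.smul_apply, skew R h2 f hf hκ hκε hg, smul_zero, smul_zero]

include hψ hK in
/-- **The type of the form.** -/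
theorem type_eq (hspan : Submodule.span k (Set.range R) = ⊤) {b : K} (hb : b ≠ 0) (hb1 : E R ψ b ≠ 0)
    (hb2 : E R ψ (-b) ≠ 0) (h2 : (2 : k) ≠ 0)
    (f : V →ₗ[k] V →ₗ[k] k) (hf : ∀ g v w, f (R g v) (R g w) = f v w) (hnd : ∀ w, (∀ v, f v w = 0) → w = 0) {κ ε : k}
    (hκ1 : κ = 1 ∨ κ = -1) (hε1 : ε = 1 ∨ ε = -1)
    (hκ : ∀ v w, f w v = κ * f v w) (hε : R (t (-1)) = ε • 1) : κ = ε := by
  by_contra hne
  have hκε : κ * ε = -1 := by
    rcases hκ1 with rfl | rfl <;> rcases hε1 with rfl | rfl
    · exact absurd rfl hne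
    · ring
    · ring
    · exact absurd rfl hne
  have key : ∀ g, E R ψ (-b) * R g * E R ψ b = 0 := by
    intro g
    rcases bruhat g with ⟨x, a, rfl⟩ | ⟨x, c, y, rfl⟩
    · have e1 : E R ψ (-b) * R (u x * t a) * E R ψ b = ψ (-b * x) • (E R ψ (-b) * R (t a) * E R ψ b) := by
        rw [map_mul, ← mul_assoc, E_mul_R, smul_mul_assoc, smul_mul_assoc]
      rw [e1]
      by_cases ha : b / (a : K) ^ 2 = -b
      · have ha2 : a * a = -1 := by
          apply Units.ext
          rw [Units.val_mul, Units.val_neg, Units.val_one, ← sq]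
          have ha0 : (a : K) ^ 2 ≠ 0 := pow_ne_zero 2 a.ne_zero
          rw [div_eq_iff ha0] at ha
          have h3 : b * ((a : K) ^ 2 + 1) = 0 := by linear_combination ha
          have h4 := (mul_eq_zero.1 h3).resolve_left hb
          linear_combination h4
        rw [skew_E R hψ hK hspan hb h2 f hf hnd hκ hκε (g := t a) (by rw [← t_mul, ha2]; exact hε), smul_zero]
      · rw [mul_assoc, t_mul_E, ← mul_assoc, E_mul_of_ne R hψ hK (fun h => ha h.symm), zero_mul, smul_zero]
    · have e1 : E R ψ (-b) * R (u x * w c * u y) * E R ψ b =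
          (ψ (-b * x) * ψ (b * y)) • (E R ψ (-b) * R (w c) * E R ψ b) := by
        rw [map_mul, map_mul]
        calc E R ψ (-b) * (R (u x) * R (w c) * R (u y)) * E R ψ b
            = (E R ψ (-b) * R (u x)) * R (w c) * (R (u y) * E R ψ b) := by simp only [mul_assoc]
          _ = _ := by
              rw [E_mul_R, R_mul_E]
              simp only [smul_mul_assoc, mul_smul_comm, smul_smul]
              rw [mul_comm (ψ (b * y))]
      rw [e1, skew_E R hψ hK hspan hb h2 f hf hnd hκ hκε (g := w c) (by
        rw [w_mul_w, div_self']; exact hε), smul_zero]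
  have key2 : ∀ A : Module.End k V, E R ψ (-b) * A * E R ψ b = 0 := by
    intro A
    have hA : A ∈ Submodule.span k (Set.range R) := by rw [hspan]; trivial
    induction hA using Submodule.span_induction with
    | mem x hx =>
      obtain ⟨g, rfl⟩ := hx
      exact key g
    | zero => simp
    | add x y _ _ hx hy => rw [mul_add, add_mul, hx, hy, add_zero]
    | smul a x _ hx => rw [mul_smul_comm, smul_mul_assoc, hx, smul_zero]
  obtain ⟨v, hv⟩ : ∃ v, E R ψ b v ≠ 0 := by
    by_contra hcon
    push Not at hcon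
    exact hb1 (LinearMap.ext hcon)
  obtain ⟨w', hw⟩ : ∃ v, E R ψ (-b) v ≠ 0 := by
    by_contra hcon
    push Not at hcon
    exact hb2 (LinearMap.ext hcon)
  obtain ⟨φ, hφ⟩ := exists_dual (k := k) hv
  have h3 := congrArg (fun A : Module.End k V => A v) (key2 (φ.smulRight w'))
  simp only [Module.End.mul_apply, LinearMap.smulRight_apply, hφ, one_smul, LinearMap.zero_apply] at h3
  exact hw h3

end Form

section Ext

variable {G : Type*} [Group G] {ι : Type} [Fintype ι] [DecidableEq ι] {F : Type*} [Field F] (ρ : G →* GL ι F)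

/-- An absolutely irreducible group of matrices spans the matrix algebra. -/
theorem span_eq_topI (habs : ActsAbsolutelyIrreducibly (matrixSet ρ.range)) :
    Submodule.span F (Set.range fun g : G => (ρ g : Matrix ι ι F)) = ⊤ := by
  have h := Cfsg.Agent.H919.adjoin_eq_top_of_absIrr habs
  rw [eq_top_iff]
  intro x _
  have hx : x ∈ Algebra.adjoin F (matrixSet ρ.range) := by rw [h]; trivial
  induction hx using Algebra.adjoin_induction with
  | mem x hx =>
    obtain ⟨_, ⟨g, rfl⟩, rfl⟩ := hx
    exact Submodule.subset_span ⟨g, rfl⟩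
  | algebraMap r =>
    rw [Algebra.algebraMap_eq_smul_one]
    refine Submodule.smul_mem _ _ (Submodule.subset_span ⟨1, ?_⟩)
    simp
  | add x y _ _ hx hy => exact Submodule.add_mem _ (hx trivial) (hy trivial)
  | mul x y _ _ hx hy =>
    have h1 := Submodule.mul_mem_mul (hx trivial) (hy trivial)
    rw [Submodule.span_mul_span] at h1
    refine Submodule.span_mono ?_ h1
    rintro _ ⟨_, ⟨g, rfl⟩, _, ⟨g', rfl⟩, rfl⟩
    exact ⟨g * g', by simp⟩

variable (k : Type*) [Field k] [Algebra F k]

/-- The representation over an extension field. -/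
noncomputable def extI : G →* Module.End k (ι → k) :=
  (Matrix.toLinAlgEquiv' : Matrix ι ι k ≃ₐ[k] _).toAlgHom.toRingHom.toMonoidHom.comp
    ((algebraMap F k).mapMatrix.toMonoidHom.comp ((Units.coeHom _).comp ρ))

theorem extI_apply (g : G) : extI ρ k g = Matrix.toLin' ((ρ g : Matrix ι ι F).map (algebraMap F k)) := rfl

theorem trace_extI (g : G) : LinearMap.trace k _ (extI ρ k g) = algebraMap F k (tr (ρ g)) := by
  rw [extI_apply, Matrix.trace_toLin'_eq]
  simp [Matrix.trace, tr]

theorem span_extI (h : Submodule.span F (Set.range fun g : G => (ρ g : Matrix ι ι F)) = ⊤) :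
    Submodule.span k (Set.range (extI ρ k)) = ⊤ := by
  classical
  have h1 : ∀ M : Matrix ι ι F,
      Matrix.toLin' (M.map (algebraMap F k)) ∈ Submodule.span k (Set.range (extI ρ k)) := by
    intro M
    have hM : M ∈ Submodule.span F (Set.range fun g : G => (ρ g : Matrix ι ι F)) := by
      rw [h]; trivial
    induction hM using Submodule.span_induction with
    | mem x hx =>
      obtain ⟨g, rfl⟩ := hx
      exact Submodule.subset_span ⟨g, rfl⟩
    | zero =>
      rw [Matrix.map_zero _ (map_zero _), map_zero]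
      exact Submodule.zero_mem _
    | add x y _ _ hx hy =>
      rw [Matrix.map_add _ (map_add _), map_add]
      exact Submodule.add_mem _ hx hy
    | smul a x _ hx =>
      have h2 : (a • x).map (algebraMap F k) = (algebraMap F k a) • x.map (algebraMap F k) := by
        ext i j
        simp
      rw [h2, map_smul]
      exact Submodule.smul_mem _ _ hx
  rw [eq_top_iff]
  intro f _
  have h2 : f = Matrix.toLin' (LinearMap.toMatrix' f) := by simp
  rw [h2, Matrix.matrix_eq_sum_single (LinearMap.toMatrix' f), map_sum]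
  refine Submodule.sum_mem _ fun i _ => ?_
  rw [map_sum]
  refine Submodule.sum_mem _ fun j _ => ?_
  have h3 : Matrix.single i j (LinearMap.toMatrix' f i j) =
      (LinearMap.toMatrix' f i j) • (Matrix.single i j (1 : F)).map (algebraMap F k) := by
    rw [Matrix.map_single, map_one, Matrix.smul_single, smul_eq_mul, mul_one]
  rw [h3, map_smul]
  exact Submodule.smul_mem _ _ (h1 _)

theorem extI_ne_one (hρ : ρ ≠ 1) : extI ρ k ≠ 1 := by
  intro h
  apply hρ
  ext1 g
  have h1 : extI ρ k g = 1 := by rw [h]; rfl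
  apply Units.ext
  change (ρ g : Matrix ι ι F) = 1
  have h2 : (ρ g : Matrix ι ι F).map (algebraMap F k) = 1 := by
    apply Matrix.toLin'.injective
    rw [← extI_apply, h1, Matrix.toLin'_one]
    rfl
  ext i j
  have h3 := congrFun (congrFun h2 i) j
  rw [Matrix.map_apply] at h3
  apply (algebraMap F k).injective
  rw [h3]
  by_cases hij : i = j
  · rw [hij]; simp
  · rw [Matrix.one_apply_ne hij, Matrix.one_apply_ne hij, map_zero]

end Ext

end Cfsg.Agent.H931.L2T
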