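import Cfsg.Agent.H931.L2Salie
import Cfsg.Agent.H931.L2Type

/-!
# Representations of `SL₂(q)` of degree `q - 1` in cross characteristic: the order of `θ` (helper931)

`cusp_order`: for `ρ : SL₂(K) →* GL ι F` absolutely irreducible, `card ι + 1 = |K|`, `char F = p ∤ |K|`, there is `d ∣ q + 1`
(the order of the root of unity `θ`) prime to `p`, `d ≠ 2`, `d = 1` only if `p ∣ q + 1` is odd, such that the traces are
fixed by `x ↦ x^(p^e)` iff `p^e ≡ ± 1 (mod d)`; `ρ(-1) = 1` iff `d ∣ (q+1)/2` (`p`, `q` odd).
-/

set_option autoImplicit false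
set_option linter.unusedSectionVars false

namespace Cfsg.Agent.H931.L2T

open Matrix Module Cfsg Cfsg.Geo Cfsg.Agent.H464.Sl2 L2N Cfsg.Agent.H915.LD

section One

variable {K : Type*} [Field K] [Fintype K] {k : Type*} [Field k] {V : Type*} [AddCommGroup V]
  [Module k V] [FiniteDimensional k V] (R : SpecialLinearGroup (Fin 2) K →* Module.End k V) {ψ : AddChar K k}
  (hψ : ψ.IsPrimitive) (hK : (Fintype.card K : k) ≠ 0)

include hψ hK in
/-- Split traces vanish. -/
theorem X_split (h0 : E R ψ 0 = 0) {τ a : K} (ha : a * a - τ * a + 1 = 0) (ht : τ ^ 2 - 4 ≠ 0) : X R τ = 0 := by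
  have ha0 : a ≠ 0 := by
    rintro rfl
    simp at ha
  have h5 : τ = a + a⁻¹ := by
    field_simp
    linear_combination -ha
  have h6 : mt (t (Units.mk0 a ha0)) = τ := by
    rw [mt_t, h5]
    simp
  have h7 : (Units.mk0 a ha0) ^ 2 ≠ 1 := by
    intro h
    have h8 : a ^ 2 = 1 := by
      have := congrArg Units.val h
      simpa using this
    apply ht
    rw [h5]
    field_simp
    linear_combination (a ^ 2 - 1) * h8
  have h8 := trace_eq_X R (t (Units.mk0 a ha0)) (by rw [h6]; exact ht)
  rw [h6, tr_t_zero R hψ hK h0 h7] at h8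
  exact h8.symm

include hψ hK in
/-- **`θ = 1` only if `q + 1 = 0` in `k`.** -/
theorem theta_one (hspan : Submodule.span k (Set.range R) = ⊤)
    (hall : ∀ b : K, b ≠ 0 → finrank k (LinearMap.range (E R ψ b)) = 1) (h0 : E R ψ 0 = 0) {σ : K} {ε : k}
    (C : Cusp R σ 1 ε) : ((Fintype.card K + 1 : ℕ) : k) = 0 := by
  classical
  obtain ⟨hX2, hX2'⟩ := X_pm R hψ hK hspan hall h0 C
  have h1 : ∀ ρ : K, X R ρ = ((Finset.univ.filter fun x : K => x * x - ρ * x + 1 = 0).card : k) - 2 := by
    intro ρ
    by_cases ht : ρ ^ 2 - 4 = 0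
    · have h3 : (ρ - 2) * (ρ + 2) = 0 := by linear_combination ht
      have h4 : ∀ e : K, e * e = 1 → (Finset.univ.filter fun x : K => x * x - (2 * e) * x + 1 = 0) = {e} := by
        intro e he
        ext x
        rw [Finset.mem_filter, Finset.mem_singleton]
        constructor
        · rintro ⟨-, hx⟩
          have h5 : (x - e) ^ 2 = 0 := by linear_combination hx + he
          exact sub_eq_zero.1 (pow_eq_zero_iff two_ne_zero |>.1 h5)
        · rintro rfl
          exact ⟨Finset.mem_univ _, by linear_combination -he⟩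
      by_cases h2 : ρ = 2
      · have h5 := h4 1 (one_mul 1)
        rw [mul_one] at h5
        rw [h2, h5, Finset.card_singleton, hX2]
        push_cast
        ring
      · have h5 : ρ = 2 * (-1) := by
          rcases mul_eq_zero.1 h3 with h | h
          · exact absurd (by linear_combination h) h2
          · linear_combination h
        have hK2 : (2 : K) ≠ 0 := by
          intro h
          apply h2
          rw [h5, h]
          ring
        have hodd : Fintype.card K % 2 = 1 := FiniteField.odd_card_of_char_ne_two (ringChar_ne_two hK2)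
        have h6 := C.half hK2 ((Fintype.card K + 1) / 2) (by omega)
        rw [one_pow] at h6
        rw [h5, h4 (-1) (by norm_num), Finset.card_singleton]
        have h7 := hX2' hK2
        rw [mul_neg, mul_one, h7, ← h6]
        push_cast
        ring
    · by_cases hs : ∀ x : K, x * x - ρ * x + 1 ≠ 0
      · obtain ⟨m, hm⟩ := C.surj ρ hs
        have h8 := C.tr m (by rw [← hm]; exact ht)
        rw [← hm, one_pow, inv_one, one_pow] at h8
        rw [h8, Finset.filter_false_of_mem fun x _ => hs x, Finset.card_empty]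
        push_cast
        ring
      · push Not at hs
        obtain ⟨a, ha⟩ := hs
        rw [X_split R hψ hK h0 ha ht]
        have ha0 : a ≠ 0 := by
          rintro rfl
          simp at ha
        have h5 : ρ = a + a⁻¹ := by
          field_simp
          linear_combination -ha
        have h6 : (Finset.univ.filter fun x : K => x * x - ρ * x + 1 = 0) = {a, a⁻¹} := by
          have hinv : a * a⁻¹ = 1 := mul_inv_cancel₀ ha0
          ext x
          rw [Finset.mem_filter, Finset.mem_insert, Finset.mem_singleton]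
          constructor
          · rintro ⟨-, hx⟩
            have h7 : (x - a) * (x - a⁻¹) = 0 := by
              rw [h5] at hx
              linear_combination hx + hinv
            rcases mul_eq_zero.1 h7 with h | h
            · exact Or.inl (sub_eq_zero.1 h)
            · exact Or.inr (sub_eq_zero.1 h)
          · intro h
            refine ⟨Finset.mem_univ _, ?_⟩
            rw [h5]
            rcases h with rfl | rfl
            · linear_combination -hinv
            · linear_combination -hinv
        rw [h6, Finset.card_pair]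
        · push_cast
          ring
        · intro h
          apply ht
          have h7 : a * a = 1 := by
            nth_rewrite 2 [h]
            exact mul_inv_cancel₀ ha0
          rw [h5, ← h]
          linear_combination 4 * h7
  have h2 := sum_X R hK h0
  rw [Finset.sum_congr rfl fun ρ _ => h1 ρ, Finset.sum_sub_distrib, ← Nat.cast_sum] at h2
  have h3 : ∑ ρ : K, (Finset.univ.filter fun x : K => x * x - ρ * x + 1 = 0).card + 1 = Fintype.card K := by
    have h4 : ∀ ρ : K, (Finset.univ.filter fun x : K => x * x - ρ * x + 1 = 0).card =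
        ∑ x : K, if x * x - ρ * x + 1 = 0 then 1 else 0 := by
      intro ρ
      rw [Finset.card_filter]
    rw [Finset.sum_congr rfl fun ρ _ => h4 ρ, Finset.sum_comm]
    have h5 : ∀ x : K, (∑ ρ : K, if x * x - ρ * x + 1 = 0 then 1 else 0) = if x = 0 then 0 else 1 := by
      intro x
      by_cases hx : x = 0
      · rw [if_pos hx, hx]
        simp
      · rw [if_neg hx, Finset.sum_eq_single (x + x⁻¹)]
        · rw [if_pos]
          field_simp
          ring
        · intro ρ _ hne
          rw [if_neg]
          intro h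
          apply hne
          field_simp
          linear_combination -h
        · intro h
          exact absurd (Finset.mem_univ _) h
    rw [Finset.sum_congr rfl fun x _ => h5 x, ← Finset.add_sum_erase _ _ (Finset.mem_univ (0 : K)), if_pos rfl,
      zero_add, Finset.sum_congr rfl fun x hx => if_neg (Finset.ne_of_mem_erase hx), Finset.sum_const,
      Finset.card_erase_of_mem (Finset.mem_univ _), Finset.card_univ, smul_eq_mul, mul_one]
    have : 0 < Fintype.card K := Fintype.card_pos
    omega
  have h4 : ((∑ ρ : K, (Finset.univ.filter fun x : K => x * x - ρ * x + 1 = 0).card : ℕ) : k) =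
      (Fintype.card K : k) - 1 := by
    rw [← h3, Nat.cast_add, Nat.cast_one]
    ring
  rw [h4, Finset.sum_const, Finset.card_univ, nsmul_eq_mul] at h2
  push_cast
  linear_combination -h2

end One

section Order

/-- `x ↦ x^Q` fixes `x + x⁻¹` iff `Q = ± 1` modulo the order of `x`. -/
theorem pow_add_inv_iff {k : Type*} [Field k] (p : ℕ) [hp : Fact p.Prime] [CharP k p] (e : ℕ) {x : k} (hx : x ≠ 0) :
    (x + x⁻¹) ^ p ^ e = x + x⁻¹ ↔ (orderOf x ∣ p ^ e - 1 ∨ orderOf x ∣ p ^ e + 1) := by
  have h1 : (x + x⁻¹) ^ p ^ e = x ^ p ^ e + (x ^ p ^ e)⁻¹ := by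
    rw [add_pow_char_pow, inv_pow]
  have hy : x ^ p ^ e ≠ 0 := pow_ne_zero _ hx
  have h2 : (x + x⁻¹) ^ p ^ e = x + x⁻¹ ↔ (x ^ p ^ e - x) * (x ^ p ^ e - x⁻¹) = 0 := by
    rw [h1]
    have hyi : x ^ p ^ e * (x ^ p ^ e)⁻¹ = 1 := mul_inv_cancel₀ hy
    have hxi : x * x⁻¹ = 1 := mul_inv_cancel₀ hx
    constructor
    · intro h
      linear_combination x ^ p ^ e * h + hxi - hyi
    · intro h
      apply mul_left_cancel₀ hy
      linear_combination h + hyi - hxi
  rw [h2, mul_eq_zero, sub_eq_zero, sub_eq_zero]
  have hpe : 0 < p ^ e := pow_pos hp.out.pos e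
  have h3 : x ^ p ^ e = x ↔ orderOf x ∣ p ^ e - 1 := by
    rw [orderOf_dvd_iff_pow_eq_one]
    constructor
    · intro h
      apply mul_right_cancel₀ hx
      rw [← pow_succ, Nat.sub_add_cancel hpe, h, one_mul]
    · intro h
      rw [← Nat.sub_add_cancel hpe, pow_succ, h, one_mul]
  have h4 : x ^ p ^ e = x⁻¹ ↔ orderOf x ∣ p ^ e + 1 := by
    rw [orderOf_dvd_iff_pow_eq_one, pow_succ]
    constructor
    · intro h
      rw [h, inv_mul_cancel₀ hx]
    · intro h
      exact eq_inv_of_mul_eq_one_left h
  rw [h3, h4]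

/-- The order of a root of unity is prime to the characteristic. -/
theorem not_dvd_orderOf {k : Type*} [Field k] (p : ℕ) [hp : Fact p.Prime] [CharP k p] {x : k} {N : ℕ} (hN : 0 < N)
    (hx : x ^ N = 1) : ¬ p ∣ orderOf x := by
  rintro ⟨m, hm⟩
  have h0 : 0 < orderOf x := orderOf_pos_iff.2 (isOfFinOrder_iff_pow_eq_one.2 ⟨N, hN, hx⟩)
  have h1 : (x ^ m) ^ p = 1 := by
    rw [← pow_mul, mul_comm, ← hm, pow_orderOf_eq_one]
  have h2 : (x ^ m - 1) ^ p = 0 := by
    rw [sub_pow_char, h1, one_pow, sub_self]
  have h3 : x ^ m = 1 := sub_eq_zero.1 (pow_eq_zero_iff hp.out.ne_zero |>.1 h2)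
  have h4 := orderOf_dvd_of_pow_eq_one h3
  have hm0 : 0 < m := by
    rcases Nat.eq_zero_or_pos m with rfl | h
    · omega
    · exact h
  have h5 := Nat.le_of_dvd hm0 h4
  have h6 := hp.out.two_le
  nlinarith

end Order

section Main

variable {K : Type*} [Field K] [Fintype K] {k : Type*} [Field k] {V : Type*} [AddCommGroup V]
  [Module k V] [FiniteDimensional k V] (R : SpecialLinearGroup (Fin 2) K →* Module.End k V)

/-- The traces, over an algebraically closed field. -/
theorem cusp_traces [IsAlgClosed k] (hK : (Fintype.card K : k) ≠ 0) (h4 : 4 ≤ Fintype.card K)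
    (hspan : Submodule.span k (Set.range R) = ⊤) (hR : R ≠ 1) (hn : finrank k V + 1 = Fintype.card K) :
    ∃ θ ε : k, θ ^ (Fintype.card K + 1) = 1 ∧ (θ = 1 → ((Fintype.card K + 1 : ℕ) : k) = 0) ∧
      ((2 : K) ≠ 0 → θ ≠ -1) ∧ R (t (-1)) = ε • 1 ∧ (ε = 1 ∨ ε = -1) ∧
      ((2 : K) ≠ 0 → ∀ m : ℕ, 2 * m = Fintype.card K + 1 → θ ^ m = ε) ∧
      (∀ g, (∃ z : ℤ, LinearMap.trace k V (R g) = z) ∨ ∃ m : ℕ, LinearMap.trace k V (R g) = -(θ ^ m + θ⁻¹ ^ m)) ∧
      ∃ g, LinearMap.trace k V (R g) = -(θ + θ⁻¹) := by
  classical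
  obtain ⟨ψ, hψ⟩ := exists_prim (K := K) hK
  have hall : ∀ b : K, b ≠ 0 → finrank k (LinearMap.range (E R ψ b)) = 1 := by
    rcases dim_cases R hψ hK hspan hR with ⟨h, -⟩ | ⟨-, h⟩
    · exact h
    · exfalso
      omega
  have h0 : E R ψ 0 = 0 := by
    have h1 := finrank_eq R hψ hK
    rw [Finset.sum_congr rfl fun b hb => hall b (Finset.ne_of_mem_erase hb), Finset.sum_const,
      Finset.card_erase_of_mem (Finset.mem_univ _), Finset.card_univ, smul_eq_mul, mul_one] at h1
    have h2 : finrank k (LinearMap.range (E R ψ 0)) = 0 := by omega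
    rw [Submodule.finrank_eq_zero, LinearMap.range_eq_bot] at h2
    exact h2
  obtain ⟨σ, θ, ε, C⟩ := exists_theta R hψ hK hspan hall h0
  refine ⟨θ, ε, C.pow_card, ?_, ?_, C.central, C.eps, C.half, ?_, ?_⟩
  · rintro rfl
    exact theta_one R hψ hK hspan hall h0 C
  · rintro h2 rfl
    exact not_sign R hψ hK hspan hall h0 C h2
  · intro g
    by_cases ht : mt g ^ 2 - 4 = 0
    · exact Or.inl (trace_int_of_pm R hψ hK hall C.eps C.central g ht)
    · rw [trace_eq_X R g ht]
      by_cases hs : ∀ x : K, x * x - mt g * x + 1 ≠ 0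
      · obtain ⟨m, hm⟩ := C.surj _ hs
        right
        refine ⟨m, ?_⟩
        have h8 := C.tr m (by rw [← hm]; exact ht)
        rwa [← hm] at h8
      · push Not at hs
        obtain ⟨a, ha⟩ := hs
        left
        exact ⟨0, by rw [X_split R hψ hK h0 ha ht]; simp⟩
  · refine ⟨u σ * w 1, ?_⟩
    have h8 := C.tr 1 (by
      rw [T_one]
      intro h
      exact disc_ne C.nonsplit (by linear_combination -h))
    rw [T_one, pow_one, pow_one] at h8
    exact h8

end Main

section Final

variable {ι : Type} [Fintype ι] [DecidableEq ι] {F : Type*} [Field F] (p : ℕ) [hp : Fact p.Prime] [CharP F p]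

/-- **The order of `θ`.** -/
theorem cusp_order {K : Type*} [Field K] [Fintype K] (h4 : 4 ≤ Fintype.card K) (hpK : ¬ p ∣ Fintype.card K)
    (ρ : SpecialLinearGroup (Fin 2) K →* GL ι F) (hρ : ρ ≠ 1) (habs : ActsAbsolutelyIrreducibly (matrixSet ρ.range))
    (hn : Fintype.card ι + 1 = Fintype.card K) :
    ∃ d : ℕ, d ∣ Fintype.card K + 1 ∧ ¬ p ∣ d ∧ d ≠ 2 ∧ (d = 1 → p ∣ Fintype.card K + 1 ∧ p ≠ 2) ∧
      (∀ e : ℕ, Fr ρ.range (p ^ e) ↔ (d ∣ p ^ e - 1 ∨ d ∣ p ^ e + 1)) ∧
      (p ≠ 2 → ∀ m : ℕ, 2 * m = Fintype.card K + 1 → (ρ (t (-1)) = 1 ↔ d ∣ m)) ∧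
      (ρ (t (-1)) = 1 ∨ (ρ (t (-1)) : Matrix ι ι F) = -1) := by
  classical
  have hKF : (Fintype.card K : F) ≠ 0 := fun h => hpK ((CharP.cast_eq_zero_iff F p _).1 h)
  let k := AlgebraicClosure F
  have : CharP k p := charP_of_injective_algebraMap (algebraMap F k).injective p
  have hK : (Fintype.card K : k) ≠ 0 := fun h => hpK ((CharP.cast_eq_zero_iff k p _).1 h)
  have hcard : 1 < Fintype.card K := Fintype.one_lt_card
  obtain ⟨θ, ε, h1, h2, h3, h5, h6, h7, h8, g₀, h9⟩ := cusp_traces (extI ρ k) hK h4
    (span_extI ρ k (span_eq_topI ρ habs)) (extI_ne_one ρ k hρ) (by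
      rw [Module.finrank_fintype_fun_eq_card]
      exact hn)
  have hθ0 : θ ≠ 0 := by
    rintro rfl
    rw [zero_pow (by omega)] at h1
    exact zero_ne_one h1
  have hK2 : ∀ m : ℕ, 2 * m = Fintype.card K + 1 → (2 : K) ≠ 0 := by
    intro m hm h
    have : CharP K 2 := CharTwo.of_one_ne_zero_of_two_eq_zero one_ne_zero h
    have h10 : (2 : ℕ) ∣ Fintype.card K := by
      rw [← CharP.cast_eq_zero_iff K 2]
      exact FiniteField.cast_card_eq_zero K
    omega
  have hK2' : p = 2 → (2 : K) ≠ 0 := by
    rintro rfl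
    exact hK2 ((Fintype.card K + 1) / 2) (by omega)
  have hε : (ε = 1 ↔ ρ (t (-1)) = 1) ∧ (ρ (t (-1)) = 1 ∨ (ρ (t (-1)) : Matrix ι ι F) = -1) := by
    have hne : Nonempty ι := by
      rw [← Fintype.card_pos_iff]
      omega
    have h10 : Matrix.toLin' ((ρ (t (-1)) : Matrix ι ι F).map (algebraMap F k)) = ε • (1 : Module.End k (ι → k)) := by
      rw [← extI_apply]
      exact h5
    have h11 : ((ρ (t (-1)) : Matrix ι ι F).map (algebraMap F k)) = ε • (1 : Matrix ι ι k) := by
      apply Matrix.toLin'.injective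
      rw [h10, map_smul, Matrix.toLin'_one]
      rfl
    have h12 : ∀ c : F, algebraMap F k c = ε → (ρ (t (-1)) : Matrix ι ι F) = c • 1 := by
      intro c hc
      ext i j
      apply (algebraMap F k).injective
      have h13 := congrFun (congrFun h11 i) j
      rw [Matrix.map_apply] at h13
      rw [h13, Matrix.smul_apply, Matrix.smul_apply, smul_eq_mul, smul_eq_mul, map_mul, hc]
      congr 1
      by_cases hij : i = j
      · rw [hij, Matrix.one_apply_eq, Matrix.one_apply_eq, map_one]
      · rw [Matrix.one_apply_ne hij, Matrix.one_apply_ne hij, map_zero]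
    constructor
    · constructor
      · intro h
        apply Units.ext
        rw [h12 1 (by rw [map_one, h]), one_smul, Units.val_one]
      · intro h
        obtain ⟨i⟩ := hne
        have h13 := congrFun (congrFun h11 i) i
        rw [h, Matrix.map_apply, Units.val_one, Matrix.one_apply_eq, map_one, Matrix.smul_apply,
          Matrix.one_apply_eq, smul_eq_mul, mul_one] at h13
        exact h13.symm
    · rcases h6 with h | h
      · left
        apply Units.ext
        rw [h12 1 (by rw [map_one, h]), one_smul, Units.val_one]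
      · right
        rw [h12 (-1) (by rw [map_neg, map_one, h]), neg_smul, one_smul]
  refine ⟨orderOf θ, orderOf_dvd_of_pow_eq_one h1, not_dvd_orderOf p (by omega) h1, ?_, ?_, ?_, ?_, hε.2⟩
  · intro h
    have h10 : θ * θ = 1 := by
      rw [← sq, ← h, pow_orderOf_eq_one]
    have h12 : θ ≠ 1 := by
      rintro rfl
      rw [orderOf_one] at h
      exact absurd h (by norm_num)
    have h11 := (mul_self_eq_one_iff.1 h10).resolve_left h12
    have h13 : 2 ∣ Fintype.card K + 1 := by
      rw [← h]
      exact orderOf_dvd_of_pow_eq_one h1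
    exact h3 (hK2 ((Fintype.card K + 1) / 2) (by omega)) h11
  · intro h
    rw [orderOf_eq_one_iff] at h
    refine ⟨(CharP.cast_eq_zero_iff k p _).1 (h2 h), ?_⟩
    intro hp2
    have h10 : (2 : k) = 0 := by
      have h11 := CharP.cast_eq_zero k p
      rw [hp2] at h11
      exact_mod_cast h11
    apply h3 (hK2' hp2)
    rw [h]
    linear_combination h10
  · intro e
    rw [← pow_add_inv_iff p e hθ0]
    have hinj := (algebraMap F k).injective
    constructor
    · intro h
      have h10 := h (ρ g₀) ⟨g₀, rfl⟩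
      have h11 := congrArg (algebraMap F k) h10
      rw [map_pow, ← trace_extI, h9] at h11
      rcases hp.out.eq_two_or_odd' with h12 | h12
      · have h13 : ∀ x : k, -x = x := by
          intro x
          have h14 : (2 : k) = 0 := by
            have h11 := CharP.cast_eq_zero k p
            rw [h12] at h11
            exact_mod_cast h11
          linear_combination -x * h14
        rwa [h13] at h11
      · rw [Odd.neg_pow h12.pow] at h11
        exact neg_injective h11
    · rintro h _ ⟨g, rfl⟩
      apply hinj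
      rw [map_pow, ← trace_extI]
      have hz : ∀ z : ℤ, (z : k) ^ p ^ e = z := by
        intro z
        have h10 := map_intCast (iterateFrobenius k p e) z
        rwa [iterateFrobenius_def] at h10
      rcases h8 g with ⟨z, hz'⟩ | ⟨m, hm⟩
      · rw [hz', hz]
      · have h10 : (θ ^ m + θ⁻¹ ^ m) ^ p ^ e = θ ^ m + θ⁻¹ ^ m := by
          rw [inv_pow, pow_add_inv_iff p e (pow_ne_zero _ hθ0)]
          have h11 : orderOf (θ ^ m) ∣ orderOf θ := orderOf_pow_dvd m
          rcases (pow_add_inv_iff p e hθ0).1 h with h12 | h12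
          · exact Or.inl (h11.trans h12)
          · exact Or.inr (h11.trans h12)
        rw [hm, neg_pow, h10]
        have h11 := hz (-1)
        push_cast at h11
        rw [h11]
        ring
  · intro _ m hm
    rw [← hε.1, ← h7 (hK2 m hm) m hm, orderOf_dvd_iff_pow_eq_one]

end Final

end Cfsg.Agent.H931.L2T
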