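import Cfsg.Agent.H931.L2Type

/-!
# `FixQ` and `FixA` for cores with socle `PSL₂(q)` in cross characteristic (helper931)

Characteristic `≠ 2`. `type_core` : an invariant form with `f v u = κ f u v` has `κ = c` where `-1` acts as `c`
(both weights `b`, `-b` occur). `fixQ_of_central_one`, `not_fixQ_of_central_neg`, ....
-/

set_option autoImplicit false
set_option linter.unusedSectionVars false

namespace Cfsg.Agent.H931.L2T

open Matrix Module Cfsg Cfsg.Geo Cfsg.Agent.H464.Sl2 Cfsg.Agent.H915.LD Cfsg.Agent.H911.OddForm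

section Gram

variable {ι : Type} [Fintype ι] [DecidableEq ι] {F : Type*} [Field F] {f : (ι → F) → (ι → F) → F}

theorem form_eq (hf : IsBilinearForm f) (x y : ι → F) : f x y = x ⬝ᵥ (gram f *ᵥ y) := by
  have h1 : ∀ i, f (Pi.single i 1) y = (gram f *ᵥ y) i := by
    intro i
    conv_lhs => rw [eq_sum_single y, f_sum_right hf]
    rw [Matrix.mulVec, dotProduct]
    refine Finset.sum_congr rfl fun j _ => ?_
    rw [hf.smul_right, mul_comm]
    rfl
  conv_lhs => rw [eq_sum_single x, f_sum_left hf]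
  rw [dotProduct]
  refine Finset.sum_congr rfl fun i _ => ?_
  rw [hf.smul_left, h1]

theorem eq_of_dot {A B : Matrix ι ι F} (h : ∀ x y, x ⬝ᵥ (A *ᵥ y) = x ⬝ᵥ (B *ᵥ y)) : A = B := by
  ext i j
  have h1 := h (Pi.single i 1) (Pi.single j 1)
  rw [single_dotProduct, single_dotProduct, Matrix.mulVec_single, Matrix.mulVec_single] at h1
  simpa using h1

theorem gram_conj (hf : IsBilinearForm f) {g : Matrix ι ι F} (h : ∀ x y, f (g *ᵥ x) (g *ᵥ y) = f x y) :
    gᵀ * gram f * g = gram f := by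
  apply eq_of_dot
  intro x y
  rw [← form_eq hf, ← h, form_eq hf, Matrix.mul_assoc, ← Matrix.mulVec_mulVec, ← Matrix.mulVec_mulVec,
    Matrix.dotProduct_mulVec x gᵀ, Matrix.vecMul_transpose]

theorem gram_symm {κ : F} (h : ∀ x y, f y x = κ * f x y) : (gram f)ᵀ = κ • gram f := by
  ext i j
  rw [Matrix.transpose_apply, Matrix.smul_apply, smul_eq_mul]
  exact h _ _

end Gram

section Core

variable {ι : Type} [Fintype ι] [DecidableEq ι] {F : Type*} [Field F] {P : Subgroup (GL ι F)}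
  {K : Type*} [Field K] [Fintype K]

/-- The lift of an invariant bilinear form to an extension field. -/
theorem exists_lift {G : Type*} [Group G] (ρ : G →* GL ι F) (k : Type*) [Field k] [Algebra F k]
    {f : (ι → F) → (ι → F) → F} (hf : IsBilinearForm f) (hn : IsNondegenerateForm f)
    (hfix : FixesForm (matrixSet ρ.range) f) {κ : F} (hκ1 : κ = 1 ∨ κ = -1) (hκ : ∀ x y, f y x = κ * f x y) :
    ∃ f' : (ι → k) →ₗ[k] (ι → k) →ₗ[k] k, (∀ g v w, f' (extI ρ k g v) (extI ρ k g w) = f' v w) ∧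
      (∀ w, (∀ v, f' v w = 0) → w = 0) ∧ ∀ v w, f' w v = algebraMap F k κ * f' v w := by
  set M' := (gram f).map (algebraMap F k) with hM'
  refine ⟨Matrix.toLinearMap₂' k M', ?_, ?_, ?_⟩
  · intro g v w
    have h1 : ((ρ g : Matrix ι ι F))ᵀ * gram f * (ρ g : Matrix ι ι F) = gram f :=
      gram_conj hf fun x y => hfix _ ⟨ρ g, ⟨g, rfl⟩, rfl⟩ x y
    have h2 : ((ρ g : Matrix ι ι F).map (algebraMap F k))ᵀ * M' * (ρ g : Matrix ι ι F).map (algebraMap F k) = M' := by
      rw [hM']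
      conv_rhs => rw [← h1]
      rw [Matrix.map_mul, Matrix.map_mul, Matrix.transpose_map]
    rw [Matrix.toLinearMap₂'_apply', Matrix.toLinearMap₂'_apply', extI_apply, Matrix.toLin'_apply, Matrix.toLin'_apply]
    conv_rhs => rw [← h2]
    rw [Matrix.mul_assoc, ← Matrix.mulVec_mulVec, ← Matrix.mulVec_mulVec, Matrix.dotProduct_mulVec v _ᵀ,
      Matrix.vecMul_transpose]
  · intro w hw
    have h1 : M'.det ≠ 0 := by
      have : M' = (algebraMap F k).mapMatrix (gram f) := rfl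
      rw [this, ← RingHom.map_det]
      intro h
      exact det_gram_ne_zero hf hn ((map_eq_zero _).1 h)
    apply Matrix.eq_zero_of_mulVec_eq_zero h1
    funext i
    have h2 := hw (Pi.single i 1)
    rw [Matrix.toLinearMap₂'_apply', single_dotProduct, one_mul] at h2
    exact h2
  · intro v w
    have h1 : M'ᵀ = (algebraMap F k κ) • M' := by
      rw [hM', ← Matrix.transpose_map, gram_symm hκ]
      ext i j
      simp
    rw [Matrix.toLinearMap₂'_apply', Matrix.toLinearMap₂'_apply']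
    have h2 : v ⬝ᵥ (M' *ᵥ w) = w ⬝ᵥ (M'ᵀ *ᵥ v) := by
      rw [Matrix.mulVec_transpose, Matrix.dotProduct_mulVec, dotProduct_comm]
    rw [h2, h1, Matrix.smul_mulVec, dotProduct_smul, smul_eq_mul, ← mul_assoc, ← map_mul]
    have h3 : κ * κ = 1 := by
      rcases hκ1 with rfl | rfl <;> ring
    rw [h3, map_one, one_mul]

variable (ρ : SpecialLinearGroup (Fin 2) K →* GL ι F)

/-- **The type of an invariant form**, characteristic `≠ 2`. -/
theorem type_core (h2 : (2 : F) ≠ 0) (habs : ActsAbsolutelyIrreducibly (matrixSet ρ.range)) (k : Type*) [Field k]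
    [Algebra F k] {ψ : AddChar K k} (hψ : ψ.IsPrimitive) (hK : (Fintype.card K : k) ≠ 0) {b : K} (hb : b ≠ 0)
    (hb1 : E (extI ρ k) ψ b ≠ 0) (hb2 : E (extI ρ k) ψ (-b) ≠ 0) {c : F} (hc1 : c = 1 ∨ c = -1)
    (hc : (ρ (t (-1)) : Matrix ι ι F) = c • 1)
    {f : (ι → F) → (ι → F) → F} (hf : IsBilinearForm f) (hn : IsNondegenerateForm f)
    (hfix : FixesForm (matrixSet ρ.range) f) {κ : F} (hκ1 : κ = 1 ∨ κ = -1) (hκ : ∀ x y, f y x = κ * f x y) :
    κ = c := by
  obtain ⟨f', h1, h3, h4⟩ := exists_lift ρ k hf hn hfix hκ1 hκ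
  have hmap : ∀ {x : F}, (x = 1 ∨ x = -1) → (algebraMap F k x = 1 ∨ algebraMap F k x = -1) := by
    rintro x (rfl | rfl)
    · left; exact map_one _
    · right; rw [map_neg, map_one]
  have h2k : (2 : k) ≠ 0 := by
    intro h
    apply h2
    apply (algebraMap F k).injective
    rw [map_zero, map_ofNat, h]
  have h5 : extI ρ k (t (-1)) = (algebraMap F k c) • 1 := by
    rw [extI_apply, hc]
    have h6 : (c • (1 : Matrix ι ι F)).map (algebraMap F k) = (algebraMap F k c) • (1 : Matrix ι ι k) := by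
      ext i j
      rw [Matrix.map_apply, Matrix.smul_apply, Matrix.smul_apply, smul_eq_mul, smul_eq_mul, map_mul]
      congr 1
      by_cases hij : i = j
      · rw [hij]; simp
      · rw [Matrix.one_apply_ne hij, Matrix.one_apply_ne hij, map_zero]
    rw [h6, map_smul, Matrix.toLin'_one]
    rfl
  have h6 := type_eq (extI ρ k) hψ hK (span_extI ρ k (span_eq_topI ρ habs)) hb hb1 hb2 h2k f' h1 h3 (hmap hκ1)
    (hmap hc1) h4 h5
  exact (algebraMap F k).injective h6

/-- The central involution acts as `± 1`. -/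
theorem exists_centralI (habs : ActsAbsolutelyIrreducibly (matrixSet ρ.range)) :
    ∃ c : F, (c = 1 ∨ c = -1) ∧ (ρ (t (-1)) : Matrix ι ι F) = c • 1 := by
  have hcen := t_sq_central (K := K) (a := -1) (by simp)
  obtain ⟨c, hc⟩ := habs.2 (ρ (t (-1)) : Matrix ι ι F) (by
    rintro _ ⟨_, ⟨g, rfl⟩, rfl⟩
    change (ρ (t (-1)) : Matrix ι ι F) * (ρ g : Matrix ι ι F) =
      (ρ g : Matrix ι ι F) * (ρ (t (-1)) : Matrix ι ι F)
    rw [← Units.val_mul, ← Units.val_mul, ← map_mul, ← map_mul, hcen])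
  rcases isEmpty_or_nonempty ι with he | ⟨⟨i⟩⟩
  · exact ⟨1, Or.inl rfl, Subsingleton.elim _ _⟩
  refine ⟨c, ?_, hc⟩
  have h1 : (ρ (t (-1)) : Matrix ι ι F) * (ρ (t (-1)) : Matrix ι ι F) = 1 := by
    rw [← Units.val_mul, ← map_mul, ← t_mul]
    have : ((-1 : Kˣ) * -1) = 1 := by simp
    rw [this, t_one, map_one, Units.val_one]
  rw [hc, smul_mul_smul_comm, one_mul] at h1
  have h2 := congrFun (congrFun h1 i) i
  rw [Matrix.smul_apply, Matrix.one_apply_eq, smul_eq_mul, mul_one] at h2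
  exact mul_self_eq_one_iff.1 h2

theorem fixA_symm {f : (ι → F) → (ι → F) → F} (h : ∀ v w, f v w = - f w v) : ∀ x y, f y x = (-1) * f x y := by
  intro x y
  rw [h y x, neg_one_mul]

/-- The polar form of a fixed quadratic form. -/
theorem polar_fixes {P : Subgroup (GL ι F)} {Q : (ι → F) → F} (h : FixesQuadForm (matrixSet P) Q) :
    FixesForm (matrixSet P) (QuadraticMap.polar Q) := by
  intro s hs x y
  rw [QuadraticMap.polar, QuadraticMap.polar, ← Matrix.mulVec_add, h s hs, h s hs, h s hs]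

variable {ρ}

/-- `-1` acts as `c`: a fixed alternating form forces `c = -1`. -/
theorem central_of_fixA (h2 : (2 : F) ≠ 0) (habs : ActsAbsolutelyIrreducibly (matrixSet ρ.range)) (k : Type*) [Field k]
    [Algebra F k] {ψ : AddChar K k} (hψ : ψ.IsPrimitive) (hK : (Fintype.card K : k) ≠ 0) {b : K} (hb : b ≠ 0)
    (hb1 : E (extI ρ k) ψ b ≠ 0) (hb2 : E (extI ρ k) ψ (-b) ≠ 0) (hA : FixA ρ.range) :
    (ρ (t (-1)) : Matrix ι ι F) = -1 := by
  obtain ⟨c, hc1, hc⟩ := exists_centralI ρ habs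
  obtain ⟨f, hf, hfix⟩ := hA
  have h := type_core ρ h2 habs k hψ hK hb hb1 hb2 hc1 hc hf.bilinear hf.nondegenerate hfix (Or.inr rfl)
    (fixA_symm hf.skew)
  rw [hc, ← h, neg_smul, one_smul]

/-- `-1` acts as `c`: a fixed quadratic form forces `c = 1`. -/
theorem central_of_fixQ (h2 : (2 : F) ≠ 0) (habs : ActsAbsolutelyIrreducibly (matrixSet ρ.range)) (k : Type*) [Field k]
    [Algebra F k] {ψ : AddChar K k} (hψ : ψ.IsPrimitive) (hK : (Fintype.card K : k) ≠ 0) {b : K} (hb : b ≠ 0)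
    (hb1 : E (extI ρ k) ψ b ≠ 0) (hb2 : E (extI ρ k) ψ (-b) ≠ 0) (hQ : FixQ ρ.range) :
    (ρ (t (-1)) : Matrix ι ι F) = 1 := by
  obtain ⟨c, hc1, hc⟩ := exists_centralI ρ habs
  obtain ⟨Q, hQ, hfix⟩ := hQ
  have h := type_core ρ h2 habs k hψ hK hb hb1 hb2 hc1 hc hQ.polar_bilinear hQ.nondegenerate (polar_fixes hfix)
    (Or.inl rfl) (fun x y => by rw [QuadraticMap.polar_comm, one_mul])
  rw [hc, ← h, one_smul]

end Core

end Cfsg.Agent.H931.L2T
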