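import Mathlib.NumberTheory.LegendreSymbol.QuadraticChar.Basic
import Mathlib.NumberTheory.LegendreSymbol.AddCharacter

/-!
# Gauss and Salié sums with values in a field of arbitrary characteristic (helper931)
-/

set_option autoImplicit false
set_option linter.unusedSectionVars false

namespace Cfsg.Agent.H931.L2N

open Finset

variable {K : Type*} [Field K] [Fintype K] [DecidableEq K] (k : Type*) [Field k]

/-- The quadratic character with values in `k`. -/
def eta (x : K) : k := ((quadraticChar K x : ℤ) : k)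

variable {k}

theorem eta_mul (x y : K) : eta k (x * y) = eta k x * eta k y := by
  rw [eta, map_mul, Int.cast_mul]; rfl

theorem eta_zero : eta k (0 : K) = 0 := by
  rw [eta, quadraticChar_zero, Int.cast_zero]

theorem eta_one : eta k (1 : K) = 1 := by
  rw [eta, map_one, Int.cast_one]

theorem eta_sq {x : K} (hx : x ≠ 0) : eta k (x ^ 2) = 1 := by
  rw [eta, quadraticChar_sq_one' hx, Int.cast_one]

theorem eta_mul_self {x : K} (hx : x ≠ 0) : eta k x * eta k x = 1 := by
  rw [← eta_mul, ← sq, eta_sq hx]

theorem eta_of_not_isSquare {x : K} (hx : ¬ IsSquare x) : eta k x = -1 := by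
  rw [eta, quadraticChar_neg_one_iff_not_isSquare.2 hx]
  norm_num

theorem eta_div {x y : K} (hy : y ≠ 0) : eta k (x / y) = eta k x * eta k y := by
  have h1 : x / y = x * y * (y⁻¹) ^ 2 := by field_simp
  rw [h1, eta_mul, eta_mul, eta_sq (inv_ne_zero hy), mul_one]

theorem ringChar_ne_two (h2 : (2 : K) ≠ 0) : ringChar K ≠ 2 := by
  intro h
  apply h2
  have : CharP K 2 := by rw [← h]; exact ringChar.charP K
  exact CharP.cast_eq_zero K 2

theorem sum_eta (h2 : (2 : K) ≠ 0) : ∑ x : K, eta k x = 0 := by
  unfold eta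
  rw [← Int.cast_sum, quadraticChar_sum_zero (ringChar_ne_two h2), Int.cast_zero]

/-- The Gauss sum. -/
def gs (ψ : AddChar K k) : k := ∑ x, eta k x * ψ x

theorem gs_mul (h2 : (2 : K) ≠ 0) (ψ : AddChar K k) (a : K) : ∑ x, eta k x * ψ (a * x) = eta k a * gs ψ := by
  by_cases ha : a = 0
  · rw [ha, eta_zero, zero_mul, Finset.sum_congr rfl fun x _ => by rw [zero_mul, AddChar.map_zero_eq_one, mul_one],
      sum_eta h2]
  · rw [gs, Finset.mul_sum, ← Equiv.sum_comp (Equiv.mulLeft₀ a ha) (fun x : K => eta k a * (eta k x * ψ x))]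
    refine Finset.sum_congr rfl fun x _ => ?_
    change _ = eta k a * (eta k (a * x) * ψ (a * x))
    rw [eta_mul, ← mul_assoc, ← mul_assoc, eta_mul_self ha, one_mul]

theorem gs_sq (h2 : (2 : K) ≠ 0) {ψ : AddChar K k} (hψ : ψ.IsPrimitive) :
    gs ψ * gs ψ = eta k (-1 : K) * (Fintype.card K : k) := by
  have h1 : gs ψ * gs ψ = ∑ y : K, ∑ x : K, eta k (x * y) * ψ (x + y) := by
    unfold gs
    rw [Finset.sum_mul_sum, Finset.sum_comm]
    refine Finset.sum_congr rfl fun y _ => Finset.sum_congr rfl fun x _ => ?_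
    rw [eta_mul, AddChar.map_add_eq_mul]
    ring
  have h3 : ∀ y : K, ∑ x : K, eta k (x * y) * ψ (x + y) =
      ∑ t : K, eta k t * (ψ (y * (t + 1)) - if y = 0 then 1 else 0) := by
    intro y
    by_cases hy : y = 0
    · rw [hy]
      rw [Finset.sum_eq_zero (fun x _ => by rw [mul_zero, eta_zero, zero_mul]), Finset.sum_eq_zero]
      intro t _
      rw [zero_mul, AddChar.map_zero_eq_one, if_pos rfl, sub_self, mul_zero]
    · rw [← Equiv.sum_comp (Equiv.mulRight₀ y hy) (fun x : K => eta k (x * y) * ψ (x + y))]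
      refine Finset.sum_congr rfl fun t _ => ?_
      change eta k (t * y * y) * ψ (t * y + y) = _
      rw [if_neg hy, sub_zero, mul_assoc, eta_mul, ← sq, eta_sq hy, mul_one]
      congr 2
      ring
  rw [h1, Finset.sum_congr rfl fun y _ => h3 y, Finset.sum_comm]
  have h4 : ∀ t : K, ∑ y : K, eta k t * (ψ (y * (t + 1)) - if y = 0 then 1 else 0) =
      (if t = -1 then eta k t * (Fintype.card K : k) else 0) - eta k t := by
    intro t
    rw [← Finset.mul_sum, Finset.sum_sub_distrib, Finset.sum_ite_eq' Finset.univ (0 : K), if_pos (Finset.mem_univ _),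
      AddChar.sum_mulShift _ hψ]
    by_cases ht : t = -1
    · rw [if_pos ht, if_pos (by rw [ht, neg_add_cancel])]
      ring
    · rw [if_neg ht, if_neg (fun h => ht (eq_neg_of_add_eq_zero_left h)), Nat.cast_zero]
      ring
  rw [Finset.sum_congr rfl fun t _ => h4 t, Finset.sum_sub_distrib, sum_eta h2, sub_zero, Finset.sum_ite_eq',
    if_pos (Finset.mem_univ _)]

/-- **A Salié sum.** -/
theorem salie (ψ : AddChar K k) {α β : K} (h : ¬ IsSquare (α * β)) :
    ∑ x : K, eta k x * ψ (-(α * x) - β / x) = 0 := by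
  have hα : α ≠ 0 := by
    rintro rfl
    exact h ⟨0, by ring⟩
  have hβ : β ≠ 0 := by
    rintro rfl
    exact h ⟨0, by ring⟩
  have key : ∀ x : K, eta k x * ψ (-(α * x) - β / x) +
      eta k (β / (α * x)) * ψ (-(α * (β / (α * x))) - β / (β / (α * x))) = 0 := by
    intro x
    by_cases hx : x = 0
    · rw [hx, mul_zero, div_zero, eta_zero]
      ring
    · have e1 : -(α * (β / (α * x))) - β / (β / (α * x)) = -(α * x) - β / x := by
        field_simp
        ring
      have e2 : eta k (β / (α * x)) = - eta k x := by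
        rw [eta_div (mul_ne_zero hα hx), eta_mul, ← mul_assoc, mul_comm (eta k β), ← eta_mul,
          eta_of_not_isSquare h]
        ring
      rw [e1, e2]
      ring
  apply Finset.sum_involution (fun x _ => β / (α * x))
  · intro x _
    exact key x
  · intro x _ hne heq
    have hx : x ≠ 0 := by
      rintro rfl
      apply hne
      rw [eta_zero, zero_mul]
    apply h
    refine ⟨α * x, ?_⟩
    have h3 : β = x * (α * x) := by
      rwa [div_eq_iff (mul_ne_zero hα hx)] at heq
    rw [h3]
    ring
  · intro x _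
    exact Finset.mem_univ _
  · intro x _
    by_cases hx : x = 0
    · simp [hx]
    · field_simp

end Cfsg.Agent.H931.L2N
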