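import Cfsg.Agent.H931.L2Theta
import Cfsg.Agent.H931.L2Gauss

/-!
# Representations of `SL₂(q)` of degree `q - 1`, `q` odd: `θ ≠ -1` (helper931)

For `θ = -1` the matrix coefficients of `w` between square and non-square weights are Salié sums, which vanish: the
module would be reducible (it is the sum of the two cuspidal Weil modules).
-/

set_option autoImplicit false
set_option linter.unusedSectionVars false

namespace Cfsg.Agent.H931.L2T

open Matrix Module Cfsg Cfsg.Geo Cfsg.Agent.H464.Sl2 L2N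

section Gen

variable {K : Type*} [Field K] [Fintype K] {k : Type*} [Field k] {V : Type*} [AddCommGroup V] [Module k V]
  [FiniteDimensional k V] (R : SpecialLinearGroup (Fin 2) K →* Module.End k V) {ψ : AddChar K k}
  (hψ : ψ.IsPrimitive) (hK : (Fintype.card K : k) ≠ 0)

include hψ hK in
/-- Split elements have trace `0`. -/
theorem tr_t_zero (h0 : E R ψ 0 = 0) {a : Kˣ} (ha : a ^ 2 ≠ 1) : LinearMap.trace k V (R (t a)) = 0 := by
  rw [← mul_one (R (t a)), ← sum_E R hψ hK, Finset.mul_sum, map_sum, Finset.sum_eq_zero]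
  intro b _
  rw [← E_mul_self R hψ hK, ← mul_assoc, LinearMap.trace_mul_comm, ← mul_assoc]
  by_cases hb : b = 0
  · rw [hb, h0, zero_mul, zero_mul, map_zero]
  · rw [E_t_E R hψ hK hb ha, map_zero]

/-- The compression to a weight of multiplicity one. -/
theorem E_mul_mul_E {b : K} (hb : finrank k (LinearMap.range (E R ψ b)) = 1) (A : Module.End k V) :
    E R ψ b * A * E R ψ b = LinearMap.trace k V (E R ψ b * A) • E R ψ b := by
  obtain ⟨v, hv, hv0⟩ := Submodule.exists_mem_ne_zero_of_ne_bot (p := LinearMap.range (E R ψ b)) (by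
    intro h
    rw [h, finrank_bot] at hb
    exact zero_ne_one hb)
  obtain ⟨φ, hφ⟩ := exists_dual (k := k) hv0
  have hE : E R ψ b = (φ.comp (E R ψ b)).smulRight v := by
    ext x
    rw [LinearMap.smulRight_apply, LinearMap.comp_apply]
    obtain ⟨c, hc⟩ := (finrank_eq_one_iff_of_nonzero' (⟨v, hv⟩ : LinearMap.range (E R ψ b))
      (fun h => hv0 (congrArg Subtype.val h))).1 hb ⟨E R ψ b x, LinearMap.mem_range_self _ _⟩
    have hc' : c • v = E R ψ b x := congrArg Subtype.val hc
    rw [← hc', map_smul, hφ, smul_eq_mul, mul_one]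
  have h1 : E R ψ b * A = ((φ.comp (E R ψ b)).comp A).smulRight v := by
    conv_lhs => rw [hE]
    rfl
  rw [h1, LinearMap.trace_smulRight]
  ext x
  rw [Module.End.mul_apply, LinearMap.smulRight_apply, LinearMap.smul_apply]
  conv_lhs => rw [hE]
  rw [LinearMap.smulRight_apply, map_smul, smul_eq_mul, mul_comm, mul_smul, LinearMap.comp_apply,
    LinearMap.comp_apply]
  conv_rhs => rw [hE]
  rw [LinearMap.smulRight_apply]
  rfl

include hψ hK in
/-- No block of matrix coefficients of `w` vanishes. -/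
theorem no_block (hspan : Submodule.span k (Set.range R) = ⊤) {a b : K} (ha : E R ψ a ≠ 0) (hb : E R ψ b ≠ 0)
    (hab : ∀ s : Kˣ, a ≠ b / (s : K) ^ 2) (h : ∀ s : Kˣ, E R ψ a * R (w 1) * E R ψ (b / (s : K) ^ 2) = 0) : False := by
  have h1 : ∀ g, E R ψ a * R g * E R ψ b = 0 := by
    intro g
    rcases bruhat g with ⟨x, c, rfl⟩ | ⟨x, c, y, rfl⟩
    · rw [R.map_mul, ← mul_assoc, E_mul_R, smul_mul_assoc, smul_mul_assoc, mul_assoc, t_mul_E, ← mul_assoc,
        E_mul_of_ne R hψ hK (hab c), zero_mul, smul_zero]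
    · rw [R.map_mul, R.map_mul, ← mul_assoc, ← mul_assoc, E_mul_R, smul_mul_assoc, smul_mul_assoc, smul_mul_assoc,
        mul_assoc, R_mul_E, mul_smul_comm, ← w_one_mul_t, R.map_mul, ← mul_assoc, mul_assoc, t_mul_E, ← mul_assoc,
        h c, zero_mul, smul_zero, smul_zero]
  have h2 : ∀ A : Module.End k V, E R ψ a * A * E R ψ b = 0 := by
    intro A
    have hA : A ∈ Submodule.span k (Set.range R) := by rw [hspan]; trivial
    induction hA using Submodule.span_induction with
    | mem x hx =>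
      obtain ⟨g, rfl⟩ := hx
      exact h1 g
    | zero => simp
    | add x y _ _ hx hy => rw [mul_add, add_mul, hx, hy, add_zero]
    | smul a x _ hx => rw [mul_smul_comm, smul_mul_assoc, hx, smul_zero]
  obtain ⟨x, hx⟩ : ∃ x, E R ψ b x ≠ 0 := by
    by_contra hcon
    push Not at hcon
    exact hb (LinearMap.ext hcon)
  obtain ⟨y, hy⟩ : ∃ y, E R ψ a y ≠ 0 := by
    by_contra hcon
    push Not at hcon
    exact ha (LinearMap.ext hcon)
  obtain ⟨φ, hφ⟩ := exists_dual (k := k) hx
  have h3 := congrArg (fun A : Module.End k V => A x) (h2 (φ.smulRight y))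
  simp only [Module.End.mul_apply, LinearMap.smulRight_apply, hφ, one_smul, LinearMap.zero_apply] at h3
  exact hy h3

end Gen

section Sign

variable {K : Type*} [Field K] [Fintype K] [DecidableEq K] {k : Type*} [Field k] {V : Type*} [AddCommGroup V]
  [Module k V] [FiniteDimensional k V] (R : SpecialLinearGroup (Fin 2) K →* Module.End k V) {ψ : AddChar K k}
  (hψ : ψ.IsPrimitive) (hK : (Fintype.card K : k) ≠ 0)

include hψ hK in
theorem X_pm (hspan : Submodule.span k (Set.range R) = ⊤)
    (hall : ∀ b : K, b ≠ 0 → finrank k (LinearMap.range (E R ψ b)) = 1) (h0 : E R ψ 0 = 0) {σ : K} {θ ε : k}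
    (C : Cusp R σ θ ε) : X R 2 = -1 ∧ ((2 : K) ≠ 0 → X R (-2) = -ε) := by
  have : Fintype (SpecialLinearGroup (Fin 2) K) := Fintype.ofFinite _
  have : Fintype Kˣ := Fintype.ofFinite _
  have h1 : ∀ ζ : Kˣ, ζ ^ 2 = 1 → R (t ζ) = (if ζ = 1 then (1 : k) else ε) • 1 := by
    intro ζ hζ
    by_cases h : ζ = 1
    · rw [if_pos h, h, t_one, R.map_one, one_smul]
    · rw [if_neg h]
      have h2 : ζ = -1 := by
        have h3 : (ζ : K) * ζ = 1 := by
          rw [← Units.val_mul, ← sq, hζ, Units.val_one]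
        rcases mul_self_eq_one_iff.1 h3 with h4 | h4
        · exact absurd (Units.ext h4) h
        · exact Units.ext h4
      rw [h2, C.central]
  constructor
  · have h2 := X_two R hψ hK _ h1 hspan hall h0 (ζ := 1) (one_pow 2)
    rwa [Units.val_one, mul_one, if_pos rfl] at h2
  · intro hK2
    have h2 := X_two R hψ hK _ h1 hspan hall h0 (ζ := -1) (by rw [neg_one_sq])
    rw [Units.val_neg, Units.val_one, mul_neg, mul_one, if_neg] at h2
    · exact h2
    · intro h
      have h3 : (-1 : K) = 1 := by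
        have := congrArg (Units.val) h
        rwa [Units.val_neg, Units.val_one] at this
      exact hK2 (by linear_combination -h3)

include hψ hK in
/-- The trace for `θ = -1`. -/
theorem X_sign (hspan : Submodule.span k (Set.range R) = ⊤)
    (hall : ∀ b : K, b ≠ 0 → finrank k (LinearMap.range (E R ψ b)) = 1) (h0 : E R ψ 0 = 0) {σ : K} {ε : k}
    (C : Cusp R σ (-1) ε) (h2 : (2 : K) ≠ 0) (τ : K) : X R τ = eta k (τ - 2) - eta k (τ + 2) := by
  obtain ⟨hX2, hX2'⟩ := X_pm R hψ hK hspan hall h0 C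
  have h4 : (4 : K) ≠ 0 := by
    have : (4 : K) = 2 * 2 := by norm_num
    rw [this]
    exact mul_ne_zero h2 h2
  by_cases ht : τ ^ 2 - 4 = 0
  · have h3 : (τ - 2) * (τ + 2) = 0 := by linear_combination ht
    rcases mul_eq_zero.1 h3 with h | h
    · have h5 : τ = 2 := by linear_combination h
      have e : (2 : K) + 2 = 2 ^ 2 := by norm_num
      rw [h5, hX2, sub_self, eta_zero, e, eta_sq h2]
      ring
    · have h5 : τ = -2 := by linear_combination h
      have e : (-2 : K) - 2 = (-1) * 2 ^ 2 := by norm_num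
      rw [h5, hX2' h2, neg_add_cancel, eta_zero, e, eta_mul, eta_sq h2]
      -- `ε = - η(-1)`
      have hodd : Fintype.card K % 2 = 1 := FiniteField.odd_card_of_char_ne_two (ringChar_ne_two h2)
      have h6 := C.half h2 ((Fintype.card K + 1) / 2) (by omega)
      by_cases h7 : Fintype.card K % 4 = 3
      · have h8 : ¬ IsSquare (-1 : K) := by
          rw [FiniteField.isSquare_neg_one_iff, not_not]
          exact h7
        rw [eta_of_not_isSquare h8, ← h6, Even.neg_one_pow (by rw [Nat.even_iff]; omega)]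
        ring
      · have h8 : IsSquare (-1 : K) := FiniteField.isSquare_neg_one_iff.2 h7
        rw [← h6, Odd.neg_one_pow (by rw [Nat.odd_iff]; omega)]
        obtain ⟨i, hi⟩ := h8
        have hi0 : i ≠ 0 := by
          rintro rfl
          simp at hi
        rw [hi, ← sq, eta_sq hi0]
        ring
  · have ht1 : τ - 2 ≠ 0 := fun h => ht (by linear_combination (τ + 2) * h)
    have ht2 : τ + 2 ≠ 0 := fun h => ht (by linear_combination (τ - 2) * h)
    by_cases hs : ∀ x : K, x * x - τ * x + 1 ≠ 0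
    · obtain ⟨m, hm⟩ := C.surj τ hs
      have h5 : ¬ IsSquare ((τ - 2) * (τ + 2)) := by
        rintro ⟨s, hs'⟩
        apply hs ((τ + s) / 2)
        field_simp
        linear_combination -hs'
      have h6 : eta k (τ - 2) = - eta k (τ + 2) := by
        have h7 := eta_of_not_isSquare (k := k) h5
        rw [eta_mul] at h7
        have h8 := eta_mul_self (k := k) ht2
        linear_combination eta k (τ + 2) * h7 - eta k (τ - 2) * h8
      have h7 : eta k (τ + 2) = (-1) ^ m := by
        rcases Nat.even_or_odd' m with ⟨j, hj | hj⟩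
        · rw [hm, hj, T_even_add_two, Even.neg_one_pow ⟨j, by ring⟩, eta_sq]
          intro h8
          apply ht2
          rw [hm, hj, T_even_add_two, h8]
          ring
        · have h8 := T_odd_add_two σ j
          rw [← hj, ← hm] at h8
          have h9 : eta k (τ + 2) * eta k (σ + 2) = 1 := by
            rw [← eta_mul, h8, eta_sq]
            intro h10
            rw [h10, zero_pow two_ne_zero] at h8
            rcases mul_eq_zero.1 h8 with h11 | h11
            · exact ht2 h11
            · apply C.gen h2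
              rw [h11]
              exact ⟨0, by ring⟩
          rw [eta_of_not_isSquare (C.gen h2)] at h9
          rw [Odd.neg_one_pow ⟨j, hj⟩]
          linear_combination -h9
      have h8 := C.tr m (by rw [← hm]; exact ht)
      rw [← hm] at h8
      rw [h8, h6, h7, inv_neg, inv_one]
      ring
    · push Not at hs
      obtain ⟨a, ha⟩ := hs
      have ha0 : a ≠ 0 := by
        rintro rfl
        simp at ha
      have h5 : τ = a + a⁻¹ := by
        field_simp
        linear_combination -ha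
      have h6 : mt (t (Units.mk0 a ha0)) = τ := by
        rw [mt_t, h5]
        simp
      have h7 : (Units.mk0 a ha0) ^ 2 ≠ 1 := by
        intro h
        have h8 : a ^ 2 = 1 := by
          have := congrArg Units.val h
          simpa using this
        apply ht
        rw [h5]
        field_simp
        linear_combination (a ^ 2 - 1) * h8
      have h8 := trace_eq_X R (t (Units.mk0 a ha0)) (by rw [h6]; exact ht)
      rw [h6, tr_t_zero R hψ hK h0 h7] at h8
      rw [← h8]
      have e1 : τ - 2 = (a - 1) ^ 2 / a := by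
        rw [h5]
        field_simp
        ring
      have e2 : τ + 2 = (a + 1) ^ 2 / a := by
        rw [h5]
        field_simp
        ring
      have e3 : a - 1 ≠ 0 := by
        intro h
        apply ht1
        rw [e1, h]
        simp
      have e4 : a + 1 ≠ 0 := by
        intro h
        apply ht2
        rw [e2, h]
        simp
      rw [e1, e2, eta_div ha0, eta_div ha0, eta_sq e3, eta_sq e4, sub_self]

include hK in
theorem J_sign (hX : ∀ τ, X R τ = eta k (τ - 2) - eta k (τ + 2)) (h2 : (2 : K) ≠ 0) (b : K) :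
    (Fintype.card K : k) * J R ψ b = (ψ (-(2 * b)) - ψ (2 * b)) * (eta k (-b) * gs ψ) := by
  rw [J_eq, ← mul_assoc, mul_inv_cancel₀ hK, one_mul, ← gs_mul h2]
  have h1 : ∀ c : K, ∑ x, ψ (-(b * x)) * eta k (x - c) = ψ (-(c * b)) * ∑ x, eta k x * ψ (-b * x) := by
    intro c
    rw [Finset.mul_sum, ← Equiv.sum_comp (Equiv.addRight c) (fun x : K => ψ (-(b * x)) * eta k (x - c))]
    refine Finset.sum_congr rfl fun x _ => ?_
    change ψ (-(b * (x + c))) * eta k (x + c - c) = _
    have e : -(b * (x + c)) = -(c * b) + -b * x := by ring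
    rw [e, AddChar.map_add_eq_mul, add_sub_cancel_right]
    ring
  have h3 := h1 2
  have h4 := h1 (-2)
  have h5 : ∑ x, ψ (-(b * x)) * X R x = ∑ x, ψ (-(b * x)) * eta k (x - 2) - ∑ x, ψ (-(b * x)) * eta k (x - -2) := by
    rw [← Finset.sum_sub_distrib]
    refine Finset.sum_congr rfl fun x _ => ?_
    rw [hX, sub_neg_eq_add]
    ring
  rw [h5, h3, h4, neg_mul, neg_neg]
  ring

theorem coe_G (x y : K) (s : Kˣ) : (u x * w 1 * u y * ((w 1)⁻¹ * t s)).1 =
    !![(1 - x * y) * s, x * ((s⁻¹ : Kˣ) : K); -(y * s), ((s⁻¹ : Kˣ) : K)] := by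
  have e1 : (u x * w 1 * u y * ((w 1)⁻¹ * t s)).1 = (u x * w 1 * u y).1 * (((w 1)⁻¹).1 * (t s).1) := rfl
  have e2 : ((w (1 : Kˣ))⁻¹).1 = !![0, 1; -1, 0] := by
    rw [Matrix.SpecialLinearGroup.coe_inv]
    have e3 : (w (1 : Kˣ)).1 = !![0, -(((1 : Kˣ)⁻¹ : Kˣ) : K); ((1 : Kˣ) : K), 0] := rfl
    rw [e3, Matrix.adjugate_fin_two_of]
    simp
  have e3 : (t s).1 = !![(s : K), 0; 0, ((s⁻¹ : Kˣ) : K)] := rfl
  rw [e1, coe_uwcu, e2, e3]
  ext i j
  fin_cases i <;> fin_cases j <;> simp [Matrix.mul_apply, Fin.sum_univ_two]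
  ring

include hψ hK in
theorem tr_G (hspan : Submodule.span k (Set.range R) = ⊤)
    (hall : ∀ b : K, b ≠ 0 → finrank k (LinearMap.range (E R ψ b)) = 1) (x y : K) (s : Kˣ) :
    LinearMap.trace k V (R (u x * w 1 * u y * ((w 1)⁻¹ * t s))) = X R ((1 - x * y) * s + ((s⁻¹ : Kˣ) : K)) +
      if x = 0 ∧ y = 0 then LinearMap.trace k V (R (t s)) - X R ((s : K) + ((s⁻¹ : Kˣ) : K)) else 0 := by
  by_cases h : x = 0 ∧ y = 0
  · obtain ⟨rfl, rfl⟩ := h
    rw [if_pos ⟨rfl, rfl⟩, u_zero, one_mul, mul_one, mul_inv_cancel_left, mul_zero, sub_zero, one_mul]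
    ring
  · rw [if_neg h, add_zero, tr_eq_X R hψ hK hspan hall]
    · congr 1
      rw [mt, coe_G]
      simp
    · intro ζ _ hζ
      apply h
      have h1 : (u x * w 1 * u y * ((w 1)⁻¹ * t s)).1 = (t ζ).1 := by rw [hζ]
      have e3 : (t ζ).1 = !![(ζ : K), 0; 0, ((ζ⁻¹ : Kˣ) : K)] := rfl
      rw [coe_G, e3] at h1
      have h2 := congrFun (congrFun h1 0) 1
      have h3 := congrFun (congrFun h1 1) 0
      simp only [of_apply, cons_val', cons_val_zero, cons_val_one, cons_val_fin_one] at h2 h3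
      refine ⟨(mul_eq_zero.1 h2).resolve_right (Units.ne_zero _), ?_⟩
      exact (mul_eq_zero.1 (neg_eq_zero.1 h3)).resolve_right (Units.ne_zero _)

include hψ hK in
/-- The matrix coefficients of `w` for `θ = -1`. -/
theorem tr_EwEw (hspan : Submodule.span k (Set.range R) = ⊤)
    (hall : ∀ b : K, b ≠ 0 → finrank k (LinearMap.range (E R ψ b)) = 1) (h2 : (2 : K) ≠ 0)
    (hX : ∀ τ, X R τ = eta k (τ - 2) - eta k (τ + 2)) (a : K) {b : K} (hb : b ≠ 0) (s : Kˣ) :
    (Fintype.card K : k) * (Fintype.card K : k) *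
      LinearMap.trace k V (E R ψ a * R (w 1) * E R ψ b * R ((w 1)⁻¹ * t s)) =
    gs ψ * (eta k b * eta k (s : K)) * (∑ x, eta k x * ψ (-(a * x) - b * (((s : K) - 1) / s) ^ 2 / x) -
      ∑ x, eta k x * ψ (-(a * x) - b * (((s : K) + 1) / s) ^ 2 / x)) +
      (LinearMap.trace k V (R (t s)) - X R ((s : K) + ((s⁻¹ : Kˣ) : K))) := by
  have hs := s.ne_zero
  have h1 : (Fintype.card K : k) * (Fintype.card K : k) *
      LinearMap.trace k V (E R ψ a * R (w 1) * E R ψ b * R ((w 1)⁻¹ * t s)) =
      ∑ x, ∑ y, ψ (-(a * x)) * (ψ (-(b * y)) * LinearMap.trace k V (R (u x * w 1 * u y * ((w 1)⁻¹ * t s)))) := by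
    have e1 : E R ψ a * R (w 1) * E R ψ b * R ((w 1)⁻¹ * t s) =
        ((Fintype.card K : k)⁻¹ * (Fintype.card K : k)⁻¹) •
        ∑ x, ∑ y, (ψ (-(a * x)) * ψ (-(b * y))) • R (u x * w 1 * u y * ((w 1)⁻¹ * t s)) := by
      unfold E
      rw [smul_mul_assoc, smul_mul_assoc, smul_mul_assoc, mul_smul_comm, smul_mul_assoc, smul_smul, Finset.sum_mul,
        Finset.sum_mul, Finset.sum_mul]
      congr 1
      refine Finset.sum_congr rfl fun x _ => ?_
      rw [Finset.mul_sum, Finset.sum_mul]
      refine Finset.sum_congr rfl fun y _ => ?_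
      rw [R.map_mul (u x * w 1 * u y), R.map_mul (u x * w 1), R.map_mul (u x), smul_mul_assoc, mul_smul_comm,
        smul_mul_assoc, smul_mul_assoc, smul_mul_assoc, smul_smul, mul_comm (ψ (-(b * y)))]
    rw [e1, map_smul, smul_eq_mul, map_sum]
    have e2 : (Fintype.card K : k) * (Fintype.card K : k) * ((Fintype.card K : k)⁻¹ * (Fintype.card K : k)⁻¹) = 1 := by
      field_simp
    rw [← mul_assoc, e2, one_mul]
    refine Finset.sum_congr rfl fun x _ => ?_
    rw [map_sum]
    refine Finset.sum_congr rfl fun y _ => ?_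
    rw [map_smul, smul_eq_mul, mul_assoc]
  have h3 : ∀ x : K, ∑ y, ψ (-(a * x)) * (ψ (-(b * y)) *
      LinearMap.trace k V (R (u x * w 1 * u y * ((w 1)⁻¹ * t s)))) =
      gs ψ * (eta k b * eta k (s : K)) * (eta k x * ψ (-(a * x) - b * (((s : K) - 1) / s) ^ 2 / x) -
      eta k x * ψ (-(a * x) - b * (((s : K) + 1) / s) ^ 2 / x)) +
      if x = 0 then (LinearMap.trace k V (R (t s)) - X R ((s : K) + ((s⁻¹ : Kˣ) : K))) else 0 := by
    intro x
    rw [← Finset.mul_sum]
    by_cases hx : x = 0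
    · rw [hx, if_pos rfl, eta_zero, zero_mul, zero_mul, sub_self, mul_zero, mul_zero, zero_add, neg_zero,
        AddChar.map_zero_eq_one, one_mul]
      have e1 : ∀ y : K, ψ (-(b * y)) * LinearMap.trace k V (R (u 0 * w 1 * u y * ((w 1)⁻¹ * t s))) =
          ψ (y * (-b)) * X R ((s : K) + ((s⁻¹ : Kˣ) : K)) +
          if y = 0 then (LinearMap.trace k V (R (t s)) - X R ((s : K) + ((s⁻¹ : Kˣ) : K))) else 0 := by
        intro y
        rw [tr_G R hψ hK hspan hall, zero_mul, sub_zero, one_mul]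
        have e2 : -(b * y) = y * (-b) := by ring
        rw [e2]
        by_cases hy : y = 0
        · rw [if_pos ⟨rfl, hy⟩, if_pos hy, hy, zero_mul, AddChar.map_zero_eq_one]
          ring
        · rw [if_neg fun h => hy h.2, if_neg hy]
          ring
      rw [Finset.sum_congr rfl fun y _ => e1 y, Finset.sum_add_distrib, ← Finset.sum_mul,
        AddChar.sum_mulShift _ hψ, if_neg (neg_ne_zero.2 hb), Nat.cast_zero, zero_mul, zero_add,
        Finset.sum_ite_eq' Finset.univ (0 : K), if_pos (Finset.mem_univ _)]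
    · rw [if_neg hx, add_zero]
      have e1 : ∀ y : K, LinearMap.trace k V (R (u x * w 1 * u y * ((w 1)⁻¹ * t s))) =
          X R ((1 - x * y) * s + ((s⁻¹ : Kˣ) : K)) := by
        intro y
        rw [tr_G R hψ hK hspan hall, if_neg fun h => hx h.1, add_zero]
      rw [Finset.sum_congr rfl fun y _ => by rw [e1 y]]
      -- substitution `τ = (1 - x y) s + s⁻¹`
      have hsx : (s : K) * x ≠ 0 := mul_ne_zero hs hx
      let f : K ≃ K := (Equiv.subLeft ((s : K) + (s : K)⁻¹)).trans (Equiv.divRight₀ ((s : K) * x) hsx)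
      have hf : ∀ τ, f τ = ((s : K) + (s : K)⁻¹ - τ) / ((s : K) * x) := fun τ => rfl
      rw [← Equiv.sum_comp f (fun y : K => ψ (-(b * y)) * X R ((1 - x * y) * s + ((s⁻¹ : Kˣ) : K)))]
      have e3 : ∀ τ : K, ψ (-(b * f τ)) * X R ((1 - x * f τ) * s + ((s⁻¹ : Kˣ) : K)) =
          ψ (-(b * ((s : K) + (s : K)⁻¹) / ((s : K) * x))) * (ψ (-((-(b / ((s : K) * x))) * τ)) * X R τ) := by
        intro τ
        have e4 : (1 - x * f τ) * s + ((s⁻¹ : Kˣ) : K) = τ := by
          rw [hf, Units.val_inv_eq_inv_val]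
          field_simp
          ring
        rw [e4, ← mul_assoc, ← AddChar.map_add_eq_mul, hf]
        congr 2
        field_simp
        ring
      have e5 := J_eq R (ψ := ψ) (-(b / ((s : K) * x)))
      have e6 : ∑ τ, ψ (-((-(b / ((s : K) * x))) * τ)) * X R τ =
          (Fintype.card K : k) * J R ψ (-(b / ((s : K) * x))) := by
        rw [e5, ← mul_assoc, mul_inv_cancel₀ hK, one_mul]
      rw [Finset.sum_congr rfl fun τ _ => e3 τ, ← Finset.mul_sum, e6, J_sign R hK hX h2, neg_neg,
        eta_div hsx, eta_mul]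
      have e7 : ψ (-(a * x)) * (ψ (-(b * ((s : K) + (s : K)⁻¹) / ((s : K) * x))) * ψ (-(2 * -(b / ((s : K) * x))))) =
          ψ (-(a * x) - b * (((s : K) - 1) / s) ^ 2 / x) := by
        rw [← AddChar.map_add_eq_mul, ← AddChar.map_add_eq_mul]
        congr 1
        field_simp
        ring
      have e8 : ψ (-(a * x)) * (ψ (-(b * ((s : K) + (s : K)⁻¹) / ((s : K) * x))) * ψ (2 * -(b / ((s : K) * x)))) =
          ψ (-(a * x) - b * (((s : K) + 1) / s) ^ 2 / x) := by
        rw [← AddChar.map_add_eq_mul, ← AddChar.map_add_eq_mul]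
        congr 1
        field_simp
        ring
      rw [← e7, ← e8]
      ring
  rw [h1, Finset.sum_congr rfl fun x _ => h3 x, Finset.sum_add_distrib, ← Finset.mul_sum, Finset.sum_sub_distrib,
    Finset.sum_ite_eq' Finset.univ (0 : K), if_pos (Finset.mem_univ _)]

theorem not_isSquare_mul {a b c : K} (h : ¬ IsSquare (a * b)) (hc : c ≠ 0) : ¬ IsSquare (a * (b * c ^ 2)) := by
  rintro ⟨r, hr⟩
  apply h
  refine ⟨r / c, ?_⟩
  field_simp
  linear_combination hr

include hψ hK in
theorem tr_EwEw_eq_zero (hspan : Submodule.span k (Set.range R) = ⊤)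
    (hall : ∀ b : K, b ≠ 0 → finrank k (LinearMap.range (E R ψ b)) = 1) (h0 : E R ψ 0 = 0) {σ : K} {ε : k}
    (C : Cusp R σ (-1) ε) (h2 : (2 : K) ≠ 0) {a b : K} (hab : ¬ IsSquare (a * b)) (s : Kˣ) :
    LinearMap.trace k V (E R ψ a * R (w 1) * E R ψ b * R ((w 1)⁻¹ * t s)) = 0 := by
  have hb : b ≠ 0 := by
    rintro rfl
    exact hab ⟨0, by ring⟩
  have hX := X_sign R hψ hK hspan hall h0 C h2
  obtain ⟨hX2, hX2'⟩ := X_pm R hψ hK hspan hall h0 C
  have hfin := finrank_cast R hψ hK hall h0
  have hG := gs_sq (k := k) h2 hψ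
  have hηab : eta k (-a) * eta k b = - eta k (-1 : K) := by
    have e : (-a : K) = (-1) * a := by ring
    rw [e, eta_mul, mul_assoc, ← eta_mul, eta_of_not_isSquare hab]
    ring
  have hη1 : eta k (-1 : K) * eta k (-1 : K) = 1 := eta_mul_self (by norm_num)
  apply mul_left_cancel₀ (mul_ne_zero hK hK)
  rw [tr_EwEw R hψ hK hspan hall h2 hX a hb s, mul_zero]
  have hs := s.ne_zero
  by_cases hs2 : s ^ 2 = 1
  · have h3 : (s : K) * s = 1 := by
      rw [← Units.val_mul, ← sq, hs2, Units.val_one]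
    have h4 : s = 1 ∨ s = -1 := by
      rcases mul_self_eq_one_iff.1 h3 with h4 | h4
      · exact Or.inl (Units.ext h4)
      · exact Or.inr (Units.ext h4)
    rcases h4 with rfl | rfl
    · have e1 : ∑ x, eta k x * ψ (-(a * x) - b * ((((1 : Kˣ) : K) - 1) / ((1 : Kˣ) : K)) ^ 2 / x) =
          eta k (-a) * gs ψ := by
        rw [← gs_mul h2]
        refine Finset.sum_congr rfl fun x _ => ?_
        congr 2
        rw [Units.val_one]
        simp
      have e2 : ∑ x, eta k x * ψ (-(a * x) - b * ((((1 : Kˣ) : K) + 1) / ((1 : Kˣ) : K)) ^ 2 / x) = 0 := by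
        apply salie
        apply not_isSquare_mul hab
        rw [Units.val_one]
        norm_num
        exact h2
      have e3 : ((1 : Kˣ) : K) + (((1 : Kˣ)⁻¹ : Kˣ) : K) = 2 := by
        rw [inv_one, Units.val_one]
        norm_num
      rw [e1, e2, e3, t_one, R.map_one, LinearMap.trace_one, hX2, hfin, Units.val_one, eta_one]
      linear_combination eta k b * eta k (-a) * hG + eta k (-1 : K) * (Fintype.card K : k) * hηab -
        (Fintype.card K : k) * hη1
    · have e1 : ∑ x, eta k x * ψ (-(a * x) - b * ((((-1 : Kˣ) : K) + 1) / ((-1 : Kˣ) : K)) ^ 2 / x) =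
          eta k (-a) * gs ψ := by
        rw [← gs_mul h2]
        refine Finset.sum_congr rfl fun x _ => ?_
        congr 2
        rw [Units.val_neg, Units.val_one]
        simp
      have e2 : ∑ x, eta k x * ψ (-(a * x) - b * ((((-1 : Kˣ) : K) - 1) / ((-1 : Kˣ) : K)) ^ 2 / x) = 0 := by
        apply salie
        apply not_isSquare_mul hab
        rw [Units.val_neg, Units.val_one]
        norm_num
        exact h2
      have e3 : ((-1 : Kˣ) : K) + (((-1 : Kˣ)⁻¹ : Kˣ) : K) = -2 := by
        rw [inv_neg, inv_one, Units.val_neg, Units.val_one]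
        norm_num
      have e4 : ε = - eta k (-1 : K) := by
        have h5 := hX2' h2
        have e : (-2 : K) - 2 = (-1) * 2 ^ 2 := by norm_num
        rw [hX, neg_add_cancel, eta_zero, e, eta_mul, eta_sq h2] at h5
        linear_combination h5
      rw [e1, e2, e3, C.central, map_smul, smul_eq_mul, LinearMap.trace_one, hX2' h2, hfin, Units.val_neg,
        Units.val_one, e4]
      linear_combination -eta k b * eta k (-a) * eta k (-1 : K) * hG - (Fintype.card K : k) * hηab -
        (Fintype.card K : k) * eta k b * eta k (-a) * hη1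
  · have hs1 : (s : K) - 1 ≠ 0 := by
      intro h
      apply hs2
      have : s = 1 := Units.ext (by rw [Units.val_one]; linear_combination h)
      rw [this, one_pow]
    have hs1' : (s : K) + 1 ≠ 0 := by
      intro h
      apply hs2
      have : s = -1 := Units.ext (by rw [Units.val_neg, Units.val_one]; linear_combination h)
      rw [this, neg_one_sq]
    have e3 : X R ((s : K) + ((s⁻¹ : Kˣ) : K)) = LinearMap.trace k V (R (t s)) := by
      rw [trace_eq_X R (t s), mt_t]
      rw [mt_t, Units.val_inv_eq_inv_val]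
      intro h
      have h5 : ((s : K) - 1) ^ 2 * ((s : K) + 1) ^ 2 = 0 := by
        field_simp at h
        linear_combination h
      rcases mul_eq_zero.1 h5 with h6 | h6
      · exact hs1 (pow_eq_zero_iff two_ne_zero |>.1 h6)
      · exact hs1' (pow_eq_zero_iff two_ne_zero |>.1 h6)
    rw [e3, sub_self, add_zero, salie ψ (not_isSquare_mul hab (div_ne_zero hs1 hs)),
      salie ψ (not_isSquare_mul hab (div_ne_zero hs1' hs)), sub_self, mul_zero]

include hψ hK in
/-- **`θ ≠ -1`.** -/
theorem not_sign (hspan : Submodule.span k (Set.range R) = ⊤)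
    (hall : ∀ b : K, b ≠ 0 → finrank k (LinearMap.range (E R ψ b)) = 1) (h0 : E R ψ 0 = 0) {σ : K} {ε : k}
    (C : Cusp R σ (-1) ε) (h2 : (2 : K) ≠ 0) : False := by
  have hE : ∀ b : K, b ≠ 0 → E R ψ b ≠ 0 := by
    intro b hb h
    have h1 := hall b hb
    rw [h, LinearMap.range_zero, finrank_bot] at h1
    exact zero_ne_one h1
  have hinv : ∀ s : Kˣ, R (t s) * R (t s⁻¹) = 1 := by
    intro s
    rw [← R.map_mul, ← t_mul, mul_inv_cancel, t_one, R.map_one]
  have hinv' : ∀ s : Kˣ, R (t s⁻¹) * R (t s) = 1 := by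
    intro s
    rw [← R.map_mul, ← t_mul, inv_mul_cancel, t_one, R.map_one]
  have hwinv : (w (1 : Kˣ))⁻¹ = t (-1) * w 1 := by
    rw [inv_eq_iff_mul_eq_one, mul_eq_one_iff_eq_inv, inv_eq_of_mul_eq_one_right]
    have h3 := w_mul_w (1 : Kˣ) 1
    rw [div_one] at h3
    rw [mul_assoc, h3, ← t_mul, neg_mul_neg, one_mul, t_one]
  have hε : ε ≠ 0 := by
    rcases C.eps with h | h <;> rw [h]
    · exact one_ne_zero
    · exact neg_ne_zero.2 one_ne_zero
  obtain ⟨n, hn⟩ : ∃ n : K, ¬ IsSquare n := by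
    obtain ⟨n, hn⟩ := quadraticChar_exists_neg_one (F := K) (ringChar_ne_two h2)
    exact ⟨n, quadraticChar_neg_one_iff_not_isSquare.1 hn⟩
  have hn0 : n ≠ 0 := by
    rintro rfl
    exact hn ⟨0, by ring⟩
  -- one non-zero coefficient kills the opposite block
  have key : ∀ a b : K, ¬ IsSquare (a * b) → E R ψ a * R (w 1) * E R ψ b ≠ 0 →
      ∀ s : Kˣ, E R ψ b * R (w 1) * E R ψ (a / (s : K) ^ 2) = 0 := by
    intro a b hab hne s
    have ha0 : a ≠ 0 := by
      rintro rfl
      exact hab ⟨0, by ring⟩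
    have hb0 : b ≠ 0 := by
      rintro rfl
      exact hab ⟨0, by ring⟩
    have h3 : E R ψ a * (R (w 1) * E R ψ b * R ((w 1)⁻¹ * t s)) * E R ψ a = 0 := by
      rw [E_mul_mul_E R (hall a ha0)]
      have h4 := tr_EwEw_eq_zero R hψ hK hspan hall h0 C h2 hab s
      rw [← mul_assoc, ← mul_assoc, h4, zero_smul]
    -- `E_b W'T E_a = 0`
    have h4 : E R ψ b * R ((w 1)⁻¹ * t s) * E R ψ a = 0 := by
      obtain ⟨v, hv, hv0⟩ := Submodule.exists_mem_ne_zero_of_ne_bot (p := LinearMap.range (E R ψ b)) (by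
        intro h
        have h1 := hall b hb0
        rw [h, finrank_bot] at h1
        exact zero_ne_one h1)
      have hgen : ∀ x, ∃ c : k, E R ψ b x = c • v := by
        intro x
        obtain ⟨c, hc⟩ := (finrank_eq_one_iff_of_nonzero' (⟨v, hv⟩ : LinearMap.range (E R ψ b))
          (fun h => hv0 (congrArg Subtype.val h))).1 (hall b hb0) ⟨E R ψ b x, LinearMap.mem_range_self _ _⟩
        exact ⟨c, (congrArg Subtype.val hc).symm⟩
      have hvv : E R ψ b v = v := by
        obtain ⟨x, rfl⟩ := hv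
        rw [← Module.End.mul_apply, E_mul_self R hψ hK]
      have hPv : (E R ψ a * R (w 1)) v ≠ 0 := by
        intro h
        apply hne
        ext x
        obtain ⟨c, hc⟩ := hgen x
        rw [Module.End.mul_apply, hc, map_smul, h, smul_zero, LinearMap.zero_apply]
      ext x
      obtain ⟨c, hc⟩ := hgen ((R ((w 1)⁻¹ * t s) * E R ψ a) x)
      have h5 := congrArg (fun A : Module.End k V => A x) h3
      have e : E R ψ a * (R (w 1) * E R ψ b * R ((w 1)⁻¹ * t s)) * E R ψ a =
          (E R ψ a * R (w 1)) * (E R ψ b * (R ((w 1)⁻¹ * t s) * E R ψ a)) := by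
        simp only [mul_assoc]
      rw [e] at h5
      simp only [Module.End.mul_apply (E R ψ a * R (w 1)), Module.End.mul_apply (E R ψ b), hc,
        LinearMap.zero_apply] at h5
      rw [map_smul] at h5
      have h6 := (smul_eq_zero.1 h5).resolve_right hPv
      rw [mul_assoc, Module.End.mul_apply, hc, h6, zero_smul, LinearMap.zero_apply]
    rw [R.map_mul, hwinv, R.map_mul, C.central, smul_mul_assoc, one_mul, smul_mul_assoc, mul_smul_comm,
      smul_mul_assoc] at h4
    have h5 := (smul_eq_zero.1 h4).resolve_left hε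
    rw [mul_assoc, mul_assoc, t_mul_E, ← mul_assoc (R (w 1)), ← mul_assoc] at h5
    have h6 := congrArg (fun A => A * R (t s⁻¹)) h5
    simp only [zero_mul] at h6
    rw [mul_assoc, hinv, mul_one, ← mul_assoc] at h6
    exact h6
  -- moving the first weight
  have move : ∀ (b a : K) (r : Kˣ), (∀ s : Kˣ, E R ψ b * R (w 1) * E R ψ (a / (s : K) ^ 2) = 0) →
      ∀ s : Kˣ, E R ψ (b * (r : K) ^ 2) * R (w 1) * E R ψ (a / (s : K) ^ 2) = 0 := by
    intro b a r h s
    have hr : (r : K) ^ 2 ≠ 0 := pow_ne_zero 2 r.ne_zero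
    have h3 : R (t r) * E R ψ (b * (r : K) ^ 2) = E R ψ b * R (t r) := by
      rw [t_mul_E, mul_div_cancel_right₀ _ hr]
    have h4 : R (t r) * R (w 1) = R (w 1) * R (t r⁻¹) := by
      rw [← R.map_mul, ← R.map_mul]
      congr 1
      apply Subtype.ext
      ext i j
      fin_cases i <;> fin_cases j <;> simp
    have h5 : R (t r) * (E R ψ (b * (r : K) ^ 2) * R (w 1) * E R ψ (a / (s : K) ^ 2)) = 0 := by
      rw [← mul_assoc, ← mul_assoc, h3, mul_assoc (E R ψ b), h4, mul_assoc, mul_assoc, t_mul_E]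
      have e : a / (s : K) ^ 2 / ((r⁻¹ : Kˣ) : K) ^ 2 = a / ((s * r⁻¹ : Kˣ) : K) ^ 2 := by
        rw [div_div, Units.val_mul, mul_pow]
      rw [e, ← mul_assoc, ← mul_assoc, h, zero_mul]
    have h6 := congrArg (fun A => R (t r⁻¹) * A) h5
    simp only [mul_zero] at h6
    rwa [← mul_assoc, hinv', one_mul] at h6
  have hsq : ∀ s : Kˣ, n ≠ 1 / (s : K) ^ 2 := by
    intro s h
    apply hn
    rw [h]
    exact ⟨1 / s, by rw [sq, div_mul_div_comm, one_mul]⟩
  have hsq' : ∀ s : Kˣ, (1 : K) ≠ n / (s : K) ^ 2 := by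
    intro s h
    apply hn
    have hs : (s : K) ^ 2 ≠ 0 := pow_ne_zero 2 s.ne_zero
    rw [eq_div_iff hs, one_mul] at h
    exact ⟨s, by rw [← h, sq]⟩
  by_cases hcase : ∀ s : Kˣ, E R ψ n * R (w 1) * E R ψ (1 / (s : K) ^ 2) = 0
  · exact no_block R hψ hK hspan (hE n hn0) (hE 1 one_ne_zero) hsq hcase
  · push Not at hcase
    obtain ⟨s, hs⟩ := hcase
    have hs0 : (s : K) ≠ 0 := s.ne_zero
    have h3 : ¬ IsSquare (n * (1 / (s : K) ^ 2)) := by
      rintro ⟨r, hr⟩
      apply hn
      refine ⟨r * s, ?_⟩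
      field_simp at hr
      linear_combination hr
    have h4 := key n (1 / (s : K) ^ 2) h3 hs
    have h5 := move _ _ s h4
    have e : 1 / (s : K) ^ 2 * (s : K) ^ 2 = 1 := by field_simp
    rw [e] at h5
    exact no_block R hψ hK hspan (hE 1 one_ne_zero) (hE n hn0) hsq' h5

end Sign

end Cfsg.Agent.H931.L2T
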