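import Cfsg.Agent.H931.L2Cusp
import Cfsg.Agent.H931.L2Cheb

/-!
# Representations of `SL₂(q)` of degree `q - 1`: the root of unity (helper931)

`exists_theta` : there is `θ` with `θ ^ (q+1) = 1`; the trace at an element without eigenvalue in `K` is `-(θ^m + θ⁻ᵐ)`.
-/

set_option autoImplicit false
set_option linter.unusedSectionVars false

namespace Cfsg.Agent.H931.L2T

open Matrix Module Cfsg Cfsg.Geo Cfsg.Agent.H464.Sl2 L2N

section Theta

variable {K : Type*} [Field K] [Fintype K] {k : Type*} [Field k] {V : Type*} [AddCommGroup V] [Module k V]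
  [FiniteDimensional k V] (R : SpecialLinearGroup (Fin 2) K →* Module.End k V) {ψ : AddChar K k}
  (hψ : ψ.IsPrimitive) (hK : (Fintype.card K : k) ≠ 0)

/-- The data of a module of degree `q - 1`: `θ` and a generator `σ` of the non-split traces. -/
structure Cusp (σ : K) (θ ε : k) : Prop where
  ne_zero : θ ≠ 0
  pow_card : θ ^ (Fintype.card K + 1) = 1
  /-- the traces of the powers of the generator -/
  tr : ∀ m : ℕ, T σ m ^ 2 - 4 ≠ 0 → X R (T σ m) = -(θ ^ m + θ⁻¹ ^ m)
  surj : ∀ τ : K, (∀ x : K, x * x - τ * x + 1 ≠ 0) → ∃ m : ℕ, τ = T σ m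
  nonsplit : ∀ x : K, x * x - σ * x + 1 ≠ 0
  gen : (2 : K) ≠ 0 → ¬ IsSquare (σ + 2)
  central : R (t (-1)) = ε • 1
  half : (2 : K) ≠ 0 → ∀ m : ℕ, 2 * m = Fintype.card K + 1 → θ ^ m = ε
  eps : ε = 1 ∨ ε = -1

include hψ hK in
theorem exists_theta [IsAlgClosed k] (hspan : Submodule.span k (Set.range R) = ⊤)
    (hall : ∀ b : K, b ≠ 0 → finrank k (LinearMap.range (E R ψ b)) = 1) (h0 : E R ψ 0 = 0) :
    ∃ (σ : K) (θ ε : k), Cusp R σ θ ε := by
  classical
  obtain ⟨σ, c, hc, hσc⟩ := exists_gen (K := K)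
  have hσ := nonsplit_of_gen hc hσc
  have h1 : ∀ ζ : Kˣ, ∃ c : k, ζ ^ 2 = 1 → R (t ζ) = c • 1 := by
    intro ζ
    by_cases h : ζ ^ 2 = 1
    · obtain ⟨c, hc⟩ := central_scalar R hspan (t_sq_central h)
      exact ⟨c, fun _ => hc⟩
    · exact ⟨0, fun h' => absurd h' h⟩
  choose cz hcz using h1
  have : Fintype (SpecialLinearGroup (Fin 2) K) := Fintype.ofFinite _
  have : Fintype Kˣ := Fintype.ofFinite _
  have hV : (1 : Module.End k V) ≠ 0 := by
    intro h
    have h2 := hall 1 one_ne_zero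
    rw [← mul_one (E R ψ 1), h, mul_zero, LinearMap.range_zero, finrank_bot] at h2
    exact zero_ne_one h2
  have hcz1 : cz 1 = 1 := by
    have h2 := hcz 1 (one_pow 2)
    rw [t_one, map_one] at h2
    have h3 : (1 - cz 1) • (1 : Module.End k V) = 0 := by rw [sub_smul, one_smul, ← h2, sub_self]
    rcases smul_eq_zero.1 h3 with h4 | h4
    · exact (sub_eq_zero.1 h4).symm
    · exact absurd h4 hV
  have hsq : cz (-1) ^ 2 = 1 := by
    have h2 := hcz (-1) (by rw [neg_one_sq])
    have h3 : R (t (-1)) * R (t (-1)) = 1 := by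
      rw [← R.map_mul, ← t_mul, neg_mul_neg, one_mul, t_one, R.map_one]
    rw [h2, smul_mul_smul_comm, one_mul, ← sq] at h3
    have h4 : (cz (-1) ^ 2 - 1) • (1 : Module.End k V) = 0 := by rw [sub_smul, one_smul, h3, sub_self]
    rcases smul_eq_zero.1 h4 with h5 | h5
    · exact sub_eq_zero.1 h5
    · exact absurd h5 hV
  have hε : cz (-1) = 1 ∨ cz (-1) = -1 := by
    rw [sq] at hsq
    exact mul_self_eq_one_iff.1 hsq
  -- the root
  obtain ⟨θ, hθ⟩ : ∃ θ : k, θ * θ + Y R cz σ * θ + 1 = 0 := by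
    obtain ⟨a, ha⟩ := IsAlgClosed.exists_root
      (Polynomial.X ^ 2 + Polynomial.C (Y R cz σ) * Polynomial.X + Polynomial.C 1) (by
        have : (Polynomial.X ^ 2 + Polynomial.C (Y R cz σ) * Polynomial.X + Polynomial.C 1 :
          Polynomial k).degree = 2 := by
          compute_degree!
        rw [this]
        decide)
    refine ⟨a, ?_⟩
    rw [Polynomial.IsRoot.def] at ha
    simp only [Polynomial.eval_add, Polynomial.eval_pow, Polynomial.eval_X, Polynomial.eval_mul,
      Polynomial.eval_C] at ha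
    linear_combination ha
  have hθ0 : θ ≠ 0 := by
    rintro rfl
    simp at hθ
  have hθi : θ * θ⁻¹ = 1 := mul_inv_cancel₀ hθ0
  have hY1 : Y R cz σ = -(θ + θ⁻¹) := by
    field_simp
    linear_combination hθ
  have hY : ∀ m : ℕ, Y R cz (T σ m) = -(θ ^ m + θ⁻¹ ^ m) := by
    intro m
    induction m using Nat.strong_induction_on with
    | _ m ih =>
      match m, ih with
      | 0, _ =>
        have h2 := Y_two R hψ hK cz hcz hspan hall h0 (ζ := 1) (one_pow 2)
        rw [Units.val_one, mul_one, hcz1] at h2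
        rw [T_zero, h2, pow_zero, pow_zero]
        ring
      | 1, _ => rw [T_one, hY1, pow_one, pow_one]
      | (m + 2), ih =>
        have h2 := Y_rec R hψ hK cz hcz hspan hall h0 hσ (T_sum σ m) (T_prod σ m)
        rw [ih (m + 1) (by omega), ih m (by omega), hY1] at h2
        linear_combination h2 - (θ ^ m + θ⁻¹ ^ m) * hθi
  have hpm : ∀ (N : ℕ) (e : k), e * e = 1 → θ ^ N + θ⁻¹ ^ N = 2 * e → θ ^ N = e := by
    intro N e he h2
    have h3 : θ ^ N * θ⁻¹ ^ N = 1 := by rw [← mul_pow, hθi, one_pow]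
    have h4 : (θ ^ N - e) ^ 2 = 0 := by
      linear_combination θ ^ N * h2 - h3 + he
    exact sub_eq_zero.1 (pow_eq_zero_iff two_ne_zero |>.1 h4)
  refine ⟨σ, θ, cz (-1), hθ0, ?_, ?_, fun τ hτ => exists_T hc hσc hτ, hσ, not_isSquare_gen hc hσc, hcz (-1) (by rw [neg_one_sq]), ?_, hε⟩
  · apply hpm _ 1 (one_mul 1)
    have h2 := hY (Fintype.card K + 1)
    rw [T_period hc hσc, ← T_zero σ, hY 0, pow_zero, pow_zero] at h2
    linear_combination h2
  · intro m hm
    rw [← Y_eq_X R cz hm, hY m]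
  · intro h2 m hm
    apply hpm m _ (by rw [← sq, hsq])
    have h3 := hY m
    have h4 := Y_two R hψ hK cz hcz hspan hall h0 (ζ := -1) (by rw [neg_one_sq])
    rw [Units.val_neg, Units.val_one, mul_neg, mul_one] at h4
    rw [T_half hc hσc h2 hm, h4] at h3
    linear_combination h3

end Theta

end Cfsg.Agent.H931.L2T
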