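import Cfsg.Agent.H885.RootT

/-!
Overgroups of `SL₂(F) ⊗ Sp(W)` in the orthogonal group of `F² ⊗ W`, `W` symplectic of dimension at least 6.

`Model Q B φ`: `φ : W × W ≃ V` and `Q (φ (a, b)) = B a b` for a nondegenerate alternating form `B` on `W`
(so `φ (a, b) = e₁ ⊗ a + e₂ ⊗ b`).  `Big H Q φ`: `H` consists of isometries of `Q` and contains the `1 ⊗ t`
for `t` a transvection (these are Siegel transformations) and `SL₂(F) ⊗ 1`.

* `E_le_of_TT`: if `H` contains a root group at a pure tensor outside the tensor product, `H` contains `E Q`;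
* `E_le_of_moves`: if `H` does not permute the spaces `F² ⊗ w`, `H` contains `E Q` (`|F| ≥ 3`).
-/

set_option autoImplicit false

namespace Cfsg.Agent.H931.TenTwo

open QuadraticMap Cfsg.Agent.LieClassical.OrthCore Cfsg.Agent.LieClassical.OrthTrans
  Cfsg.Agent.LieClassical.OrthFinite Cfsg.Agent.LieClassical.OrthSimple Cfsg.Agent.H885.RootT

variable {F V W : Type*} [Field F] [AddCommGroup V] [Module F V] [AddCommGroup W] [Module F W]

/-! ### The sets of root elements without proof arguments -/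

/-- `z ∈ T H Q x`. -/
def TT (H : Subgroup (V ≃ₗ[F] V)) (Q : QuadraticForm F V) (x z : V) : Prop :=
  ∀ c : F, SM H Q x (c • z)

section TT

variable {Q : QuadraticForm F V} {H : Subgroup (V ≃ₗ[F] V)} {x z z' : V}

theorem TT.sing (h : TT H Q x z) : Q x = 0 := (h 0).sing

theorem TT.SM (h : TT H Q x z) : SM H Q x z := by
  have := h 1
  rwa [one_smul] at this

theorem TT.add (h : TT H Q x z) (h' : TT H Q x z') : TT H Q x (z + z') := fun c => by
  rw [smul_add]
  exact (h c).add (h' c)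

theorem TT.sub (h : TT H Q x z) (h' : TT H Q x z') : TT H Q x (z - z') := fun c => by
  rw [smul_sub]
  exact (h c).sub (h' c)

theorem TT.smul (h : TT H Q x z) (a : F) : TT H Q x (a • z) := fun c => by
  rw [smul_smul]
  exact h (c * a)

theorem TT.of_smul {a : F} (ha : a ≠ 0) (h : TT H Q x (a • z)) : TT H Q x z := by
  have := h.smul a⁻¹
  rwa [smul_smul, inv_mul_cancel₀ ha, one_smul] at this

theorem TT.conj {g : V ≃ₗ[F] V} (hg : g ∈ H) (hO : g ∈ O Q) (h : TT H Q x z) :
    TT H Q (g x) (g z) := fun c => by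
  rw [← map_smul]
  exact (h c).conj hg hO

theorem TT.symm (h : TT H Q x z) (hz : Q z = 0) : TT H Q z x :=
  T_symm (hx := h.sing) h hz

theorem TT.self (hx : Q x = 0) (c : F) : TT H Q x (c • x) := fun d => by
  rw [smul_smul]
  exact SM.self hx _

theorem full_of_TT (hx : Q x = 0) (h : ∀ z, polar Q x z = 0 → TT H Q x z) : Full H Q x :=
  ⟨hx, fun z hz => (h z hz).SM⟩

end TT

/-! ### The model -/

/-- `V = F² ⊗ W`, `Q (e₁ ⊗ a + e₂ ⊗ b) = B a b`. -/
structure Model (Q : QuadraticForm F V) (B : LinearMap.BilinForm F W) (φ : (W × W) ≃ₗ[F] V) :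
    Prop where
  alt : ∀ w, B w w = 0
  nondeg : ∀ w, (∀ v, B w v = 0) → w = 0
  form : ∀ a b, Q (φ (a, b)) = B a b

/-- Hypotheses on the overgroup. -/
structure Big (H : Subgroup (V ≃ₗ[F] V)) (Q : QuadraticForm F V) (φ : (W × W) ≃ₗ[F] V) :
    Prop where
  le : H ≤ O Q
  root : ∀ (w : W) (c : F), SM H Q (φ (w, 0)) (φ (0, c • w))
  up : ∀ c : F, ∃ g ∈ H, ∀ a b : W, g (φ (a, b)) = φ (a + c • b, b)
  low : ∀ c : F, ∃ g ∈ H, ∀ a b : W, g (φ (a, b)) = φ (a, b + c • a)

/-- The vector lies in `F² ⊗ w`. -/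
def InL (φ : (W × W) ≃ₗ[F] V) (w : W) (z : V) : Prop := ∃ s t : F, z = φ (s • w, t • w)

variable {Q : QuadraticForm F V} {B : LinearMap.BilinForm F W} {φ : (W × W) ≃ₗ[F] V}
  {H : Subgroup (V ≃ₗ[F] V)}

theorem phi_add (a b a' b' : W) : φ (a, b) + φ (a', b') = φ (a + a', b + b') := by
  rw [← map_add]; rfl

theorem phi_sub (a b a' b' : W) : φ (a, b) - φ (a', b') = φ (a - a', b - b') := by
  rw [← map_sub]; rfl

theorem phi_smul (c : F) (a b : W) : c • φ (a, b) = φ (c • a, c • b) := by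
  rw [← map_smul]; rfl

theorem phi_inj {a b a' b' : W} : φ (a, b) = φ (a', b') ↔ a = a' ∧ b = b' := by
  rw [φ.injective.eq_iff, Prod.mk.injEq]

theorem phi_zero : φ ((0 : W), (0 : W)) = 0 := map_zero φ

namespace Model

theorem skew (hM : Model Q B φ) (a b : W) : B a b = - B b a := by
  have h := hM.alt (a + b)
  simp only [map_add, LinearMap.add_apply, hM.alt, zero_add, add_zero] at h
  exact eq_neg_of_add_eq_zero_right h

theorem zero_comm (hM : Model Q B φ) {a b : W} (h : B a b = 0) : B b a = 0 := by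
  rw [hM.skew, h, neg_zero]

theorem polar (hM : Model Q B φ) (a b a' b' : W) :
    polar Q (φ (a, b)) (φ (a', b')) = B a b' + B a' b := by
  rw [QuadraticMap.polar, phi_add, hM.form, hM.form, hM.form]
  simp only [map_add, LinearMap.add_apply]
  ring

theorem sing1 (hM : Model Q B φ) (w : W) : Q (φ (w, 0)) = 0 := by rw [hM.form, map_zero]

theorem sing2 (hM : Model Q B φ) (w : W) : Q (φ (0, w)) = 0 := by
  rw [hM.form, map_zero, LinearMap.zero_apply]

/-- Siegel transformations in the model. -/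
theorem siegel (hM : Model Q B φ) {p q r s : W} (hx : Q (φ (p, q)) = 0)
    (hw : QuadraticMap.polar Q (φ (p, q)) (φ (r, s)) = 0) (a b : W) :
    siegel Q (φ (p, q)) (φ (r, s)) hx hw (φ (a, b)) =
      φ (a + (B p b + B a q) • r - (B r b + B a s) • p - (B r s * (B p b + B a q)) • p,
        b + (B p b + B a q) • s - (B r b + B a s) • q - (B r s * (B p b + B a q)) • q) := by
  rw [siegel_apply, hM.polar, hM.polar, hM.form]
  simp only [phi_smul, phi_add, phi_sub]

theorem exists_rep [FiniteDimensional F W] (hM : Model Q B φ) (f : W →ₗ[F] F) :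
    ∃ u, ∀ v, B u v = f v := by
  have hinj : Function.Injective B := by
    rw [← LinearMap.ker_eq_bot, eq_bot_iff]
    intro z hz
    rw [LinearMap.mem_ker] at hz
    rw [Submodule.mem_bot]
    apply hM.nondeg
    intro y
    rw [hz, LinearMap.zero_apply]
  have hsurj : Function.Surjective B := by
    have := LinearMap.injective_iff_surjective_of_finrank_eq_finrank (f := B)
      (by rw [Subspace.dual_finrank_eq])
    exact this.1 hinj
  obtain ⟨u, hu⟩ := hsurj f
  exact ⟨u, fun v => by rw [hu]⟩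

/-- Separation of a vector from a subspace by the form. -/
theorem exists_sep [FiniteDimensional F W] (hM : Model Q B φ) {S : Submodule F W} {x : W}
    (hx : x ∉ S) : ∃ u, (∀ s ∈ S, B u s = 0) ∧ B u x = 1 := by
  obtain ⟨f, hfx, hfS⟩ := Submodule.exists_dual_map_eq_bot_of_notMem hx inferInstance
  obtain ⟨u, hu⟩ := hM.exists_rep f
  refine ⟨(f x)⁻¹ • u, fun s hs => ?_, ?_⟩
  · rw [map_smul, LinearMap.smul_apply, hu]
    have : f s ∈ S.map f := Submodule.mem_map_of_mem hs
    rw [hfS] at this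
    rw [(Submodule.mem_bot F).1 this, smul_zero]
  · rw [map_smul, LinearMap.smul_apply, hu, smul_eq_mul, inv_mul_cancel₀ hfx]

theorem exists_ne (hM : Model Q B φ) {w : W} (hw : w ≠ 0) : ∃ v, B w v ≠ 0 := by
  by_contra h
  push Not at h
  exact hw (hM.nondeg w h)

theorem exists_ne2 (hM : Model Q B φ) {w w' : W} (hw : w ≠ 0) (hw' : w' ≠ 0) :
    ∃ v, B w v ≠ 0 ∧ B w' v ≠ 0 := by
  obtain ⟨v, hv⟩ := hM.exists_ne hw
  obtain ⟨v', hv'⟩ := hM.exists_ne hw'
  by_cases h1 : B w' v = 0
  · by_cases h2 : B w v' = 0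
    · refine ⟨v + v', ?_, ?_⟩
      · rwa [map_add, h2, add_zero]
      · rwa [map_add, h1, zero_add]
    · exact ⟨v', h2, hv'⟩
  · exact ⟨v, hv, h1⟩

/-- In the orthogonal space of two vectors the form is not zero, in dimension at least 5. -/
theorem exists_pair [FiniteDimensional F W] (hM : Model Q B φ) (h5 : 5 ≤ Module.finrank F W)
    (w v : W) : ∃ y u, B w y = 0 ∧ B v y = 0 ∧ B w u = 0 ∧ B v u = 0 ∧ B y u ≠ 0 := by
  classical
  by_contra hcon
  push Not at hcon
  have hrefl : B.IsRefl := fun a b h => hM.zero_comm h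
  have hnd : B.Nondegenerate := by
    rw [LinearMap.BilinForm.nondegenerate_iff_ker_eq_bot, eq_bot_iff]
    intro z hz
    rw [LinearMap.mem_ker] at hz
    rw [Submodule.mem_bot]
    apply hM.nondeg
    intro y
    rw [hz, LinearMap.zero_apply]
  set S : Submodule F W := Submodule.span F {w, v} with hS
  have hS2 : Module.finrank F S ≤ 2 := by
    have := finrank_span_finset_le_card (R := F) ({w, v} : Finset W)
    rw [Finset.coe_pair] at this
    exact this.trans Finset.card_le_two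
  have h1 := LinearMap.BilinForm.finrank_orthogonal hnd S
  have h2 := LinearMap.BilinForm.finrank_orthogonal hnd (B.orthogonal S)
  have h3 : B.orthogonal S ≤ B.orthogonal (B.orthogonal S) := by
    intro u hu
    rw [LinearMap.BilinForm.mem_orthogonal_iff] at hu ⊢
    intro y hy
    rw [LinearMap.BilinForm.mem_orthogonal_iff] at hy
    have hw : w ∈ S := Submodule.subset_span (by simp)
    have hv : v ∈ S := Submodule.subset_span (by simp)
    exact hcon y u (hy w hw) (hy v hv) (hu w hw) (hu v hv)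
  have h4 := Submodule.finrank_mono h3
  omega

end Model

namespace Big

/-- `1 ⊗ t` for a transvection `t`. -/
theorem trv (hM : Model Q B φ) (hH : Big H Q φ) (u : W) (c : F) :
    ∃ g ∈ H, ∀ a b : W, g (φ (a, b)) = φ (a + (c * B u a) • u, b + (c * B u b) • u) := by
  obtain ⟨hx, hw, hm⟩ := hH.root u c
  refine ⟨_, hm, fun a b => ?_⟩
  rw [hM.siegel hx hw]
  simp only [map_zero, LinearMap.zero_apply, map_smul, smul_zero, smul_eq_mul, zero_add, add_zero,
    sub_zero]
  rw [hM.skew a u]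
  congr 2
  · module
  · module

theorem swap (hH : Big H Q φ) : ∃ g ∈ H, ∀ a b : W, g (φ (a, b)) = φ (b, -a) := by
  obtain ⟨u, hu, hu'⟩ := hH.up 1
  obtain ⟨l, hl, hl'⟩ := hH.low (-1)
  refine ⟨u * (l * u), H.mul_mem hu (H.mul_mem hl hu), fun a b => ?_⟩
  rw [LinearEquiv.mul_apply, LinearEquiv.mul_apply, hu', hl', hu', phi_inj]
  constructor
  · module
  · module

/-- The permutation `r` of `W` such that `1 ⊗ r ∈ H`. -/
def Act (H : Subgroup (V ≃ₗ[F] V)) (φ : (W × W) ≃ₗ[F] V) (r : Equiv.Perm W) : Prop :=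
  ∃ g ∈ H, ∀ a b : W, g (φ (a, b)) = φ (r a, r b)

theorem act_mul {r r' : Equiv.Perm W} (h : Act H φ r) (h' : Act H φ r') : Act H φ (r * r') := by
  obtain ⟨g, hg, hgr⟩ := h
  obtain ⟨g', hg', hgr'⟩ := h'
  refine ⟨g * g', H.mul_mem hg hg', fun a b => ?_⟩
  rw [LinearEquiv.mul_apply, hgr', hgr]
  rfl

theorem act_isom (hM : Model Q B φ) (hH : Big H Q φ) {r : Equiv.Perm W} (h : Act H φ r) (a b : W) :
    B (r a) (r b) = B a b := by
  obtain ⟨g, hg, hgr⟩ := h
  rw [← hM.form, ← hM.form, ← hgr]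
  exact mem_O.1 (hH.le hg) _

/-- A transvection as a permutation. -/
def trvPerm (hM : Model Q B φ) (u : W) (c : F) : Equiv.Perm W where
  toFun a := a + (c * B u a) • u
  invFun a := a - (c * B u a) • u
  left_inv a := by
    simp only [map_add, map_smul, hM.alt, smul_eq_mul, mul_zero, add_zero, add_sub_cancel_right]
  right_inv a := by
    simp only [map_sub, map_smul, hM.alt, smul_eq_mul, mul_zero, sub_zero, sub_add_cancel]

theorem trvPerm_apply (hM : Model Q B φ) (u : W) (c : F) (a : W) :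
    trvPerm hM u c a = a + (c * B u a) • u := rfl

theorem act_trv (hM : Model Q B φ) (hH : Big H Q φ) (u : W) (c : F) : Act H φ (trvPerm hM u c) := by
  obtain ⟨g, hg, h⟩ := hH.trv hM u c
  exact ⟨g, hg, h⟩

/-- Transitivity on the nonzero vectors of `W`. -/
theorem trans (hM : Model Q B φ) (hH : Big H Q φ) {w w' : W} (hw : w ≠ 0) (hw' : w' ≠ 0) :
    ∃ r, Act H φ r ∧ r w = w' := by
  have key : ∀ {w w' : W}, B w w' ≠ 0 → ∃ r, Act H φ r ∧ r w = w' := by
    intro w w' h
    refine ⟨trvPerm hM (w' - w) (B w' w)⁻¹, hH.act_trv hM _ _, ?_⟩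
    have h' : B w' w ≠ 0 := fun h0 => h (hM.zero_comm h0)
    rw [trvPerm_apply, map_sub, LinearMap.sub_apply, hM.alt, sub_zero, inv_mul_cancel₀ h', one_smul,
      add_sub_cancel]
  obtain ⟨v, h1, h2⟩ := hM.exists_ne2 hw hw'
  obtain ⟨r, hr, hrv⟩ := key h1
  obtain ⟨r', hr', hrv'⟩ := key (fun h0 => h2 (hM.zero_comm h0) : B v w' ≠ 0)
  exact ⟨r' * r, act_mul hr' hr, by rw [Equiv.Perm.mul_apply, hrv, hrv']⟩

end Big

end Cfsg.Agent.H931.TenTwo
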