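import Cfsg.Agent.H931.TenTwo

/-!
`E_le_of_TT`: an overgroup of `SL₂ ⊗ Sp(W)` with a root group at a pure tensor outside `SL₂ ⊗ Sp(W)` contains
`E Q`.  `E_le_of_moves`: an overgroup not permuting the spaces `F² ⊗ w` contains `E Q`.
-/

set_option autoImplicit false

namespace Cfsg.Agent.H931.TenTwo

open QuadraticMap Cfsg.Agent.LieClassical.OrthCore Cfsg.Agent.LieClassical.OrthTrans
  Cfsg.Agent.LieClassical.OrthFinite Cfsg.Agent.LieClassical.OrthSimple Cfsg.Agent.H885.RootT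

variable {F V W : Type*} [Field F] [AddCommGroup V] [Module F V] [AddCommGroup W] [Module F W]
  {Q : QuadraticForm F V} {B : LinearMap.BilinForm F W} {φ : (W × W) ≃ₗ[F] V}
  {H : Subgroup (V ≃ₗ[F] V)}

namespace Big

/-- Step 1. -/
theorem exists_y (hH : Big H Q φ) {w : W} {z : V} (hz : TT H Q (φ (w, 0)) z)
    (hz' : ¬ InL φ w z) : ∃ y, (∀ c : F, y ≠ c • w) ∧ TT H Q (φ (w, 0)) (φ (y, 0)) := by
  obtain ⟨⟨a, b⟩, rfl⟩ := φ.surjective z
  by_cases hb : ∃ t : F, b = t • w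
  · obtain ⟨t, rfl⟩ := hb
    refine ⟨a, fun c hc => hz' ⟨c, t, by rw [hc]⟩, ?_⟩
    have h1 : TT H Q (φ (w, 0)) (φ (0, t • w)) := fun c => by
      rw [phi_smul, smul_zero, smul_smul]
      exact hH.root w _
    have h2 := hz.sub h1
    rwa [phi_sub, sub_zero, sub_self] at h2
  · push Not at hb
    refine ⟨b, hb, ?_⟩
    obtain ⟨g, hg, hg'⟩ := hH.up 1
    have h1 := hz.conj hg (hH.le hg)
    rw [hg', hg', smul_zero, add_zero] at h1
    have h2 := h1.sub hz
    rwa [phi_sub, sub_self, one_smul, add_sub_cancel_left] at h2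

/-- `T` at `e₁ ⊗ w` contains `e₁ ⊗ w^⊥`. -/
def P1 (H : Subgroup (V ≃ₗ[F] V)) (Q : QuadraticForm F V) (B : LinearMap.BilinForm F W)
    (φ : (W × W) ≃ₗ[F] V) (w : W) : Prop :=
  ∀ u, B w u = 0 → TT H Q (φ (w, 0)) (φ (u, 0))

theorem p1_of_y [FiniteDimensional F W] (hM : Model Q B φ) (hH : Big H Q φ) {w y : W}
    (hy : ∀ c : F, y ≠ c • w) (hT : TT H Q (φ (w, 0)) (φ (y, 0))) : P1 H Q B φ w := by
  have key : ∀ u, B w u = 0 → B u y ≠ 0 → TT H Q (φ (w, 0)) (φ (u, 0)) := by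
    intro u hu huy
    obtain ⟨g, hg, hg'⟩ := hH.trv hM u 1
    have h1 := hT.conj hg (hH.le hg)
    rw [hg', hg', hM.zero_comm hu, mul_zero, zero_smul, add_zero, map_zero, mul_zero, zero_smul,
      add_zero, one_mul] at h1
    have h2 := h1.sub hT
    rw [phi_sub, add_sub_cancel_left, sub_zero] at h2
    apply TT.of_smul huy
    rwa [phi_smul, smul_zero]
  have hyS : y ∉ Submodule.span F {w} := by
    intro h
    obtain ⟨c, hc⟩ := Submodule.mem_span_singleton.1 h
    exact hy c hc.symm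
  obtain ⟨u₀, hu₀, hu₀y⟩ := hM.exists_sep hyS
  have hu₀w : B w u₀ = 0 := hM.zero_comm (hu₀ w (Submodule.mem_span_singleton_self w))
  have h0 := key u₀ hu₀w (by rw [hu₀y]; exact one_ne_zero)
  intro u hu
  by_cases huy : B u y = 0
  · have h1 := key (u + u₀) (by rw [map_add, hu, hu₀w, add_zero])
      (by rw [map_add, LinearMap.add_apply, huy, hu₀y, zero_add]; exact one_ne_zero)
    have h2 := h1.sub h0
    rwa [phi_sub, add_sub_cancel_right, sub_zero] at h2
  · exact key u hu huy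

theorem p1_all (hM : Model Q B φ) (hH : Big H Q φ) {w : W} (hw : w ≠ 0) (h : P1 H Q B φ w)
    {w' : W} (hw' : w' ≠ 0) : P1 H Q B φ w' := by
  obtain ⟨r, hr, rfl⟩ := hH.trans hM hw hw'
  intro u hu
  obtain ⟨u, rfl⟩ := r.surjective u
  rw [hH.act_isom hM hr] at hu
  have h1 := h u hu
  obtain ⟨g, hg, hg'⟩ := hr
  have h0 : r 0 = 0 := by
    have h2 := hg' 0 0
    rw [phi_zero, map_zero] at h2
    have h3 : φ (r 0, r 0) = φ (0, 0) := by rw [← h2, phi_zero]
    exact (phi_inj.1 h3).1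
  have h2 := h1.conj hg (hH.le hg)
  rwa [hg', hg', h0] at h2

/-- Step 2. -/
theorem TT_second [FiniteDimensional F W] (hM : Model Q B φ) (hH : Big H Q φ)
    (h5 : 5 ≤ Module.finrank F W) (hP : ∀ w : W, w ≠ 0 → P1 H Q B φ w) {w : W} (hw : w ≠ 0) {v : W}
    (hv : B w v = 0) : TT H Q (φ (w, 0)) (φ (0, v)) := by
  obtain ⟨y, u, h1, h2, h3, h4, h6⟩ := hM.exists_pair h5 w v
  have hu0 : u ≠ 0 := by
    rintro rfl
    exact h6 (map_zero _)
  -- the second kind of root elements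
  have hP2 : TT H Q (φ (0, u)) (φ (0, v)) := by
    obtain ⟨g, hg, hg'⟩ := hH.swap
    have h7 := (hP (-u) (neg_ne_zero.2 hu0) (-v) (by
      rw [map_neg, map_neg, LinearMap.neg_apply, neg_neg]
      exact hM.zero_comm h4)).conj hg (hH.le hg)
    rwa [hg', hg', neg_neg, neg_neg] at h7
  have hy := hP w hw y h1
  obtain ⟨hx, hw', hm⟩ := hP2.SM
  have h7 := hy.conj hm (hH.le hm)
  rw [hM.siegel hx hw', hM.siegel hx hw', h3, hM.zero_comm h2, hv] at h7
  simp only [map_zero, LinearMap.zero_apply, smul_zero, add_zero, zero_add, zero_smul, sub_zero,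
    mul_zero, zero_mul] at h7
  have h8 := h7.sub hy
  rw [phi_sub, sub_self, sub_zero] at h8
  apply TT.of_smul h6
  rwa [phi_smul, smul_zero]

/-- Step 3. -/
theorem full_first [FiniteDimensional F W] (hM : Model Q B φ) (hH : Big H Q φ)
    (h5 : 5 ≤ Module.finrank F W) (hP : ∀ w : W, w ≠ 0 → P1 H Q B φ w) {w : W} (hw : w ≠ 0) :
    Full H Q (φ (w, 0)) := by
  apply full_of_TT (hM.sing1 w)
  intro z hz
  obtain ⟨⟨a, b⟩, rfl⟩ := φ.surjective z
  rw [hM.polar, map_zero, add_zero] at hz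
  have hb := hH.TT_second hM h5 hP hw hz
  have ha : TT H Q (φ (w, 0)) (φ (a, 0)) := by
    by_cases ha0 : a = 0
    · rw [ha0, phi_zero]
      have := TT.self (H := H) (hM.sing1 w) (0 : F)
      rwa [zero_smul] at this
    obtain ⟨y, v, h1, h2, h3, h4, h6⟩ := hM.exists_pair h5 w a
    have hav := hH.TT_second hM h5 hP ha0 h4
    have hy := hP w hw y h1
    obtain ⟨hx, hw', hm⟩ := hav.SM
    have h7 := hy.conj hm (hH.le hm)
    rw [hM.siegel hx hw', hM.siegel hx hw'] at h7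
    simp only [map_zero, LinearMap.zero_apply, smul_zero, add_zero, zero_add, zero_smul, sub_zero,
      mul_zero, h3] at h7
    have h8 := hy.sub h7
    rw [phi_sub, sub_self, sub_sub_cancel] at h8
    apply TT.of_smul h6
    rwa [phi_smul, smul_zero]
  have h := ha.add hb
  rwa [phi_add, add_zero, zero_add] at h

/-- **A root group at a pure tensor outside the tensor product.** -/
theorem E_le_of_TT [FiniteDimensional F W] (hG : Good Q) (hM : Model Q B φ) (hH : Big H Q φ)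
    (h5 : 5 ≤ Module.finrank F W) {w : W} (hw : w ≠ 0) {z : V} (hz : TT H Q (φ (w, 0)) z)
    (hz' : ¬ InL φ w z) : E Q ≤ H := by
  obtain ⟨y, hy, hT⟩ := hH.exists_y hz hz'
  have hP : ∀ w : W, w ≠ 0 → P1 H Q B φ w := fun w' hw' =>
    hH.p1_all hM hw (hH.p1_of_y hM hy hT) hw'
  obtain ⟨v, hv⟩ := hM.exists_ne hw
  have hv0 : v ≠ 0 := by
    rintro rfl
    exact hv (map_zero _)
  have h1 := hH.full_first hM h5 hP hw
  have h2 : Full H Q (φ (0, v)) := by
    have h3 := hH.full_first hM h5 hP (neg_ne_zero.2 hv0)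
    obtain ⟨g, hg, hg'⟩ := hH.swap
    have h4 := h3.conj hg (hH.le hg)
    rwa [hg', neg_neg] at h4
  refine E_le_of_full hG hH.le h1 h2 ?_
  rw [hM.polar]
  simpa using hv

end Big

end Cfsg.Agent.H931.TenTwo
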