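import Cfsg.Agent.H931.TenTwoA

/-!
`E_le_of_moves`: an overgroup of `SL₂ ⊗ Sp(W)` not permuting the spaces `F² ⊗ w` contains `E Q` (`|F| ≥ 3`).
-/

set_option autoImplicit false

namespace Cfsg.Agent.H931.TenTwo

open QuadraticMap Cfsg.Agent.LieClassical.OrthCore Cfsg.Agent.LieClassical.OrthTrans
  Cfsg.Agent.LieClassical.OrthFinite Cfsg.Agent.LieClassical.OrthSimple Cfsg.Agent.H885.RootT

variable {F V W : Type*} [Field F] [AddCommGroup V] [Module F V] [AddCommGroup W] [Module F W]
  {Q : QuadraticForm F V} {B : LinearMap.BilinForm F W} {φ : (W × W) ≃ₗ[F] V}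
  {H : Subgroup (V ≃ₗ[F] V)}

namespace Big

/-- Root elements of `1 ⊗ Sp(W)` seen from any vector of `F² ⊗ w`. -/
theorem TT_L (hM : Model Q B φ) (hH : Big H Q φ) (w : W) (s t s' t' : F) :
    TT H Q (φ (s • w, t • w)) (φ (s' • w, t' • w)) := by
  have key : ∀ s t s' t' : F, SM H Q (φ (s • w, t • w)) (φ (s' • w, t' • w)) := by
    intro s t s' t'
    have hx : Q (φ (s • w, t • w)) = 0 := by
      rw [hM.form]
      simp [hM.alt]
    have hw : polar Q (φ (s • w, t • w)) (φ (s' • w, t' • w)) = 0 := by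
      rw [hM.polar]
      simp [hM.alt]
    refine ⟨hx, hw, ?_⟩
    obtain ⟨hx', hw', hm⟩ := hH.root w (s * t' - s' * t)
    have : siegel Q (φ (s • w, t • w)) (φ (s' • w, t' • w)) hx hw =
        siegel Q (φ (w, 0)) (φ (0, (s * t' - s' * t) • w)) hx' hw' := by
      apply LinearEquiv.ext
      intro v
      obtain ⟨⟨a, b⟩, rfl⟩ := φ.surjective v
      rw [hM.siegel, hM.siegel, phi_inj]
      simp only [map_zero, LinearMap.zero_apply, map_smul, smul_zero, smul_eq_mul, zero_add,
        add_zero, sub_zero, LinearMap.smul_apply, hM.alt, mul_zero, zero_mul, zero_smul]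
      constructor
      · module
      · module
    rw [this]
    exact hm
  intro c
  rw [phi_smul, smul_smul, smul_smul]
  exact key _ _ _ _

theorem InL_of_TT_pure (hH : Big H Q φ)
    (hcon : ∀ w : W, w ≠ 0 → ∀ z, TT H Q (φ (w, 0)) z → InL φ w z) {w : W} {s t : F}
    (h0 : φ (s • w, t • w) ≠ 0) {z : V} (hz : TT H Q (φ (s • w, t • w)) z) : InL φ w z := by
  obtain ⟨⟨a, b⟩, rfl⟩ := φ.surjective z
  by_cases hs : s • w = 0
  · rw [hs] at h0 hz
    have ht : t • w ≠ 0 := by
      intro h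
      rw [h, phi_zero] at h0
      exact h0 rfl
    obtain ⟨g, hg, hg'⟩ := hH.swap
    have h1 := hz.conj hg (hH.le hg)
    rw [hg', hg', neg_zero] at h1
    obtain ⟨x, y, hxy⟩ := hcon _ ht _ h1
    rw [phi_inj] at hxy
    refine ⟨-(y * t), x * t, ?_⟩
    rw [phi_inj]
    refine ⟨?_, by rw [hxy.1, smul_smul]⟩
    rw [neg_smul, mul_smul, ← hxy.2, neg_neg]
  · have hs0 : s ≠ 0 := by
      rintro rfl
      exact hs (zero_smul _ _)
    obtain ⟨g, hg, hg'⟩ := hH.low (-t / s)
    have h1 := hz.conj hg (hH.le hg)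
    have h2 : t • w + (-t / s) • s • w = 0 := by
      rw [smul_smul, div_mul_cancel₀ _ hs0]
      module
    rw [hg', hg', h2] at h1
    obtain ⟨x, y, hxy⟩ := hcon _ hs _ h1
    rw [phi_inj] at hxy
    refine ⟨x * s, y * s - (-t / s) * (x * s), ?_⟩
    rw [phi_inj]
    refine ⟨by rw [hxy.1, smul_smul], ?_⟩
    have h3 : b = y • s • w - (-t / s) • a := by
      rw [← hxy.2, add_sub_cancel_right]
    rw [h3, hxy.1]
    module

/-- **An overgroup which does not permute the spaces `F² ⊗ w` contains `E Q`.** -/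
theorem E_le_of_moves [FiniteDimensional F W] (hG : Good Q) (hM : Model Q B φ) (hH : Big H Q φ)
    (h5 : 5 ≤ Module.finrank F W) (hF : ∃ c : F, c ≠ 0 ∧ c ≠ 1) {g : V ≃ₗ[F] V} (hg : g ∈ H) {w : W}
    (hgw : ∀ v : W, ∃ s t : F, ¬ InL φ v (g (φ (s • w, t • w)))) : E Q ≤ H := by
  by_contra hE
  have hcon : ∀ w : W, w ≠ 0 → ∀ z, TT H Q (φ (w, 0)) z → InL φ w z := by
    intro w' hw' z hz
    by_contra hz'
    exact hE (hH.E_le_of_TT hG hM h5 hw' hz hz')
  have hw0 : w ≠ 0 := by
    rintro rfl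
    obtain ⟨s, t, hst⟩ := hgw 0
    refine hst ⟨0, 0, ?_⟩
    simp only [smul_zero, phi_zero, map_zero]
  set ζ : F → F → V := fun s t => g (φ (s • w, t • w)) with hζ
  have hζ' : ∀ s t, ζ s t = g (φ (s • w, t • w)) := fun _ _ => rfl
  have hζ0 : ∀ s t, ζ s t = 0 → s = 0 ∧ t = 0 := by
    intro s t h
    rw [hζ', map_eq_zero_iff g g.injective, ← phi_zero (φ := φ), phi_inj, smul_eq_zero,
      smul_eq_zero] at h
    exact ⟨h.1.resolve_right hw0, h.2.resolve_right hw0⟩
  have hT : ∀ s t s' t', TT H Q (ζ s t) (ζ s' t') := fun s t s' t' =>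
    (hH.TT_L hM w s t s' t').conj hg (hH.le hg)
  have hT' : ∀ s t, ζ s t ≠ 0 → ∀ z, TT H Q (ζ s t) z → ∃ s' t', z = ζ s' t' := by
    intro s t h z hz
    have h1 := hz.conj (H.inv_mem hg) (hH.le (H.inv_mem hg))
    have h2 : g⁻¹ (ζ s t) = φ (s • w, t • w) := g.symm_apply_apply _
    rw [h2] at h1
    have h3 : φ (s • w, t • w) ≠ 0 := by
      intro h4
      apply h
      rw [hζ', h4, map_zero]
    obtain ⟨s', t', h4⟩ := hH.InL_of_TT_pure hcon h3 h1
    refine ⟨s', t', ?_⟩
    rw [hζ', ← h4]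
    exact (g.apply_symm_apply _).symm
  have hpure : ∀ (s t : F) (v : W) (s' t' : F), ζ s t = φ (s' • v, t' • v) → s = 0 ∧ t = 0 := by
    intro s t v s' t' h
    by_contra h0
    have h1 : φ (s' • v, t' • v) ≠ 0 := by
      rw [← h]
      exact fun h2 => h0 (hζ0 s t h2)
    obtain ⟨s₁, t₁, hst⟩ := hgw v
    have h2 := hT s t s₁ t₁
    rw [h] at h2
    exact hst (hH.InL_of_TT_pure hcon h1 h2)
  obtain ⟨⟨a, b⟩, hab⟩ := φ.surjective (ζ 1 0)
  obtain ⟨⟨a', b'⟩, hab'⟩ := φ.surjective (ζ 0 1)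
  have hlin : ∀ s t, ζ s t = φ (s • a + t • a', s • b + t • b') := by
    intro s t
    have h1 : ζ s t = s • ζ 1 0 + t • ζ 0 1 := by
      rw [hζ', hζ', hζ', ← map_smul g, ← map_smul g, phi_smul, phi_smul, ← map_add g, phi_add]
      simp
    rw [h1, ← hab, ← hab', phi_smul, phi_smul, phi_add]
  have hne : ζ 1 0 ≠ 0 := fun h => one_ne_zero (hζ0 1 0 h).1
  have hind : ∀ x y : F, x • a + y • b = 0 → x = 0 ∧ y = 0 := by
    intro x y h
    by_cases hy : y = 0
    · subst hy
      refine ⟨?_, rfl⟩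
      by_contra hx
      rw [zero_smul, add_zero, smul_eq_zero] at h
      have ha : a = 0 := h.resolve_left hx
      have := (hpure 1 0 b 0 1 (by rw [← hab, ha, zero_smul, one_smul])).1
      exact one_ne_zero this
    · exfalso
      have hb : b = (-(x / y)) • a := by
        have h1 : y • b = (-x) • a := by
          rw [neg_smul]
          exact eq_neg_of_add_eq_zero_right h
        calc b = y⁻¹ • (y • b) := by rw [smul_smul, inv_mul_cancel₀ hy, one_smul]
          _ = _ := by
            rw [h1, smul_smul]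
            congr 1
            field_simp
      have := (hpure 1 0 a 1 (-(x / y)) (by rw [← hab, ← hb, one_smul])).1
      exact one_ne_zero this
  have hBab : B a b = 0 := by
    rw [← hM.form, hab, hζ', mem_O.1 (hH.le hg), hM.form]
    simp
  have hkey : ∀ u, B u a = 0 → B u b = 0 → B u a' = 0 ∧ B u b' = 0 := by
    intro u hua hub
    obtain ⟨h, hh, hh'⟩ := hH.trv hM u 1
    have h1 := (hT 1 0 0 1).conj hh (hH.le hh)
    rw [← hab, ← hab', hh', hh', hua, hub, mul_zero, zero_smul, add_zero, add_zero] at h1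
    have h2 := hT 1 0 0 1
    rw [← hab, ← hab'] at h2
    have h3 := h1.sub h2
    rw [phi_sub, add_sub_cancel_left, add_sub_cancel_left, one_mul, one_mul, hab] at h3
    obtain ⟨s, t, hst⟩ := hT' 1 0 hne _ h3
    obtain ⟨rfl, rfl⟩ := hpure s t u _ _ hst.symm
    have h4 : ζ 0 0 = 0 := by
      rw [hζ', zero_smul, phi_zero, map_zero]
    rw [h4, ← phi_zero (φ := φ), phi_inj, smul_eq_zero, smul_eq_zero] at hst
    constructor
    · rcases hst.1 with h5 | h5
      · exact h5
      · rw [h5, map_zero, LinearMap.zero_apply]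
    · rcases hst.2 with h5 | h5
      · exact h5
      · rw [h5, map_zero, LinearMap.zero_apply]
  have hspan : ∀ x, (∀ u, B u a = 0 → B u b = 0 → B u x = 0) → ∃ α β : F, α • a + β • b = x := by
    intro x hx
    rw [← Submodule.mem_span_pair]
    by_contra h
    obtain ⟨u, hu, hux⟩ := hM.exists_sep h
    have := hx u (hu a (Submodule.subset_span (by simp))) (hu b (Submodule.subset_span (by simp)))
    rw [hux] at this
    exact one_ne_zero this
  obtain ⟨α, β, rfl⟩ := hspan a' fun u h1 h2 => (hkey u h1 h2).1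
  obtain ⟨γ, δ, rfl⟩ := hspan b' fun u h1 h2 => (hkey u h1 h2).2
  have hγ : γ ≠ 0 := by
    rintro rfl
    have h1 := hpure (-α) 1 b β (δ - α) (by
      rw [hlin, phi_inj]
      constructor
      · module
      · module)
    exact one_ne_zero h1.2
  -- the separating vector
  have haS : a ∉ Submodule.span F {b} := by
    intro h
    obtain ⟨c, hc⟩ := Submodule.mem_span_singleton.1 h
    have := (hind 1 (-c) (by rw [← hc]; module)).1
    exact one_ne_zero this
  obtain ⟨y, hyb, hya⟩ := hM.exists_sep haS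
  have hyb := hyb b (Submodule.mem_span_singleton_self b)
  have hBba : B b a = 0 := hM.zero_comm hBab
  have hfin : ∀ c : F, c ≠ 0 → δ - α = c * γ := by
    intro c hc
    obtain ⟨l, hl, hl'⟩ := hH.trv hM (y - c • b) 1
    obtain ⟨k, hk, hk'⟩ := hH.trv hM y (-1)
    obtain ⟨u, hu, hu'⟩ := hH.up c
    have hact : ∀ x₁ x₂ x₃ x₄ : F, (u * (k * l)) (φ (x₁ • a + x₂ • b, x₃ • a + x₄ • b)) =
        φ ((x₁ + c * x₃) • a + (x₂ - c * x₁ + c * (x₄ - c * x₃)) • b,
          x₃ • a + (x₄ - c * x₃) • b) := by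
      intro x₁ x₂ x₃ x₄
      rw [LinearEquiv.mul_apply, LinearEquiv.mul_apply, hl', hk', hu', phi_inj]
      simp only [map_add, map_sub, map_smul, LinearMap.sub_apply,
        LinearMap.smul_apply, hM.alt, hya, hyb, hBba, smul_eq_mul]
      constructor
      · module
      · module
    have hmem : u * (k * l) ∈ H := H.mul_mem hu (H.mul_mem hk hl)
    have h1 := (hT 1 0 0 1).conj hmem (hH.le hmem)
    rw [← hab, ← hab'] at h1
    have h2 : (u * (k * l)) (φ (a, b)) = φ (a, b) := by
      have := hact 1 0 0 1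
      simp only [one_smul, zero_smul, add_zero, zero_add, mul_zero, sub_zero, mul_one] at this
      rw [this, phi_inj]
      constructor
      · module
      · rfl
    rw [h2, hact, hab] at h1
    obtain ⟨s, t, hst⟩ := hT' 1 0 hne _ h1
    rw [hlin, phi_inj] at hst
    obtain ⟨e1, e2⟩ := hst
    have e1' := hind (α + c * γ - (s + t * α)) (β - c * α + c * (δ - c * γ) - t * β) (by
      rw [← sub_eq_zero] at e1
      rw [← e1]
      module)
    have e2' := hind (γ - t * γ) (δ - c * γ - (s + t * δ)) (by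
      rw [← sub_eq_zero] at e2
      rw [← e2]
      module)
    obtain ⟨f1, f2⟩ := e1'
    obtain ⟨f3, f4⟩ := e2'
    have ht : t = 1 := by
      have : (1 - t) * γ = 0 := by linear_combination f3
      rcases mul_eq_zero.1 this with h | h
      · exact (sub_eq_zero.1 h).symm
      · exact absurd h hγ
    subst ht
    have : c * (δ - α - c * γ) = 0 := by linear_combination f2
    rcases mul_eq_zero.1 this with h | h
    · exact absurd h hc
    · exact sub_eq_zero.1 h
  obtain ⟨c, hc0, hc1⟩ := hF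
  have h1 := hfin 1 one_ne_zero
  have h2 := hfin c hc0
  have h3 : (c - 1) * γ = 0 := by linear_combination h1 - h2
  rcases mul_eq_zero.1 h3 with h | h
  · exact hc1 (sub_eq_zero.1 h)
  · exact hγ h

end Big

end Cfsg.Agent.H931.TenTwo
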