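import Cfsg.Agent.H931.TenTwoB

/-!
`maximal`: `(GL₂(F) ∘ GL(W)) ∩ E Q` is maximal in `E Q` for the quadratic form `Q (e₁ ⊗ a + e₂ ⊗ b) = B a b` on
`F² ⊗ W`, `B` a nondegenerate alternating form on `W`, `dim W ≥ 5` (so `≥ 6`), `|F| ≥ 3`.
-/

set_option autoImplicit false

namespace Cfsg.Agent.H931.TenTwo

open QuadraticMap Cfsg.Agent.LieClassical.OrthCore Cfsg.Agent.LieClassical.OrthTrans
  Cfsg.Agent.LieClassical.OrthFinite Cfsg.Agent.LieClassical.OrthSimple Cfsg.Agent.H885.RootT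

variable {F V W : Type*} [Field F] [AddCommGroup V] [Module F V] [AddCommGroup W] [Module F W]
  {Q : QuadraticForm F V} {B : LinearMap.BilinForm F W} {φ : (W × W) ≃ₗ[F] V}

/-! ### Locally dependent linear maps -/

section Dep

variable {W' : Type*} [AddCommGroup W'] [Module F W']

/-- The images of two vectors are independent. -/
def Two (f : W →ₗ[F] W') : Prop :=
  ∃ w₁ w₂, ∀ x y : F, x • f w₁ + y • f w₂ = 0 → x = 0 ∧ y = 0

/-- **Locally dependent linear maps are proportional** if one has rank at least 2. -/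
theorem eq_smul_of_dep {f g : W →ₗ[F] W'} (h : ∀ w, ∃ (v : W') (s t : F), f w = s • v ∧ g w = t • v)
    (hf : Two f) : ∃ c : F, ∀ w, g w = c • f w := by
  have ha : ∀ w, f w ≠ 0 → ∃ c : F, g w = c • f w := by
    intro w hw
    obtain ⟨v, s, t, h1, h2⟩ := h w
    have hs : s ≠ 0 := by
      rintro rfl
      rw [zero_smul] at h1
      exact hw h1
    refine ⟨t / s, ?_⟩
    rw [h1, h2, smul_smul, div_mul_cancel₀ _ hs]
  have hb : ∀ w w' (c c' : F), (∀ x y : F, x • f w + y • f w' = 0 → x = 0 ∧ y = 0) →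
      g w = c • f w → g w' = c' • f w' → c = c' := by
    intro w w' c c' hi h1 h2
    have h3 : f (w + w') ≠ 0 := by
      intro h0
      have := (hi 1 1 (by rw [one_smul, one_smul, ← map_add, h0])).1
      exact one_ne_zero this
    obtain ⟨d, hd⟩ := ha _ h3
    rw [map_add, map_add, h1, h2] at hd
    have h4 := hi (c - d) (c' - d) (by
      rw [← sub_eq_zero] at hd
      rw [← hd]
      module)
    rw [sub_eq_zero.1 h4.1, sub_eq_zero.1 h4.2]
  obtain ⟨w₁, w₂, hi⟩ := hf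
  have h1 : f w₁ ≠ 0 := by
    intro h0
    have := (hi 1 0 (by rw [h0, smul_zero, zero_smul, add_zero])).1
    exact one_ne_zero this
  have h2 : f w₂ ≠ 0 := by
    intro h0
    have := (hi 0 1 (by rw [h0, smul_zero, zero_smul, add_zero])).2
    exact one_ne_zero this
  obtain ⟨c, hc⟩ := ha w₁ h1
  obtain ⟨c', hc'⟩ := ha w₂ h2
  have hcc : c = c' := hb w₁ w₂ c c' hi hc hc'
  subst hcc
  have hd : ∀ w, f w ≠ 0 → g w = c • f w := by
    intro w hw
    obtain ⟨d, hd⟩ := ha w hw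
    by_cases h3 : ∀ x y : F, x • f w + y • f w₁ = 0 → x = 0 ∧ y = 0
    · rw [hd, hb w w₁ d c h3 hd hc]
    · by_cases h4 : ∀ x y : F, x • f w + y • f w₂ = 0 → x = 0 ∧ y = 0
      · rw [hd, hb w w₂ d c h4 hd hc']
      · exfalso
        push Not at h3 h4
        have hmul : ∀ w₀, f w₀ ≠ 0 → (∃ x y : F, x • f w + y • f w₀ = 0 ∧ (x = 0 → y ≠ 0)) →
            ∃ e : F, e ≠ 0 ∧ f w = e • f w₀ := by
          rintro w₀ h0 ⟨x, y, hxy, hne⟩
          have hx : x ≠ 0 := by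
            intro hx
            rw [hx, zero_smul, zero_add, smul_eq_zero] at hxy
            exact hxy.elim (hne hx) h0
          have h5 : f w = (-(y / x)) • f w₀ := by
            have h6 : x • f w = (-y) • f w₀ := by
              rw [neg_smul]
              exact eq_neg_of_add_eq_zero_left hxy
            calc f w = x⁻¹ • (x • f w) := by rw [smul_smul, inv_mul_cancel₀ hx, one_smul]
              _ = _ := by
                rw [h6, smul_smul]
                congr 1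
                field_simp
          refine ⟨_, ?_, h5⟩
          intro h6
          rw [h6, zero_smul] at h5
          exact hw h5
        obtain ⟨e, he, h5⟩ := hmul w₁ h1 h3
        obtain ⟨e', he', h6⟩ := hmul w₂ h2 h4
        have h7 := (hi e (-e') (by rw [neg_smul, ← h5, ← h6, add_neg_cancel])).1
        exact he h7
  refine ⟨c, fun w => ?_⟩
  by_cases hw : f w = 0
  · have h3 : f (w + w₁) ≠ 0 := by rwa [map_add, hw, zero_add]
    have h4 := hd _ h3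
    rw [map_add, map_add, hw, zero_add, hc] at h4
    rw [hw, smul_zero]
    exact add_eq_right.1 h4
  · exact hd w hw

theorem finrank_range_le_of_not_two [FiniteDimensional F W] {f : W →ₗ[F] W'} (h : ¬ Two f) :
    Module.finrank F (LinearMap.range f) ≤ 1 := by
  by_contra hlt
  push Not at hlt
  apply h
  have hnt : Nontrivial (LinearMap.range f) := Module.nontrivial_of_finrank_pos (R := F) (by omega)
  obtain ⟨⟨_, w₁, rfl⟩, hx⟩ := exists_ne (0 : LinearMap.range f)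
  obtain ⟨⟨_, w₂, rfl⟩, hy⟩ := exists_linearIndependent_pair_of_one_lt_finrank hlt hx
  refine ⟨w₁, w₂, fun x y hxy => ?_⟩
  rw [LinearIndependent.pair_iff] at hy
  exact hy x y (Subtype.ext hxy)

end Dep

/-! ### Maps preserving the spaces `F² ⊗ w` -/

/-- The pure tensor transformations. -/
def IsTens (φ : (W × W) ≃ₗ[F] V) (g : V ≃ₗ[F] V) : Prop :=
  ∃ (α β γ δ : F) (r : W ≃ₗ[F] W), ∀ a b,
    g (φ (a, b)) = φ (α • r a + β • r b, γ • r a + δ • r b)

theorem isTens_of_inL [FiniteDimensional F W] (h3 : 3 ≤ Module.finrank F W) {g : V ≃ₗ[F] V}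
    (hg : ∀ w : W, ∃ v, ∀ s t : F, InL φ v (g (φ (s • w, t • w)))) : IsTens φ g := by
  -- the four components
  set i₁ : W →ₗ[F] V := φ.toLinearMap ∘ₗ LinearMap.inl F W W with hi₁
  set i₂ : W →ₗ[F] V := φ.toLinearMap ∘ₗ LinearMap.inr F W W with hi₂
  set p₁ : V →ₗ[F] W := LinearMap.fst F W W ∘ₗ φ.symm.toLinearMap with hp₁
  set p₂ : V →ₗ[F] W := LinearMap.snd F W W ∘ₗ φ.symm.toLinearMap with hp₂
  set f₁₁ : W →ₗ[F] W := p₁ ∘ₗ g.toLinearMap ∘ₗ i₁ with h11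
  set f₂₁ : W →ₗ[F] W := p₂ ∘ₗ g.toLinearMap ∘ₗ i₁ with h21
  set f₁₂ : W →ₗ[F] W := p₁ ∘ₗ g.toLinearMap ∘ₗ i₂ with h12
  set f₂₂ : W →ₗ[F] W := p₂ ∘ₗ g.toLinearMap ∘ₗ i₂ with h22
  have hφ : ∀ z, φ (p₁ z, p₂ z) = z := fun z => φ.apply_symm_apply z
  have e1 : ∀ a, g (φ (a, 0)) = φ (f₁₁ a, f₂₁ a) := fun a => (hφ _).symm
  have e2 : ∀ b, g (φ (0, b)) = φ (f₁₂ b, f₂₂ b) := fun b => (hφ _).symm
  have e : ∀ a b, g (φ (a, b)) = φ (f₁₁ a + f₁₂ b, f₂₁ a + f₂₂ b) := by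
    intro a b
    rw [← phi_add, ← e1, ← e2, ← map_add, phi_add, add_zero, zero_add]
  have hdep : ∀ w, ∃ (v : W) (s₁ s₂ s₃ s₄ : F),
      f₁₁ w = s₁ • v ∧ f₂₁ w = s₂ • v ∧ f₁₂ w = s₃ • v ∧ f₂₂ w = s₄ • v := by
    intro w
    obtain ⟨v, hv⟩ := hg w
    obtain ⟨s₁, s₂, h1⟩ := hv 1 0
    obtain ⟨s₃, s₄, h2⟩ := hv 0 1
    rw [one_smul, zero_smul, e1, phi_inj] at h1
    rw [one_smul, zero_smul, e2, phi_inj] at h2
    exact ⟨v, s₁, s₂, s₃, s₄, h1.1, h1.2, h2.1, h2.2⟩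
  have fin : ∀ f : W →ₗ[F] W, Two f → (∀ w, ∃ (v : W) (s s₁ s₂ s₃ s₄ : F), f w = s • v ∧
      f₁₁ w = s₁ • v ∧ f₂₁ w = s₂ • v ∧ f₁₂ w = s₃ • v ∧ f₂₂ w = s₄ • v) → IsTens φ g := by
    intro f hf hd
    obtain ⟨α, hα⟩ := eq_smul_of_dep (f := f) (g := f₁₁) (fun w => by
      obtain ⟨v, s, s₁, s₂, s₃, s₄, h, h1, h2, h3, h4⟩ := hd w
      exact ⟨v, s, s₁, h, h1⟩) hf
    obtain ⟨γ, hγ⟩ := eq_smul_of_dep (f := f) (g := f₂₁) (fun w => by
      obtain ⟨v, s, s₁, s₂, s₃, s₄, h, h1, h2, h3, h4⟩ := hd w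
      exact ⟨v, s, s₂, h, h2⟩) hf
    obtain ⟨β, hβ⟩ := eq_smul_of_dep (f := f) (g := f₁₂) (fun w => by
      obtain ⟨v, s, s₁, s₂, s₃, s₄, h, h1, h2, h3, h4⟩ := hd w
      exact ⟨v, s, s₃, h, h3⟩) hf
    obtain ⟨δ, hδ⟩ := eq_smul_of_dep (f := f) (g := f₂₂) (fun w => by
      obtain ⟨v, s, s₁, s₂, s₃, s₄, h, h1, h2, h3, h4⟩ := hd w
      exact ⟨v, s, s₄, h, h4⟩) hf
    have hinj : Function.Injective f := by
      rw [← LinearMap.ker_eq_bot, eq_bot_iff]
      intro w hw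
      rw [LinearMap.mem_ker] at hw
      have h1 := e w 0
      rw [map_zero, map_zero, add_zero, add_zero, hα, hγ, hw, smul_zero, smul_zero, phi_zero,
        map_eq_zero_iff g g.injective, ← phi_zero (φ := φ), phi_inj] at h1
      exact h1.1
    refine ⟨α, β, γ, δ, LinearEquiv.ofInjectiveEndo f hinj, fun a b => ?_⟩
    rw [e, hα, hβ, hγ, hδ]
    rfl
  by_cases hf : Two f₁₁
  · apply fin f₁₁ hf
    intro w
    obtain ⟨v, s₁, s₂, s₃, s₄, h1, h2, h3, h4⟩ := hdep w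
    exact ⟨v, s₁, s₁, s₂, s₃, s₄, h1, h1, h2, h3, h4⟩
  by_cases hf' : Two f₂₁
  · apply fin f₂₁ hf'
    intro w
    obtain ⟨v, s₁, s₂, s₃, s₄, h1, h2, h3, h4⟩ := hdep w
    exact ⟨v, s₂, s₁, s₂, s₃, s₄, h2, h1, h2, h3, h4⟩
  exfalso
  have r1 := finrank_range_le_of_not_two hf
  have r2 := finrank_range_le_of_not_two hf'
  have k1 := f₁₁.finrank_range_add_finrank_ker
  have k2 := f₂₁.finrank_range_add_finrank_ker
  have k3 := Submodule.finrank_sup_add_finrank_inf_eq (LinearMap.ker f₁₁) (LinearMap.ker f₂₁)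
  have k4 := Submodule.finrank_le (LinearMap.ker f₁₁ ⊔ LinearMap.ker f₂₁)
  have k5 : 0 < Module.finrank F (LinearMap.ker f₁₁ ⊓ LinearMap.ker f₂₁ : Submodule F W) := by omega
  have hnt := Module.nontrivial_of_finrank_pos k5
  obtain ⟨⟨w, hw⟩, hw0⟩ := exists_ne (0 : (LinearMap.ker f₁₁ ⊓ LinearMap.ker f₂₁ : Submodule F W))
  rw [Submodule.mem_inf, LinearMap.mem_ker, LinearMap.mem_ker] at hw
  have h1 := e w 0
  rw [map_zero, map_zero, add_zero, add_zero, hw.1, hw.2, phi_zero,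
    map_eq_zero_iff g g.injective, ← phi_zero (φ := φ), phi_inj] at h1
  exact hw0 (Subtype.ext h1.1)

end Cfsg.Agent.H931.TenTwo
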