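import Cfsg.Agent.H931.TenTwoMax
import Cfsg.Agent.H883.Tensor

/-!
`tensor_two_maximal`: `Sp₂(q) ∘ Sp_{n₂}(q)` is maximal in `Ω⁺_{2 n₂}(q)` (`n₂ ≥ 6` even, `q ≥ 3`), in the
vocabulary of the statements (`tensorProductSubgroup 2 n₂ e P ⊓ omegaGL Q`), any index type.
-/

set_option autoImplicit false

namespace Cfsg.Agent.H931.TenTwo

open QuadraticMap Cfsg.Agent.LieClassical.OrthCore Cfsg.Agent.LieClassical.OrthTrans
  Cfsg.Agent.LieClassical.OrthFinite Cfsg.Agent.H883.Bridge Cfsg.Agent.H883.Tensor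
open scoped Matrix

variable {ι : Type} [Fintype ι] [DecidableEq ι] {F : Type*} [Field F] {n₂ : ℕ}

/-- `(F^{n₂})² ≃ F^(2 × n₂)`. -/
def pairEquiv (n₂ : ℕ) (F : Type*) [Field F] :
    ((Fin n₂ → F) × (Fin n₂ → F)) ≃ₗ[F] (Fin 2 × Fin n₂ → F) where
  toFun z p := ![z.1, z.2] p.1 p.2
  map_add' x y := by
    ext ⟨i, j⟩
    fin_cases i <;> simp
  map_smul' t x := by
    ext ⟨i, j⟩
    fin_cases i <;> simp
  invFun z := (fun j => z (0, j), fun j => z (1, j))
  left_inv x := by
    ext j <;> simp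
  right_inv z := by
    ext ⟨i, j⟩
    fin_cases i <;> simp

/-- The model map `(a, b) ↦ e₁ ⊗ a + e₂ ⊗ b`. -/
noncomputable def phi (e : ι ≃ Fin 2 × Fin n₂) (P : Matrix.GeneralLinearGroup ι F) :
    ((Fin n₂ → F) × (Fin n₂ → F)) ≃ₗ[F] (ι → F) :=
  (pairEquiv n₂ F).trans (vec e P)

theorem pure_eq_phi (e : ι ≃ Fin 2 × Fin n₂) (P : Matrix.GeneralLinearGroup ι F)
    (x : Fin 2 → F) (y : Fin n₂ → F) : pure e P x y = phi e P (x 0 • y, x 1 • y) := by
  show vec e P _ = vec e P _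
  congr 1
  ext ⟨i, j⟩
  fin_cases i <;> simp [tmul_apply, pairEquiv]

theorem phi_eq_pure (e : ι ≃ Fin 2 × Fin n₂) (P : Matrix.GeneralLinearGroup ι F)
    (a b : Fin n₂ → F) : phi e P (a, b) = pure e P ![1, 0] a + pure e P ![0, 1] b := by
  rw [pure_eq_phi, pure_eq_phi, ← map_add]
  simp

/-- The bilinear form on the second factor. -/
noncomputable def bil (e : ι ≃ Fin 2 × Fin n₂) (P : Matrix.GeneralLinearGroup ι F)
    (Q : QuadraticForm F (ι → F)) : LinearMap.BilinForm F (Fin n₂ → F) :=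
  (polarBilin Q).compl₁₂ (pureBilin e P ![1, 0]) (pureBilin e P ![0, 1])

theorem bil_apply (e : ι ≃ Fin 2 × Fin n₂) (P : Matrix.GeneralLinearGroup ι F)
    (Q : QuadraticForm F (ι → F)) (a b : Fin n₂ → F) :
    bil e P Q a b = polar Q (pure e P ![1, 0] a) (pure e P ![0, 1] b) := rfl

theorem model (e : ι ≃ Fin 2 × Fin n₂) (P : Matrix.GeneralLinearGroup ι F)
    {Q : QuadraticForm F (ι → F)} (hQ : Nondeg Q) (hpure : ∀ x y, Q (pure e P x y) = 0) :
    Model Q (bil e P Q) (phi e P) where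
  alt w := by
    rw [bil_apply, polar, hpure, hpure, ← pure_add_left, hpure]
    ring
  nondeg w hw := by
    have h : pure e P ![1, 0] w = 0 := by
      apply hQ
      intro z
      obtain ⟨⟨a, b⟩, rfl⟩ := (phi e P).surjective z
      rw [phi_eq_pure, polar_add_right, ← bil_apply, hw, add_zero, polar, hpure, hpure,
        ← pure_add_right, hpure]
      ring
    rw [pure_eq_phi] at h
    have h1 := (map_eq_zero_iff _ (phi e P).injective).1 h
    simpa using congrArg Prod.fst h1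
  form a b := by
    rw [phi_eq_pure, Q_add, hpure, hpure, bil_apply]
    ring

/-- Membership in the tensor product subgroup in terms of the model map. -/
theorem mem_iff_isTens (h0 : 0 < n₂) (e : ι ≃ Fin 2 × Fin n₂)
    (P g : Matrix.GeneralLinearGroup ι F) :
    g ∈ Cfsg.Geo.tensorProductSubgroup 2 n₂ e P ↔ IsTens (phi e P) (glEquiv ι F g) := by
  rw [mem_tensorProductSubgroup_iff]
  constructor
  · rintro ⟨a, b, h⟩
    refine ⟨a 0 0, a 0 1, a 1 0, a 1 1, glEquiv (Fin n₂) F b, fun x y => ?_⟩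
    rw [glEquiv_apply, phi_eq_pure, Matrix.mulVec_add, h, h, pure_eq_phi, pure_eq_phi, ← map_add]
    simp [Matrix.mulVec, dotProduct, Fin.sum_univ_two, glEquiv_apply]
  · rintro ⟨α, β, γ, δ, r, h⟩
    have hA : ∀ x y, (g : Matrix ι ι F) *ᵥ pure e P x y =
        pure e P (!![α, β; γ, δ] *ᵥ x) (r y) := by
      intro x y
      rw [← glEquiv_apply, pure_eq_phi, h, pure_eq_phi]
      congr 1
      simp only [map_smul, Matrix.mulVec, dotProduct, Fin.sum_univ_two, Matrix.of_apply,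
        Matrix.cons_val', Matrix.cons_val_zero, Matrix.cons_val_one, Matrix.cons_val_fin_one]
      ext j <;> simp <;> ring
    have hdet : (!![α, β; γ, δ] : Matrix (Fin 2) (Fin 2) F).det ≠ 0 := by
      intro hdet
      obtain ⟨x, hx, hx'⟩ := Matrix.exists_mulVec_eq_zero_iff.2 hdet
      have h1 := hA x (Pi.single ⟨0, h0⟩ 1)
      rw [hx', pure_eq_phi (x := 0)] at h1
      simp only [Pi.zero_apply, zero_smul] at h1
      rw [phi_zero, ← glEquiv_apply, map_eq_zero_iff _ (glEquiv ι F g).injective, pure_eq_phi,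
        ← phi_zero (φ := phi e P), phi_inj] at h1
      apply hx
      have h2 := congrFun h1.1 ⟨0, h0⟩
      have h3 := congrFun h1.2 ⟨0, h0⟩
      simp only [Pi.smul_apply, Pi.single_eq_same, smul_eq_mul, mul_one, Pi.zero_apply] at h2 h3
      ext i
      fin_cases i
      · exact h2
      · exact h3
    refine ⟨Matrix.GeneralLinearGroup.mkOfDetNeZero _ hdet, (glEquiv (Fin n₂) F).symm r,
      fun x y => ?_⟩
    rw [hA, ← glEquiv_apply ((glEquiv (Fin n₂) F).symm r), MulEquiv.apply_symm_apply]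
    rfl

/-- **`Sp₂(q) ∘ Sp_{n₂}(q)` is maximal in `Ω⁺_{2 n₂}(q)`.** -/
theorem tensor_two_maximal [Fintype F] (h3 : 3 ≤ Fintype.card F) (h5 : 5 ≤ n₂) {Q : (ι → F) → F}
    (hQ : Cfsg.Geo.IsNondegenerateQuadraticForm Q) (e : ι ≃ Fin 2 × Fin n₂)
    (P : Matrix.GeneralLinearGroup ι F)
    (hpure : ∀ (x₁ : Fin 2 → F) (x₂ : Fin n₂ → F), Q (Matrix.mulVec (P : Matrix ι ι F)
      ((fun a : Fin 2 × Fin n₂ => x₁ a.1 * x₂ a.2) ∘ e)) = 0) :
    Cfsg.Geo.IsMaximalIn (Cfsg.Geo.omegaGL Q)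
      (Cfsg.Geo.tensorProductSubgroup 2 n₂ e P ⊓ Cfsg.Geo.omegaGL Q) := by
  obtain ⟨Q', rfl, hnd⟩ := exists_quadraticForm hQ
  have hcard : Fintype.card ι = 2 * n₂ := by
    rw [Fintype.card_congr e, Fintype.card_prod, Fintype.card_fin, Fintype.card_fin]
  have hG := good_of_card hnd (by omega)
  have hF : ∃ c : F, c ≠ 0 ∧ c ≠ 1 := by
    classical
    have h4 : 2 < (Finset.univ : Finset F).card := by rw [Finset.card_univ]; omega
    obtain ⟨c, hc⟩ : ∃ c, c ∉ ({0, 1} : Finset F) := by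
      by_contra hcon
      push Not at hcon
      have h5 := Finset.card_le_card (s := (Finset.univ : Finset F)) (t := {0, 1})
        (fun c _ => hcon c)
      have h6 : ({0, 1} : Finset F).card ≤ 2 := Finset.card_le_two
      omega
    simp only [Finset.mem_insert, Finset.mem_singleton, not_or] at hc
    exact ⟨c, hc⟩
  refine isMaximalIn_omegaGL hG _
    ((Cfsg.Geo.tensorProductSubgroup 2 n₂ e P).map (glEquiv ι F).toMonoidHom) (fun g => ?_) ?_
  · exact (Subgroup.mem_map_iff_mem (glEquiv ι F).injective).symm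
  · refine maximal hG (model e P hnd fun x y => hpure x y) hF ?_ fun g => ?_
    · rw [Module.finrank_fintype_fun_eq_card, Fintype.card_fin]
      exact h5
    · obtain ⟨g, rfl⟩ := (glEquiv ι F).surjective g
      rw [← mem_iff_isTens (by omega) e P g]
      exact Subgroup.mem_map_iff_mem (glEquiv ι F).injective

end Cfsg.Agent.H931.TenTwo
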