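import Cfsg.Agent.H931.TenTwoC

/-!
`maximal`: `(GL₂(F) ∘ GL(W)) ∩ E Q` is maximal in `E Q` for the quadratic form `Q (e₁ ⊗ a + e₂ ⊗ b) = B a b` on
`F² ⊗ W`, `B` a nondegenerate alternating form on `W`, `dim W ≥ 5` (so `≥ 6`), `|F| ≥ 3`.
-/

set_option autoImplicit false

namespace Cfsg.Agent.H931.TenTwo

open QuadraticMap Cfsg.Agent.LieClassical.OrthCore Cfsg.Agent.LieClassical.OrthTrans
  Cfsg.Agent.LieClassical.OrthFinite Cfsg.Agent.LieClassical.OrthSimple Cfsg.Agent.H885.RootT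

variable {F V W : Type*} [Field F] [AddCommGroup V] [Module F V] [AddCommGroup W] [Module F W]
  {Q : QuadraticForm F V} {B : LinearMap.BilinForm F W} {φ : (W × W) ≃ₗ[F] V}

/-! ### `SL₂(F) ⊗ 1` lies in `E Q` -/

/-- Squares of isometries lie in `E Q`. -/
theorem sq_mem_E [FiniteDimensional F V] (hG : Good Q) {g : V ≃ₗ[F] V} (hg : g ∈ O Q) :
    g * g ∈ E Q := by
  have hmul : ∀ x y : V ≃ₗ[F] V, x ∈ O Q → y ∈ O Q → x * x ∈ E Q → y * y ∈ E Q →
      x * y * (x * y) ∈ E Q := by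
    intro x y hx hy h1 h2
    have h3 : x⁻¹ * y * x * y⁻¹ ∈ E Q := by
      apply hG.commutator_le_E
      have := Subgroup.commutator_mem_commutator ((O Q).inv_mem hx) hy
      rwa [commutatorElement_def, inv_inv] at this
    have h4 : x * y * (x * y) = x * x * (x⁻¹ * y * x * y⁻¹) * (y * y) := by group
    rw [h4]
    exact (E Q).mul_mem ((E Q).mul_mem h1 h3) h2
  rw [O_eq_closure hG.nondeg] at hg
  have key : g ∈ O Q ∧ g * g ∈ E Q := by
    induction hg using Subgroup.closure_induction with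
    | mem x hx =>
      rcases hx with hx | hx
      · obtain ⟨v, hv, rfl⟩ := hx
        exact ⟨refl_mem_O hv, by rw [refl_mul_self]; exact (E Q).one_mem⟩
      · obtain ⟨u, w, hu, hw, rfl⟩ := hx
        exact ⟨siegel_mem_O hu hw, (E Q).mul_mem (siegel_mem_E hu hw) (siegel_mem_E hu hw)⟩
    | one => exact ⟨(O Q).one_mem, by rw [one_mul]; exact (E Q).one_mem⟩
    | mul x y _ _ hx hy => exact ⟨(O Q).mul_mem hx.1 hy.1, hmul x y hx.1 hy.1 hx.2 hy.2⟩
    | inv x _ hx =>
      refine ⟨(O Q).inv_mem hx.1, ?_⟩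
      rw [← mul_inv_rev]
      exact (E Q).inv_mem hx.2
  exact key.2

/-- Transport of a linear automorphism of `W × W` to `V`. -/
def tr (φ : (W × W) ≃ₗ[F] V) (h : (W × W) ≃ₗ[F] (W × W)) : V ≃ₗ[F] V := (φ.symm.trans h).trans φ

theorem tr_apply (h : (W × W) ≃ₗ[F] (W × W)) (z : W × W) : tr φ h (φ z) = φ (h z) := by
  show φ (h (φ.symm (φ z))) = _
  rw [LinearEquiv.symm_apply_apply]

/-- `(a, b) ↦ (a + c b, b)`. -/
def upE (W : Type*) [AddCommGroup W] [Module F W] (c : F) : (W × W) ≃ₗ[F] (W × W) where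
  toFun z := (z.1 + c • z.2, z.2)
  map_add' x y := by
    ext
    · simp only [Prod.fst_add, Prod.snd_add]; module
    · rfl
  map_smul' t x := by
    ext
    · simp only [Prod.smul_fst, Prod.smul_snd, RingHom.id_apply]; module
    · rfl
  invFun z := (z.1 - c • z.2, z.2)
  left_inv x := by
    ext
    · simp only [add_sub_cancel_right]
    · rfl
  right_inv x := by
    ext
    · simp only [sub_add_cancel]
    · rfl

/-- `(a, b) ↦ (b, -a)`. -/
def swE (W : Type*) [AddCommGroup W] [Module F W] : (W × W) ≃ₗ[F] (W × W) where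
  toFun z := (z.2, -z.1)
  map_add' x y := by
    ext
    · rfl
    · simp only [Prod.fst_add, Prod.snd_add]; abel
  map_smul' t x := by
    ext
    · rfl
    · simp only [Prod.smul_fst, RingHom.id_apply, Prod.smul_snd, smul_neg]
  invFun z := (-z.2, z.1)
  left_inv x := by
    ext
    · simp only [neg_neg]
    · rfl
  right_inv x := by
    ext
    · rfl
    · simp only [neg_neg]

/-- `(a, b) ↦ (c a, c⁻¹ b)`. -/
def diE (W : Type*) [AddCommGroup W] [Module F W] {c : F} (hc : c ≠ 0) :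
    (W × W) ≃ₗ[F] (W × W) where
  toFun z := (c • z.1, c⁻¹ • z.2)
  map_add' x y := by
    ext
    · simp only [Prod.fst_add, smul_add]
    · simp only [Prod.snd_add, smul_add]
  map_smul' t x := by
    ext
    · simp only [Prod.smul_fst, RingHom.id_apply]; module
    · simp only [Prod.smul_snd, RingHom.id_apply]; module
  invFun z := (c⁻¹ • z.1, c • z.2)
  left_inv x := by
    ext
    · simp only [smul_smul, inv_mul_cancel₀ hc, one_smul]
    · simp only [smul_smul, mul_inv_cancel₀ hc, one_smul]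
  right_inv x := by
    ext
    · simp only [smul_smul, mul_inv_cancel₀ hc, one_smul]
    · simp only [smul_smul, inv_mul_cancel₀ hc, one_smul]

theorem up_apply (c : F) (a b : W) : tr φ (upE W c) (φ (a, b)) = φ (a + c • b, b) := tr_apply _ _

theorem sw_apply (a b : W) : tr φ (swE W) (φ (a, b)) = φ (b, -a) := tr_apply _ _

theorem sw_inv_apply (a b : W) : (tr φ (swE W))⁻¹ (φ (a, b)) = φ (-b, a) := by
  show (tr φ (swE W)).symm (φ (a, b)) = _
  rw [LinearEquiv.symm_apply_eq, sw_apply, neg_neg]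

theorem di_apply {c : F} (hc : c ≠ 0) (a b : W) :
    tr φ (diE W hc) (φ (a, b)) = φ (c • a, c⁻¹ • b) := tr_apply _ _

theorem di_inv_apply {c : F} (hc : c ≠ 0) (a b : W) :
    (tr φ (diE W hc))⁻¹ (φ (a, b)) = φ (c⁻¹ • a, c • b) := by
  show (tr φ (diE W hc)).symm (φ (a, b)) = _
  rw [LinearEquiv.symm_apply_eq, di_apply, smul_smul, smul_smul, mul_inv_cancel₀ hc,
    inv_mul_cancel₀ hc, one_smul, one_smul]

theorem ext_phi {g h : V ≃ₗ[F] V} (e : ∀ a b : W, g (φ (a, b)) = h (φ (a, b))) : g = h := by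
  apply LinearEquiv.ext
  intro v
  obtain ⟨⟨a, b⟩, rfl⟩ := φ.surjective v
  exact e a b

theorem mem_O_of (hM : Model Q B φ) {g : V ≃ₗ[F] V} (e : ∀ a b : W, Q (g (φ (a, b))) = B a b) :
    g ∈ O Q := by
  rw [mem_O]
  intro v
  obtain ⟨⟨a, b⟩, rfl⟩ := φ.surjective v
  rw [e, hM.form]

theorem up_mem_O (hM : Model Q B φ) (c : F) : tr φ (upE W c) ∈ O Q := by
  apply mem_O_of hM
  intro a b
  rw [up_apply, hM.form, map_add, LinearMap.add_apply, map_smul, LinearMap.smul_apply, hM.alt,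
    smul_zero, add_zero]

theorem sw_mem_O (hM : Model Q B φ) : tr φ (swE W) ∈ O Q := by
  apply mem_O_of hM
  intro a b
  rw [sw_apply, hM.form, map_neg, hM.skew a b]

theorem di_mem_O (hM : Model Q B φ) {c : F} (hc : c ≠ 0) : tr φ (diE W hc) ∈ O Q := by
  apply mem_O_of hM
  intro a b
  rw [di_apply, hM.form, map_smul, map_smul, LinearMap.smul_apply, smul_smul,
    inv_mul_cancel₀ hc, one_smul]

theorem up_mem_E [FiniteDimensional F V] (hG : Good Q) (hM : Model Q B φ)
    (hF : ∃ c : F, c ≠ 0 ∧ c ≠ 1) (c : F) : tr φ (upE W c) ∈ E Q := by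
  by_cases h2 : (2 : F) = 0
  · obtain ⟨d, hd0, hd1⟩ := hF
    have hd2 : d ^ 2 - 1 ≠ 0 := by
      intro h
      have h3 : (d - 1) ^ 2 = 0 := by linear_combination h - (d - 1) * h2
      exact hd1 (sub_eq_zero.1 (pow_eq_zero_iff (two_ne_zero)|>.1 h3))
    have h3 : tr φ (upE W c) = tr φ (diE W hd0) * tr φ (upE W (c / (d ^ 2 - 1))) *
        (tr φ (diE W hd0))⁻¹ * (tr φ (upE W (c / (d ^ 2 - 1))))⁻¹ := by
      rw [eq_mul_inv_iff_mul_eq, eq_mul_inv_iff_mul_eq]
      apply ext_phi (φ := φ)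
      intro a b
      rw [LinearEquiv.mul_apply, LinearEquiv.mul_apply, LinearEquiv.mul_apply, di_apply, up_apply,
        up_apply, up_apply, di_apply, phi_inj]
      refine ⟨?_, rfl⟩
      have h4 : c + c / (d ^ 2 - 1) = d ^ 2 * (c / (d ^ 2 - 1)) := by
        field_simp
        ring
      have h5 : d • a + (c / (d ^ 2 - 1)) • d⁻¹ • b + c • d⁻¹ • b =
          d • a + (c + c / (d ^ 2 - 1)) • d⁻¹ • b := by module
      rw [h5, h4, smul_add, smul_smul, smul_smul]
      congr 2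
      field_simp
    rw [h3]
    apply hG.commutator_le_E
    rw [← commutatorElement_def]
    exact Subgroup.commutator_mem_commutator (di_mem_O hM hd0) (up_mem_O hM _)
  · have h3 : tr φ (upE W c) = tr φ (upE W (c / 2)) * tr φ (upE W (c / 2)) := by
      apply ext_phi (φ := φ)
      intro a b
      rw [LinearEquiv.mul_apply, up_apply, up_apply, up_apply, phi_inj]
      refine ⟨?_, rfl⟩
      have h4 : c / 2 + c / 2 = c := by
        field_simp
        ring
      rw [add_assoc, ← add_smul, h4]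
    rw [h3]
    exact sq_mem_E hG (up_mem_O hM _)

/-- `(a, b) ↦ (a, b + c a)`. -/
def lo (φ : (W × W) ≃ₗ[F] V) (c : F) : V ≃ₗ[F] V :=
  (tr φ (swE W))⁻¹ * tr φ (upE W (-c)) * tr φ (swE W)

theorem lo_apply (c : F) (a b : W) : lo φ c (φ (a, b)) = φ (a, b + c • a) := by
  rw [lo, LinearEquiv.mul_apply, LinearEquiv.mul_apply, sw_apply, up_apply, sw_inv_apply, phi_inj]
  exact ⟨neg_neg a, by module⟩

theorem lo_mem_E [FiniteDimensional F V] (hG : Good Q) (hM : Model Q B φ)
    (hF : ∃ c : F, c ≠ 0 ∧ c ≠ 1) (c : F) : lo φ c ∈ E Q := by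
  have := conj_mem_E ((O Q).inv_mem (sw_mem_O hM)) (up_mem_E hG hM hF (-c))
  rwa [inv_inv] at this

/-! ### The tensor product group -/

theorem IsTens.of_apply {g : V ≃ₗ[F] V} (α β γ δ : F)
    (h : ∀ a b, g (φ (a, b)) = φ (α • a + β • b, γ • a + δ • b)) : IsTens φ g :=
  ⟨α, β, γ, δ, LinearEquiv.refl F W, h⟩

theorem big_of_le [FiniteDimensional F V] (hG : Good Q) (hM : Model Q B φ)
    (hF : ∃ c : F, c ≠ 0 ∧ c ≠ 1) {T : Subgroup (V ≃ₗ[F] V)}
    (hT : ∀ g, g ∈ T ↔ IsTens φ g) {M : Subgroup (V ≃ₗ[F] V)} (h1 : T ⊓ E Q ≤ M) (h2 : M ≤ E Q) :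
    Big M Q φ where
  le := h2.trans E_le_O
  root w c := by
    have hx := hM.sing1 w
    have hw : QuadraticMap.polar Q (φ (w, 0)) (φ (0, c • w)) = 0 := by
      rw [hM.polar]
      simp [hM.alt]
    refine ⟨hx, hw, h1 ⟨(hT _).2 ?_, siegel_mem_E hx hw⟩⟩
    refine ⟨1, 0, 0, 1, LinearEquiv.ofLinearMap
      (LinearMap.id + (c • B w).smulRight w) (LinearMap.id - (c • B w).smulRight w) ?_ ?_, ?_⟩
    · ext a
      simp [hM.alt]
    · ext a
      simp [hM.alt]
    · intro a b
      rw [hM.siegel hx hw, phi_inj]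
      simp only [map_zero, LinearMap.zero_apply, map_smul, smul_zero, smul_eq_mul, zero_add,
        add_zero, sub_zero, LinearEquiv.coe_ofLinearMap, LinearMap.add_apply, LinearMap.id_apply,
        LinearMap.smulRight_apply, LinearMap.smul_apply, one_smul, zero_smul, hM.skew a w]
      constructor
      · module
      · module
  up c := by
    refine ⟨tr φ (upE W c), h1 ⟨(hT _).2 (IsTens.of_apply 1 c 0 1 fun a b => ?_),
      up_mem_E hG hM hF c⟩, up_apply c⟩
    rw [up_apply, phi_inj]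
    constructor
    · module
    · module
  low c := by
    refine ⟨lo φ c, h1 ⟨(hT _).2 (IsTens.of_apply 1 0 c 1 fun a b => ?_),
      lo_mem_E hG hM hF c⟩, lo_apply c⟩
    rw [lo_apply, phi_inj]
    constructor
    · module
    · module

/-- **The tensor product subgroup is maximal.** -/
theorem maximal [FiniteDimensional F V] [FiniteDimensional F W] (hG : Good Q) (hM : Model Q B φ)
    (hF : ∃ c : F, c ≠ 0 ∧ c ≠ 1) (h5 : 5 ≤ Module.finrank F W) {T : Subgroup (V ≃ₗ[F] V)}
    (hT : ∀ g, g ∈ T ↔ IsTens φ g) : Cfsg.Geo.IsMaximalIn (E Q) (T ⊓ E Q) := by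
  refine ⟨lt_of_le_of_ne inf_le_right ?_, fun M h1 h2 => ?_⟩
  · intro heq
    rw [inf_eq_right] at heq
    have hnt : Nontrivial W := Module.nontrivial_of_finrank_pos (R := F) (by omega)
    obtain ⟨a, ha⟩ := exists_ne (0 : W)
    obtain ⟨y, u, h1, -, h3, -, h6⟩ := hM.exists_pair h5 a a
    have hp : φ (a, 0) ≠ 0 := by
      rw [← phi_zero (φ := φ), Ne, phi_inj]
      exact fun h => ha h.1
    have hz : φ (a, y) ≠ 0 := by
      rw [← phi_zero (φ := φ), Ne, phi_inj]
      exact fun h => ha h.1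
    obtain ⟨g, hg, hgz⟩ := hG.trans_sing (hM.sing1 a) (by rw [hM.form, h1]) hp hz
    obtain ⟨α, β, γ, δ, r, hr⟩ := (hT g).1 (heq hg)
    rw [hr, map_zero, smul_zero, smul_zero, add_zero, add_zero, phi_inj] at hgz
    have hα : α ≠ 0 := by
      rintro rfl
      exact ha (by rw [← hgz.1, zero_smul])
    have hra : r a = α⁻¹ • a := by
      calc r a = α⁻¹ • (α • r a) := by rw [smul_smul, inv_mul_cancel₀ hα, one_smul]
        _ = α⁻¹ • a := by rw [hgz.1]
    apply h6
    rw [← hgz.2, hra, map_smul, map_smul, LinearMap.smul_apply, LinearMap.smul_apply, h3, smul_zero,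
      smul_zero]
  · have hB := big_of_le hG hM hF hT h1 h2
    by_cases h : ∀ g ∈ M, ∀ w : W, ∃ v, ∀ s t : F, InL φ v (g (φ (s • w, t • w)))
    · left
      refine le_antisymm (le_inf (fun g hg => (hT g).2 ?_) h2) h1
      exact isTens_of_inL (by omega) (h g hg)
    · right
      push Not at h
      obtain ⟨g, hg, w, hw⟩ := h
      exact le_antisymm h2 (hB.E_le_of_moves hG hM h5 hF hg hw)

end Cfsg.Agent.H931.TenTwo
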